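import Mathlib
import Cfsg.Agent.Lib.UniqueInvolution
import Cfsg.Agent.Lib.ZassSL25.Acting
import Cfsg.Agent.Lib.ZassSL25.Local

/-!
Solvable groups with a unique involution and trivial odd core.
-/

set_option autoImplicit false

namespace Cfsg.Agent.Lib.ZassSL25

open Subgroup

universe u v

/-- The map of the quaternion group of order eight given by the images of the two generators. -/
def qeightFun (p : QuaternionGroup 2 × QuaternionGroup 2) : QuaternionGroup 2 → QuaternionGroup 2
  | .a i => p.1 ^ i.val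
  | .xa i => p.2 * p.1 ^ i.val

/-- Possible images of the two generators. -/
def QEightPair (p : QuaternionGroup 2 × QuaternionGroup 2) : Prop :=
  p.1 ^ 2 ≠ 1 ∧ p.2 ^ 2 ≠ 1 ∧ p.1 * p.2 ≠ p.2 * p.1

instance : DecidablePred QEightPair := fun p => by unfold QEightPair; infer_instance

theorem qeight_pair_card : Fintype.card {p : QuaternionGroup 2 × QuaternionGroup 2 // QEightPair p} = 24 := by
  decide +kernel

theorem qeight_pair_iterate : ∀ p : QuaternionGroup 2 × QuaternionGroup 2, QEightPair p →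
    ∀ q, (qeightFun p)^[12] q = q := by
  decide +kernel

theorem qeight_apply (σ : MulAut (QuaternionGroup 2)) :
    QEightPair (σ (.a 1), σ (.xa 0)) ∧ ∀ q, σ q = qeightFun (σ (.a 1), σ (.xa 0)) q := by
  refine ⟨⟨?_, ?_, ?_⟩, fun q => ?_⟩
  · rw [← map_pow, ne_eq, EmbeddingLike.map_eq_one_iff]; decide
  · rw [← map_pow, ne_eq, EmbeddingLike.map_eq_one_iff]; decide
  · rw [← map_mul, ← map_mul, σ.injective.ne_iff]; decide
  · cases q with
    | a i =>
      show σ (.a i) = σ (.a 1) ^ i.val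
      rw [← map_pow, QuaternionGroup.a_one_pow, ZMod.natCast_zmod_val]
    | xa i =>
      show σ (.xa i) = σ (.xa 0) * σ (.a 1) ^ i.val
      rw [← map_pow, QuaternionGroup.a_one_pow, ZMod.natCast_zmod_val, ← map_mul,
        QuaternionGroup.xa_mul_a, zero_add]

theorem qeight_aut_card : Nat.card (MulAut (QuaternionGroup 2)) ≤ 24 := by
  rw [← qeight_pair_card, ← Nat.card_eq_fintype_card]
  refine Nat.card_le_card_of_injective (fun σ => ⟨_, (qeight_apply σ).1⟩) fun σ τ e => ?_
  refine MulEquiv.ext fun q => ?_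
  have e' : ((σ (.a 1), σ (.xa 0)) : QuaternionGroup 2 × QuaternionGroup 2) = (τ (.a 1), τ (.xa 0)) :=
    congrArg Subtype.val e
  rw [(qeight_apply σ).2 q, (qeight_apply τ).2 q, e']

theorem qeight_aut_pow (σ : MulAut (QuaternionGroup 2)) : σ ^ 12 = 1 := by
  refine MulEquiv.ext fun q => ?_
  have h : ∀ (n : ℕ) (x : QuaternionGroup 2), (σ ^ n) x = (⇑σ)^[n] x := by
    intro n
    induction n with
    | zero => intro x; rfl
    | succ n ih => intro x; rw [pow_succ, MulAut.mul_apply, ih, Function.iterate_succ_apply]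
  rw [h, MulAut.one_apply, show (⇑σ) = qeightFun (σ (.a 1), σ (.xa 0)) from funext (qeight_apply σ).2]
  exact qeight_pair_iterate _ (qeight_apply σ).1 q

theorem ker_equiv_comp {A B C : Type*} [Group A] [Group B] [Group C] (f : A →* B) (e : B ≃* C) :
    (e.toMonoidHom.comp f).ker = f.ker := by
  ext x
  simp [MonoidHom.mem_ker]

variable {G : Type u} [Group G] [Finite G]

theorem isCyclic_of_card_four {W : Subgroup G} (hW : Nat.card W = 4)
    {z : G} (huniq : ∀ t : G, orderOf t = 2 → t = z) : ∃ a, orderOf a = 4 ∧ W = zpowers a := by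
  by_cases h : ∃ a ∈ W, orderOf a = 4
  · obtain ⟨a, ha, ha4⟩ := h
    exact ⟨a, ha4, (eq_of_le_of_card_ge (zpowers_le.2 ha) (by rw [hW, Nat.card_zpowers, ha4])).symm⟩
  · exfalso
    push Not at h
    have hle : ∀ w ∈ W, w = 1 ∨ w = z := fun w hw => by
      have hd : orderOf w ∣ 2 ^ 2 := (W.orderOf_dvd_natCard hw).trans (by rw [hW]; rfl)
      obtain ⟨k, hk, hk'⟩ := (Nat.dvd_prime_pow Nat.prime_two).1 hd
      interval_cases k
      · exact Or.inl (orderOf_eq_one_iff.1 hk')
      · exact Or.inr (huniq w hk')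
      · exact absurd hk' (h w hw)
    have : Nat.card W ≤ Nat.card (({1, z} : Set G) : Type u) :=
      Nat.card_mono (s := (W : Set G)) (Set.toFinite _) fun w hw => by
        rcases hle w hw with e | e <;> simp [e]
    rw [hW, Nat.card_coe_set_eq] at this
    have h2 := Set.ncard_insert_le (1 : G) {z}
    rw [Set.ncard_singleton] at h2
    omega

omit [Finite G] in
/-- An odd order element normalising a 2-group and a cyclic subgroup of index two centralises it. -/
theorem odd_centralizes {z : G} (huniq : ∀ t : G, orderOf t = 2 → t = z) (hzc : ∀ g : G, Commute g z)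
    [Finite G] {Q : Subgroup G} (hQn : Q.Normal) {a b g : G} {k : ℕ} (hb : b ∈ Q)
    (hak : orderOf a = 2 ^ (k + 1))
    (hdec : ∀ y ∈ Q, y ∈ zpowers a ∨ b⁻¹ * y ∈ zpowers a)
    (hg : Odd (orderOf g)) (hn : g * a * g⁻¹ ∈ zpowers a) : g ∈ centralizer (Q : Set G) := by
  have hca : Commute g a := by
    refine commute_of_coprime_cyclic Nat.prime_two hak hn ?_ (Nat.coprime_two_right.2 hg)
    rw [huniq (a ^ 2 ^ k) ?_]
    · exact hzc g
    · rw [orderOf_pow' _ (by positivity), hak, Nat.gcd_eq_right (pow_dvd_pow 2 k.le_succ), pow_succ,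
        Nat.mul_div_cancel_left _ (by positivity)]
  have hcb : Commute g b := by
    rcases hdec (g * b * g⁻¹) (hQn.conj_mem b hb g) with e | e
    · obtain ⟨j, hj⟩ := mem_zpowers_iff.1 e
      have : b = a ^ j := by
        calc b = g⁻¹ * (g * b * g⁻¹) * g := by group
          _ = a ^ j := by rw [← hj, mul_assoc, ((hca.zpow_right j).symm).eq, inv_mul_cancel_left]
      rw [this]
      exact hca.zpow_right j
    · obtain ⟨j, hj⟩ := mem_zpowers_iff.1 e
      have h1 : g * b * g⁻¹ = b * a ^ j := by rw [hj, mul_inv_cancel_left]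
      have h2 : ∀ m : ℕ, g ^ m * b * (g ^ m)⁻¹ = b * a ^ (j * m) := by
        intro m
        induction m with
        | zero => simp
        | succ m ih =>
          calc g ^ (m + 1) * b * (g ^ (m + 1))⁻¹ = g * (g ^ m * b * (g ^ m)⁻¹) * g⁻¹ := by rw [pow_succ']; group
            _ = g * b * g⁻¹ * (g * a ^ (j * m) * g⁻¹) := by rw [ih]; group
            _ = b * a ^ j * a ^ (j * m) := by rw [h1, (hca.zpow_right _).eq, mul_inv_cancel_right]
            _ = b * a ^ (j * ((m + 1 : ℕ) : ℤ)) := by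
              rw [mul_assoc, ← zpow_add]; congr 2; push_cast; ring
      have h3 : (a ^ j) ^ orderOf g = 1 := by
        have := h2 (orderOf g)
        rw [pow_orderOf_eq_one, inv_one, mul_one, one_mul] at this
        rw [← zpow_natCast, ← zpow_mul]
        exact mul_left_cancel (a := b) (this.symm.trans (mul_one b).symm)
      have h4 : a ^ j = 1 := by
        refine eq_one_of_odd_two (Odd.of_dvd_nat hg (orderOf_dvd_of_pow_eq_one h3)) ?_
        obtain ⟨i, -, hi⟩ := (Nat.dvd_prime_pow Nat.prime_two).1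
          ((orderOf_dvd_of_mem_zpowers (zpow_mem_zpowers a j)).trans hak.dvd)
        exact ⟨i, hi⟩
      rw [h4, mul_one] at h1
      exact mul_inv_eq_iff_eq_mul.1 h1
  rw [mem_centralizer_iff]
  intro y hy
  rcases hdec y hy with e | e <;> obtain ⟨j, hj⟩ := mem_zpowers_iff.1 e
  · rw [← hj]; exact (hca.zpow_right j).symm.eq
  · rw [show y = b * a ^ j by rw [hj, mul_inv_cancel_left]]
    exact (hcb.mul_right (hca.zpow_right j)).symm.eq

/-- A largest normal 2-subgroup contains its centralizer. -/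
theorem exists_twoCore [Group.IsSolvable G] (hcore : ∀ N : Subgroup G, N.Normal → Odd (Nat.card N) → N = ⊥) :
    ∃ Q : Subgroup G, Q.Normal ∧ IsPGroup 2 Q ∧ (∀ W : Subgroup G, W.Normal → IsPGroup 2 W → W ≤ Q) ∧
      centralizer (Q : Set G) ≤ Q := by
  classical
  haveI : Fact (Nat.Prime 2) := ⟨Nat.prime_two⟩
  obtain ⟨Q, ⟨hQn, hQp⟩, hmax⟩ := (Set.toFinite {N : Subgroup G | N.Normal ∧ IsPGroup 2 N}).exists_maximal
    ⟨⊥, inferInstance, IsPGroup.of_bot⟩
  haveI := hQn
  have hle : ∀ W : Subgroup G, W.Normal → IsPGroup 2 W → W ≤ Q := fun W hW hWp => by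
    have h1 : Q ⊔ W ∈ {N : Subgroup G | N.Normal ∧ IsPGroup 2 N} :=
      ⟨Subgroup.sup_normal Q W, IsPGroup.to_sup_of_normal_left hQp hWp⟩
    exact le_sup_right.trans (hmax h1 le_sup_left)
  refine ⟨Q, hQn, hQp, hle, ?_⟩
  by_contra hC
  set C := centralizer (Q : Set G)
  haveI : C.Normal := inferInstance
  let π := QuotientGroup.mk' Q
  -- the last nontrivial term of the derived series of the image of the centralizer
  set I := C.map π
  haveI : I.Normal := Normal.map inferInstance π (QuotientGroup.mk'_surjective Q)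
  have hI : I ≠ ⊥ := by
    rw [ne_eq, Subgroup.map_eq_bot_iff, QuotientGroup.ker_mk']
    exact hC
  obtain ⟨A, hAn, hAI, hA0, hAc⟩ : ∃ A : Subgroup (G ⧸ Q), A.Normal ∧ A ≤ I ∧ A ≠ ⊥ ∧ ⁅A, A⁆ = ⊥ := by
    obtain ⟨n, hn⟩ := (inferInstance : Group.IsSolvable (G ⧸ Q)).solvable
    let f : ℕ → Subgroup (G ⧸ Q) := fun k => derivedSeries (G ⧸ Q) k ⊓ I
    have hex : ∃ k, f k = ⊥ := ⟨n, by simp [f, hn]⟩
    obtain ⟨k, hk⟩ : ∃ k, Nat.find hex = k + 1 := by
      rcases h : Nat.find hex with _ | k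
      · have := Nat.find_spec hex
        rw [h] at this
        simp [f] at this
        exact absurd this hI
      · exact ⟨k, rfl⟩
    haveI := derivedSeries_normal (G ⧸ Q) k
    refine ⟨f k, inferInstance, inf_le_right, Nat.find_min hex (by omega), ?_⟩
    refine eq_bot_iff.2 ((le_inf ?_ ?_).trans (hk ▸ (Nat.find_spec hex)).le)
    · exact commutator_mono inf_le_left inf_le_left
    · exact (commutator_le_left _ _).trans inf_le_right
  haveI := hAn
  obtain ⟨p, hp, hpA⟩ := Nat.exists_prime_and_dvd (n := Nat.card A) (by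
    rw [ne_eq, ← eq_bot_iff_card]; exact hA0)
  haveI := Fact.mk hp
  obtain ⟨x, hx⟩ := exists_prime_orderOf_dvd_card' (G := A) p hpA
  set W := A.comap π ⊓ C
  haveI : (A.comap π).Normal := Normal.comap hAn π
  haveI hWn : W.Normal := inferInstance
  -- commutators and `p`-th powers
  have hcommQ : ∀ u ∈ W, ∀ v ∈ W, u * v * u⁻¹ * v⁻¹ ∈ Q := fun u hu v hv => by
    rw [← QuotientGroup.eq_one_iff]
    have := commutator_mem_commutator (H₁ := A) (H₂ := A) (Subgroup.mem_comap.1 hu.1) (Subgroup.mem_comap.1 hv.1)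
    rw [hAc, mem_bot, commutatorElement_def] at this
    simpa [π] using this
  obtain ⟨c, hcC, hcx⟩ := Subgroup.mem_map.1 (hAI x.2)
  have hcW : c ∈ W := ⟨show π c ∈ A from hcx ▸ x.2, hcC⟩
  have hcQ : c ∉ Q := fun e => by
    have : π c = 1 := (QuotientGroup.eq_one_iff c).2 e
    rw [hcx] at this
    rw [← Subgroup.orderOf_coe, this, orderOf_one] at hx
    exact hp.ne_one hx.symm
  by_cases hp2 : p = 2
  · -- the elements with square in `Q`
    subst hp2
    let V : Subgroup G :=
      { carrier := {w | w ∈ W ∧ w ^ 2 ∈ Q}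
        one_mem' := ⟨one_mem _, by simp⟩
        mul_mem' := fun {u v} hu hv => ⟨mul_mem hu.1 hv.1, by
          have h := hcommQ v hv.1 u hu.1
          rw [show (u * v) ^ 2 = u * (v * u * v⁻¹ * u⁻¹) * u⁻¹ * u ^ 2 * v ^ 2 by simp only [pow_two]; group]
          exact mul_mem (mul_mem (hQn.conj_mem _ h u) hu.2) hv.2⟩
        inv_mem' := fun {u} hu => ⟨inv_mem hu.1, by rw [inv_pow]; exact inv_mem hu.2⟩ }
    have hVn : V.Normal := ⟨fun w hw g => ⟨hWn.conj_mem w hw.1 g, by rw [conj_pow]; exact hQn.conj_mem _ hw.2 g⟩⟩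
    have hVp : IsPGroup 2 V := fun w => by
      obtain ⟨k, hk⟩ := hQp ⟨(w : G) ^ 2, w.2.2⟩
      refine ⟨k + 1, Subtype.ext ?_⟩
      have := congrArg Subtype.val hk
      push_cast at this ⊢
      rw [pow_succ', pow_mul]; exact this
    refine hcQ (hle V hVn hVp ⟨hcW, ?_⟩)
    rw [← QuotientGroup.eq_one_iff]
    show π (c ^ 2) = 1
    rw [map_pow, hcx, ← SubgroupClass.coe_pow, ← hx, pow_orderOf_eq_one]; rfl
  · have hodd : Odd p := odd_of_prime_ne_two hp hp2
    have habel : ∀ u ∈ W, ∀ v ∈ W, u ^ p ∈ Q → Commute u v := by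
      intro u hu v hv hup
      set d := u * v * u⁻¹ * v⁻¹
      have hdQ := hcommQ u hu v hv
      have hdc : ∀ w ∈ W, Commute d w := fun w hw => mem_centralizer_iff.1 hw.2 d hdQ
      have h1 : ∀ n : ℕ, u ^ n * v * (u ^ n)⁻¹ = d ^ n * v := by
        intro n
        induction n with
        | zero => simp
        | succ n ih =>
          calc u ^ (n + 1) * v * (u ^ (n + 1))⁻¹ = u * (u ^ n * v * (u ^ n)⁻¹) * u⁻¹ := by rw [pow_succ']; group
            _ = u * d ^ n * v * u⁻¹ := by rw [ih]; group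
            _ = d ^ n * (u * v * u⁻¹) := by rw [← ((hdc u hu).pow_left n).eq]; group
            _ = d ^ (n + 1) * v := by
              rw [pow_succ, mul_assoc (d ^ n) d v, show d * v = u * v * u⁻¹ by simp [d]]
      have h2 := h1 p
      rw [(show Commute (u ^ p) v from mem_centralizer_iff.1 hv.2 _ hup).eq, mul_inv_cancel_right] at h2
      have h3 : d = 1 := by
        refine eq_one_of_odd_two (Odd.of_dvd_nat hodd (orderOf_dvd_of_pow_eq_one ?_)) ?_
        · exact (mul_eq_right.1 h2.symm)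
        · exact orderOf_isPGroup hQp hdQ
      exact commutatorElement_eq_one_iff_commute.1 (by rw [commutatorElement_def]; exact h3)
    obtain ⟨k, hk⟩ := IsPGroup.iff_card.1 hQp
    let V : Subgroup G :=
      { carrier := {w | w ∈ W ∧ w ^ p ∈ Q ∧ w ^ p = 1}
        one_mem' := ⟨one_mem _, by simp, by simp⟩
        mul_mem' := fun {u v} hu hv => by
          have e : (u * v) ^ p = 1 := by
            rw [(habel u hu.1 v hv.1 hu.2.1).mul_pow, hu.2.2, hv.2.2, one_mul]
          exact ⟨mul_mem hu.1 hv.1, e ▸ one_mem _, e⟩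
        inv_mem' := fun {u} hu => ⟨inv_mem hu.1, by rw [inv_pow]; exact inv_mem hu.2.1,
          by rw [inv_pow, hu.2.2, inv_one]⟩ }
    have hVn : V.Normal := ⟨fun w hw g => ⟨hWn.conj_mem w hw.1 g,
      by rw [conj_pow]; exact hQn.conj_mem _ hw.2.1 g, by rw [conj_pow, hw.2.2, mul_one, mul_inv_cancel]⟩⟩
    have hVp : IsPGroup p V := fun w => ⟨1, Subtype.ext (by push_cast; rw [pow_one]; exact w.2.2.2)⟩
    obtain ⟨i, hi⟩ := IsPGroup.iff_card.1 hVp
    have hV := hcore V hVn (hi ▸ hodd.pow)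
    have hcp : c ^ p ∈ Q := by
      rw [← QuotientGroup.eq_one_iff]
      show π (c ^ p) = 1
      rw [map_pow, hcx, ← SubgroupClass.coe_pow, ← hx, pow_orderOf_eq_one]; rfl
    have hmem : c ^ 2 ^ k ∈ V := by
      have e : (c ^ 2 ^ k) ^ p = 1 := by
        rw [← pow_mul, mul_comm, pow_mul, ← hk]
        exact congrArg Subtype.val (pow_card_eq_one' (x := (⟨c ^ p, hcp⟩ : Q)))
      exact ⟨pow_mem hcW _, e ▸ one_mem _, e⟩
    rw [hV, mem_bot] at hmem
    refine hcQ (mem_of_coprime_pows Q ((Nat.coprime_two_left.2 hodd).pow_left k) (by rw [hmem]; exact one_mem _) hcp)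

/-- The kinds of quotient of a core-free solvable group by its largest normal cyclic 2-subgroup. -/
def SmallQuot (G : Type u) [Group G] (N : Subgroup G) : Prop :=
  (∃ f : G →* DihedralGroup 2, Function.Surjective f ∧ f.ker = N) ∨
    (∃ f : G →* alternatingGroup (Fin 4), Function.Surjective f ∧ f.ker = N) ∨
    (∃ f : G →* Equiv.Perm (Fin 4), Function.Surjective f ∧ f.ker = N)

/-- The 2-group case. -/
theorem twoGroup_spec (hG : IsPGroup 2 G) {z : G} (huniq : ∀ t : G, orderOf t = 2 → t = z)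
    (hnc : ¬ IsCyclic G) :
    ∃ N : Subgroup G, N.Normal ∧ IsCyclic N ∧ SmallQuot G N ∧
      ∀ N' : Subgroup G, N'.Normal → N'.index = 4 → (∀ g : G, g ^ 2 ∈ N') → N' = N := by
  haveI : Fact (Nat.Prime 2) := ⟨Nat.prime_two⟩
  have huniq' : ∀ H K : Subgroup G, Nat.card H = 2 → Nat.card K = 2 → H = K := by
    intro H K hH hK
    obtain ⟨a, ha⟩ := exists_prime_orderOf_dvd_card' (G := H) 2 hH.symm.dvd
    obtain ⟨b, hb⟩ := exists_prime_orderOf_dvd_card' (G := K) 2 hK.symm.dvd
    rw [← Subgroup.orderOf_coe] at ha hb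
    rw [← eq_of_le_of_card_ge (zpowers_le.2 a.2) (by rw [hH, Nat.card_zpowers, ha]),
      ← eq_of_le_of_card_ge (zpowers_le.2 b.2) (by rw [hK, Nat.card_zpowers, hb]), huniq _ ha, huniq _ hb]
  rcases UniqueInvolution.isCyclic_or_quaternion hG huniq' with hc | ⟨-, k, hk, ⟨e⟩⟩
  · exact absurd hc hnc
  haveI : NeZero (2 ^ k) := ⟨(Nat.two_pow_pos k).ne'⟩
  set c := e.symm (QuaternionGroup.a 1)
  have hc : orderOf c = 2 * 2 ^ k := by rw [MulEquiv.orderOf_eq, QuaternionGroup.orderOf_a_one]
  have hcard : Nat.card G = 4 * 2 ^ k := by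
    rw [Nat.card_congr e.toEquiv, Nat.card_eq_fintype_card, QuaternionGroup.card]
  set N := zpowers (c ^ 2)
  have hcardN : Nat.card N = 2 ^ k := by
    rw [Nat.card_zpowers, orderOf_pow' _ two_ne_zero, hc, Nat.gcd_eq_right (dvd_mul_right 2 _),
      Nat.mul_div_cancel_left _ two_pos]
  have hidx : N.index = 4 := by
    have := N.card_mul_index
    rw [hcardN, hcard, mul_comm 4] at this
    exact Nat.eq_of_mul_eq_mul_left (Nat.two_pow_pos k) this
  have hsq : ∀ g : G, g ^ 2 ∈ N := by
    intro g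
    obtain ⟨q, rfl⟩ := e.symm.surjective g
    cases q with
    | a i =>
      refine ⟨(i.val : ℤ), ?_⟩
      show (c ^ 2) ^ (i.val : ℤ) = _
      rw [zpow_natCast, ← pow_mul, mul_comm, pow_mul, ← map_pow e.symm, QuaternionGroup.a_one_pow,
        ZMod.natCast_zmod_val]
    | xa i =>
      obtain ⟨j, hj⟩ : Even (2 ^ k) := Nat.even_pow.2 ⟨even_two, by omega⟩
      refine ⟨(j : ℤ), ?_⟩
      show (c ^ 2) ^ (j : ℤ) = _
      rw [zpow_natCast, ← pow_mul, pow_two (e.symm (QuaternionGroup.xa i)), ← map_mul, ← map_pow,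
        QuaternionGroup.xa_mul_xa, QuaternionGroup.a_one_pow, add_sub_cancel_right, show 2 * j = 2 ^ k by omega]
  have hNn : N.Normal := ⟨fun n hn g => by
    obtain ⟨j, rfl⟩ := mem_zpowers_iff.1 hn
    rw [← conj_zpow, ← conj_pow]
    exact zpow_mem (hsq _) j⟩
  refine ⟨N, hNn, inferInstance, Or.inl ?_, fun N' hN' hi hsq' => ?_⟩
  · have h4 : Nat.card (G ⧸ N) = 4 := by rw [← Subgroup.index_eq_card]; exact hidx
    have hexp : Monoid.exponent (G ⧸ N) = 2 := by
      haveI : Nontrivial (G ⧸ N) := Finite.one_lt_card_iff_nontrivial.1 (by omega)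
      refine ((Nat.dvd_prime Nat.prime_two).1 (Monoid.exponent_dvd_of_forall_pow_eq_one fun x => ?_)).resolve_left ?_
      · obtain ⟨g, rfl⟩ := QuotientGroup.mk_surjective x
        exact (QuotientGroup.eq_one_iff _).2 (hsq g)
      · rw [Monoid.exp_eq_one_iff]; exact not_subsingleton _
    haveI : IsKleinFour (G ⧸ N) := ⟨h4, hexp⟩
    obtain ⟨f⟩ := IsKleinFour.nonempty_mulEquiv (G₁ := G ⧸ N) (G₂ := DihedralGroup 2)
    refine ⟨f.toMonoidHom.comp (QuotientGroup.mk' N), f.surjective.comp (QuotientGroup.mk'_surjective N), ?_⟩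
    exact (ker_equiv_comp _ f).trans (QuotientGroup.ker_mk' N)
  · refine (eq_of_le_of_card_ge (zpowers_le.2 (hsq' c)) ?_).symm
    have h := N'.card_mul_index
    rw [hi] at h
    rw [← show Nat.card N = Nat.card (zpowers (c ^ 2)) from rfl, hcardN]
    omega

/-- The general case. -/
theorem coreFree_spec [Group.IsSolvable G] {z : G} (hz : orderOf z = 2)
    (huniq : ∀ t : G, orderOf t = 2 → t = z) (hcore : ∀ N : Subgroup G, N.Normal → Odd (Nat.card N) → N = ⊥)
    (hnc : ∀ P : Sylow 2 G, ¬ IsCyclic P) :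
    ∃ N : Subgroup G, N.Normal ∧ IsCyclic N ∧ IsPGroup 2 N ∧ SmallQuot G N ∧
      ∀ N' : Subgroup G, N'.Normal → IsPGroup 2 N' → IsCyclic N' → N' ≠ ⊥ →
        (IsPGroup 2 G → N'.index = 4 ∧ ∀ g : G, g ^ 2 ∈ N') → N' = N := by
  classical
  haveI : Fact (Nat.Prime 2) := ⟨Nat.prime_two⟩
  by_cases hG : IsPGroup 2 G
  · obtain ⟨P⟩ := (inferInstance : Nonempty (Sylow 2 G))
    have hP : (P : Subgroup G) = ⊤ := (P.3 (hG.to_subgroup ⊤) le_top).symm
    obtain ⟨N, h1, h2, h3, h4⟩ := twoGroup_spec hG huniq fun hc => hnc P inferInstance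
    exact ⟨N, h1, h2, hG.to_subgroup N, h3, fun N' hN' _ _ _ hx => h4 N' hN' (hx hG).1 (hx hG).2⟩
  obtain ⟨Q, hQn, hQp, hQmax, hCQ⟩ := exists_twoCore hcore
  have hzc : ∀ g : G, Commute g z := fun g =>
    mul_inv_eq_iff_eq_mul.1 (huniq _ ((orderOf_conj' g z).trans hz))
  -- an element of odd prime order
  obtain ⟨g, hgodd, hg1⟩ : ∃ g : G, Odd (orderOf g) ∧ g ≠ 1 := by
    by_contra hno
    push Not at hno
    refine hG (IsPGroup.of_card (n := (Nat.card G).primeFactorsList.length) ?_)
    refine Nat.eq_prime_pow_of_unique_prime_dvd (Nat.card_pos (α := G)).ne' fun {d} hd hdvd => ?_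
    by_contra hd2
    haveI := Fact.mk hd
    obtain ⟨y, hy⟩ := exists_prime_orderOf_dvd_card' (G := G) d hdvd
    have := hno y (hy ▸ odd_of_prime_ne_two hd hd2)
    rw [this, orderOf_one] at hy
    exact hd.ne_one hy.symm
  have hnot : ∀ {a b : G} {k : ℕ}, b ∈ Q → orderOf a = 2 ^ (k + 1) →
      (∀ y ∈ Q, y ∈ zpowers a ∨ b⁻¹ * y ∈ zpowers a) → g * a * g⁻¹ ∈ zpowers a → False := by
    intro a b k hb hak hdec hn
    exact hg1 (eq_one_of_odd_two hgodd (orderOf_isPGroup hQp (hCQ (odd_centralizes huniq hzc hQn hb hak hdec hgodd hn))))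
  have hzQ : z ∈ Q := hCQ (mem_centralizer_iff.2 fun q _ => (hzc q).eq)
  have hQuniq : ∀ H K : Subgroup Q, Nat.card H = 2 → Nat.card K = 2 → H = K := by
    intro H K hH hK
    obtain ⟨a, ha⟩ := exists_prime_orderOf_dvd_card' (G := H) 2 hH.symm.dvd
    obtain ⟨b, hb⟩ := exists_prime_orderOf_dvd_card' (G := K) 2 hK.symm.dvd
    rw [← Subgroup.orderOf_coe] at ha hb
    have he : (a : Q) = (b : Q) :=
      Subtype.ext ((huniq _ (by rw [Subgroup.orderOf_coe]; exact ha)).trans
        (huniq _ (by rw [Subgroup.orderOf_coe]; exact hb)).symm)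
    rw [← eq_of_le_of_card_ge (zpowers_le.2 a.2) (by rw [hH, Nat.card_zpowers, ha]),
      ← eq_of_le_of_card_ge (zpowers_le.2 b.2) (by rw [hK, Nat.card_zpowers, hb]), he]
  rcases UniqueInvolution.isCyclic_or_quaternion hQp hQuniq with hc | ⟨-, k, hk, ⟨e⟩⟩
  · exfalso
    obtain ⟨a, ha⟩ := hc.exists_generator
    obtain ⟨m, hm⟩ := orderOf_isPGroup hQp a.2
    have hall : ∀ y ∈ Q, y ∈ zpowers (a : G) := fun y hy => by
      obtain ⟨j, hj⟩ := mem_zpowers_iff.1 (ha ⟨y, hy⟩)
      exact ⟨j, show (a : G) ^ j = y by rw [← SubgroupClass.coe_zpow, hj]⟩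
    rcases m with _ | m
    · have hz1 := hall z hzQ
      rw [orderOf_eq_one_iff.1 (by rw [hm, pow_zero] : orderOf (a : G) = 1), zpowers_one_eq_bot, mem_bot] at hz1
      rw [hz1, orderOf_one] at hz
      norm_num at hz
    exact hnot (one_mem Q) hm (fun y hy => Or.inl (hall y hy)) (hall _ (hQn.conj_mem _ a.2 g))
  haveI : NeZero (2 ^ k) := ⟨(Nat.two_pow_pos k).ne'⟩
  set a : G := (e.symm (QuaternionGroup.a 1) : G)
  set b : G := (e.symm (QuaternionGroup.xa 0) : G)
  have ha : orderOf a = 2 ^ (k + 1) := by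
    rw [Subgroup.orderOf_coe, MulEquiv.orderOf_eq, QuaternionGroup.orderOf_a_one, pow_succ']
  have hpow : ∀ i : ZMod (2 * 2 ^ k), a ^ i.val = (e.symm (QuaternionGroup.a i) : G) := fun i => by
    rw [← SubgroupClass.coe_pow, ← map_pow, QuaternionGroup.a_one_pow, ZMod.natCast_zmod_val]
  have hdec : ∀ y ∈ Q, y ∈ zpowers a ∨ b⁻¹ * y ∈ zpowers a := by
    intro y hy
    obtain ⟨q, hq⟩ := e.symm.surjective ⟨y, hy⟩
    have hy' : y = (e.symm q : G) := by rw [hq]
    cases q with
    | a i => exact Or.inl ⟨(i.val : ℤ), by rw [hy']; simp only [zpow_natCast]; exact hpow i⟩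
    | xa i =>
      refine Or.inr ⟨(i.val : ℤ), ?_⟩
      simp only [zpow_natCast]
      rw [hpow, eq_inv_mul_iff_mul_eq, hy', ← Subgroup.coe_mul, ← map_mul, QuaternionGroup.xa_mul_a, zero_add]
  -- the quaternion group has order eight
  have hk1 : k = 1 := by
    by_contra hk1
    refine hnot (b := b) (e.symm (QuaternionGroup.xa 0)).2 ha hdec ?_
    have hga := hQn.conj_mem a (e.symm (QuaternionGroup.a 1)).2 g
    obtain ⟨q, hq⟩ := e.symm.surjective ⟨g * a * g⁻¹, hga⟩
    have hq' : g * a * g⁻¹ = (e.symm q : G) := by rw [hq]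
    cases q with
    | a i => exact ⟨(i.val : ℤ), by rw [hq']; simp only [zpow_natCast]; exact hpow i⟩
    | xa i =>
      exfalso
      have := congrArg orderOf hq'
      rw [orderOf_conj', ha, Subgroup.orderOf_coe, MulEquiv.orderOf_eq, QuaternionGroup.orderOf_xa] at this
      have h2 : (2 : ℕ) ^ 3 ≤ 2 ^ (k + 1) := Nat.pow_le_pow_right two_pos (by omega)
      omega
  subst hk1
  have hcQ : Nat.card Q = 8 := by
    rw [Nat.card_congr e.toEquiv, Nat.card_eq_fintype_card, QuaternionGroup.card]; rfl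
  -- the action on `Q`
  let e' : Q ≃* QuaternionGroup 2 := e
  let act : G →* MulAut (QuaternionGroup 2) :=
    (MulAut.congr e').toMonoidHom.comp (MulAut.conjNormal (H := Q))
  have hker : act.ker = zpowers z := by
    refine le_antisymm (fun x hx => ?_) (zpowers_le.2 ?_)
    · rw [MonoidHom.mem_ker] at hx
      have hx' : MulAut.conjNormal (H := Q) x = 1 := (MulAut.congr e').injective (hx.trans (map_one _).symm)
      have hxc : x ∈ centralizer (Q : Set G) := mem_centralizer_iff.2 fun q hq => by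
        have := congrArg Subtype.val (DFunLike.congr_fun hx' ⟨q, hq⟩)
        rw [MulAut.conjNormal_apply] at this
        exact (mul_inv_eq_iff_eq_mul.1 this).symm
      have hxQ := hCQ hxc
      have h2 : ∀ q : QuaternionGroup 2, (∀ r, q * r = r * q) → q = 1 ∨ q = .a 2 := by decide
      have h3 : ∀ r, e' ⟨x, hxQ⟩ * r = r * e' ⟨x, hxQ⟩ := fun r => by
        obtain ⟨s, rfl⟩ := e'.surjective r
        rw [← map_mul, ← map_mul]
        congr 1
        exact Subtype.ext (mem_centralizer_iff.1 hxc s s.2).symm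
      rcases h2 _ h3 with h | h
      · rw [show x = 1 from congrArg Subtype.val (EmbeddingLike.map_eq_one_iff.1 h)]; exact one_mem _
      · have : orderOf x = 2 := by
          rw [show x = ((⟨x, hxQ⟩ : Q) : G) from rfl, Subgroup.orderOf_coe, ← MulEquiv.orderOf_eq e', h]
          exact orderOf_eq_prime (by decide) (by decide)
        rw [huniq x this]; exact mem_zpowers _
    · rw [MonoidHom.mem_ker]
      show MulAut.congr e' (MulAut.conjNormal (H := Q) z) = 1
      rw [show MulAut.conjNormal (H := Q) z = 1 from MulEquiv.ext fun q => Subtype.ext (by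
        rw [MulAut.conjNormal_apply, ← (hzc q).eq, mul_inv_cancel_right]; rfl), map_one]
  have hdvd8 : 8 ∣ Nat.card G := hcQ ▸ Q.card_subgroup_dvd_card
  have hle48 : Nat.card G ≤ 48 := by
    have h1 := act.ker.card_mul_index
    rw [Subgroup.index_ker, hker, Nat.card_zpowers, hz] at h1
    have h2 : Nat.card act.range ≤ 24 :=
      (Nat.card_le_card_of_injective _ Subtype.val_injective).trans qeight_aut_card
    omega
  have hthree : ∀ y : G, Odd (orderOf y) → y ^ 3 = 1 := by
    intro y hy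
    have h1 : y ^ 12 ∈ zpowers z := by rw [← hker, MonoidHom.mem_ker, map_pow, qeight_aut_pow]
    have h2 : (y ^ 12) ^ 2 = 1 := orderOf_dvd_iff_pow_eq_one.1 (hz ▸ orderOf_dvd_of_mem_zpowers h1)
    rw [← pow_mul] at h2
    have h3 : orderOf y ∣ 2 ^ 3 * 3 := orderOf_dvd_of_pow_eq_one h2
    exact orderOf_dvd_iff_pow_eq_one.1 (((Nat.coprime_two_right.2 hy).pow_right 3).dvd_of_dvd_mul_left h3)
  have hg3 : orderOf g = 3 :=
    ((Nat.dvd_prime Nat.prime_three).1 (orderOf_dvd_of_pow_eq_one (hthree g hgodd))).resolve_left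
      fun h => hg1 (orderOf_eq_one_iff.1 h)
  have hcardG : Nat.card G = 24 ∨ Nat.card G = 48 := by
    have h3 : 3 ∣ Nat.card G := hg3 ▸ orderOf_dvd_natCard g
    have := Nat.card_pos (α := G)
    omega
  -- no normal cyclic subgroup of order four
  have hno4 : ∀ x : G, orderOf x = 4 → ¬ (zpowers x).Normal := by
    intro x hx hxn
    have hxQ : x ∈ Q := hQmax _ hxn (IsPGroup.of_card (n := 2) (by rw [Nat.card_zpowers, hx]; rfl)) (mem_zpowers x)
    have hidx : (zpowers x).relIndex Q = 2 := by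
      have := relIndex_mul_relIndex ⊥ (zpowers x) Q bot_le (zpowers_le.2 hxQ)
      rw [relIndex_bot_left, relIndex_bot_left, Nat.card_zpowers, hx, hcQ] at this
      omega
    obtain ⟨y, hyQ, hy⟩ : ∃ y ∈ Q, y ∉ zpowers x := by
      by_contra hno
      push Not at hno
      rw [relIndex_eq_one.2 hno] at hidx
      norm_num at hidx
    refine hnot (a := x) (b := y) (k := 1) hyQ (by rw [hx]; rfl) (fun w hw => ?_) (hxn.conj_mem x (mem_zpowers x) g)
    rw [or_iff_not_imp_left]
    intro hwx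
    have := (Subgroup.mul_mem_iff_of_index_two (H := (zpowers x).subgroupOf Q) hidx
      (a := ⟨y⁻¹, inv_mem hyQ⟩) (b := ⟨w, hw⟩)).2
    exact this ⟨fun h => absurd (inv_mem_iff.1 h) hy, fun h => absurd h hwx⟩
  -- four Sylow subgroups for the prime three
  haveI : Fact (Nat.Prime 3) := ⟨Nat.prime_three⟩
  obtain ⟨P⟩ := (inferInstance : Nonempty (Sylow 3 G))
  have hcP : Nat.card P = 3 := by
    rw [P.card_eq_multiplicity]
    rcases hcardG with h | h <;> rw [h]
    · rw [show (24 : ℕ) = 8 * 3 from rfl, Nat.factorization_mul (by norm_num) (by norm_num),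
        Finsupp.add_apply, Nat.prime_three.factorization_self,
        Nat.factorization_eq_zero_of_not_dvd (by norm_num)]; rfl
    · rw [show (48 : ℕ) = 16 * 3 from rfl, Nat.factorization_mul (by norm_num) (by norm_num),
        Finsupp.add_apply, Nat.prime_three.factorization_self,
        Nat.factorization_eq_zero_of_not_dvd (by norm_num)]; rfl
  set NP := normalizer ((P : Subgroup G) : Set G)
  have hzNP : z ∈ NP := centralizer_le_normalizer _ (mem_centralizer_iff.2 fun q _ => (hzc q).eq)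
  have hidx4 : NP.index = 4 := by
    have h1 := NP.card_mul_index
    have h2 : 6 ∣ Nat.card NP := by
      show 3 * 2 ∣ Nat.card NP
      refine Nat.Coprime.mul_dvd_of_dvd_of_dvd (show Nat.Coprime 3 2 by norm_num) ?_ (hz ▸ NP.orderOf_dvd_natCard hzNP)
      exact hcP ▸ card_dvd_of_le le_normalizer
    have h3 : NP.index % 3 = 1 := by
      have := card_sylow_modEq_one 3 G
      rw [P.card_eq_index_normalizer] at this
      exact this
    have h4 : NP.index ≠ 1 := fun h => by
      have hn : (P : Subgroup G).Normal := normalizer_eq_top_iff.1 (index_eq_one.1 h)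
      have := hcore _ hn (by rw [hcP]; decide)
      rw [← card_eq_one, hcP] at this
      norm_num at this
    obtain ⟨d, hd⟩ := h2
    rw [hd] at h1
    have h5 : NP.index ∣ 4 ∨ NP.index ∣ 8 := by
      rcases hcardG with h | h <;> rw [h] at h1
      · exact Or.inl ⟨d, by linarith⟩
      · exact Or.inr ⟨d, by linarith⟩
    have h6 : NP.index ∣ 8 := h5.elim (fun h => h.trans (by norm_num)) id
    have := Nat.le_of_dvd (by norm_num) h6
    interval_cases hi : NP.index <;> omega
  have hcS : Nat.card (Sylow 3 G) = 4 := by rw [P.card_eq_index_normalizer]; exact hidx4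
  let ι : Sylow 3 G ≃ Fin 4 := Finite.equivFinOfCardEq hcS
  let f : G →* Equiv.Perm (Fin 4) :=
    ι.permCongrHom.toMonoidHom.comp (MulAction.toPermHom G (Sylow 3 G))
  have hfker : f.ker = zpowers z := by
    have hKn : f.ker.Normal := MonoidHom.normal_ker f
    have hKfix : ∀ x, x ∈ f.ker ↔ ∀ R : Sylow 3 G, x • R = R := fun x => by
      rw [MonoidHom.mem_ker]
      show ι.permCongrHom (MulAction.toPermHom G _ x) = 1 ↔ _
      rw [EmbeddingLike.map_eq_one_iff, Equiv.ext_iff]
      rfl
    have hKN : f.ker ≤ NP := fun x hx => Sylow.smul_eq_iff_mem_normalizer.1 ((hKfix x).1 hx P)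
    have hzK : z ∈ f.ker := (hKfix z).2 fun R => Sylow.smul_eq_iff_mem_normalizer.2
      (centralizer_le_normalizer _ (mem_centralizer_iff.2 fun q _ => (hzc q).eq))
    have h3K : ¬ 3 ∣ Nat.card f.ker := by
      intro h3
      obtain ⟨y, hy⟩ := exists_prime_orderOf_dvd_card' (G := f.ker) 3 h3
      rw [← Subgroup.orderOf_coe] at hy
      -- a subgroup of order three fixed by conjugation lies in every Sylow subgroup
      have hin : ∀ R : Sylow 3 G, zpowers (y : G) = R := by
        intro R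
        have hyR : (y : G) ∈ (R : Subgroup G) := by
          have := (IsPGroup.of_card (n := 1) (G := zpowers (y : G))
            (by rw [Nat.card_zpowers, hy, pow_one])).inf_normalizer_sylow R
          have hmem : (y : G) ∈ zpowers (y : G) ⊓ normalizer ((R : Subgroup G) : Set G) :=
            ⟨mem_zpowers _, Sylow.smul_eq_iff_mem_normalizer.1 ((hKfix y).1 y.2 R)⟩
          exact ((SetLike.ext_iff.1 this _).1 hmem).2
        refine eq_of_le_of_card_ge (zpowers_le.2 hyR) ?_
        rw [R.card_eq_multiplicity, ← P.card_eq_multiplicity, hcP, Nat.card_zpowers, hy]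
      have : Subsingleton (Sylow 3 G) := ⟨fun R R' => Sylow.ext ((hin R).symm.trans (hin R'))⟩
      rw [Nat.card_of_subsingleton (default : Sylow 3 G)] at hcS
      norm_num at hcS
    have h12 : Nat.card f.ker ∣ 12 := by
      have h1 := NP.card_mul_index
      rw [hidx4] at h1
      refine (card_dvd_of_le hKN).trans ?_
      rcases hcardG with h | h
      · exact ⟨2, by omega⟩
      · exact ⟨1, by omega⟩
    have h2K : 2 ∣ Nat.card f.ker := hz ▸ f.ker.orderOf_dvd_natCard hzK
    have h4 : Nat.card f.ker ≤ 12 := Nat.le_of_dvd (by norm_num) h12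
    refine (eq_of_le_of_card_ge (zpowers_le.2 hzK) ?_).symm
    rw [Nat.card_zpowers, hz]
    by_contra hlt
    have : Nat.card f.ker = 4 := by interval_cases hc : Nat.card f.ker <;> omega
    obtain ⟨x, hx, he⟩ := isCyclic_of_card_four this huniq
    exact hno4 x hx (he ▸ hKn)
  refine ⟨zpowers z, hfker ▸ MonoidHom.normal_ker f, inferInstance,
    IsPGroup.of_card (n := 1) (by rw [Nat.card_zpowers, hz, pow_one]), Or.inr ?_, ?_⟩
  · have hrange : Nat.card f.range * 2 = Nat.card G := by
      rw [← f.ker.card_mul_index, Subgroup.index_ker, hfker, Nat.card_zpowers, hz]; ring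
    have hri := f.range.card_mul_index
    rw [Nat.card_eq_fintype_card (α := Equiv.Perm (Fin 4)), Fintype.card_perm, Fintype.card_fin] at hri
    change _ = 24 at hri
    rcases hcardG with h | h
    · have h12 : Nat.card f.range = 12 := by omega
      rw [h12] at hri
      have hR := Equiv.Perm.eq_alternatingGroup_of_index_eq_two (G := f.range) (by omega)
      refine Or.inl ⟨(MulEquiv.subgroupCongr hR).toMonoidHom.comp f.rangeRestrict,
        (MulEquiv.subgroupCongr hR).surjective.comp f.rangeRestrict_surjective, ?_⟩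
      exact (ker_equiv_comp _ _).trans ((MonoidHom.ker_rangeRestrict f).trans hfker)
    · have h24 : Nat.card f.range = 24 := by omega
      rw [h24] at hri
      refine Or.inr ⟨f, MonoidHom.range_eq_top.1 (index_eq_one.1 (by omega)), hfker⟩
  · intro N' hN' hN'p hN'c hne _
    obtain ⟨x, hx⟩ := hN'c.exists_generator
    obtain ⟨m, hm⟩ := orderOf_isPGroup hN'p x.2
    have heq : N' = zpowers (x : G) := le_antisymm (fun y hy => by
      obtain ⟨j, hj⟩ := mem_zpowers_iff.1 (hx ⟨y, hy⟩)
      exact ⟨j, show (x : G) ^ j = y by rw [← SubgroupClass.coe_zpow, hj]⟩) (zpowers_le.2 x.2)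
    rcases m with _ | _ | m
    · refine absurd ?_ hne
      rw [heq, orderOf_eq_one_iff.1 (by rw [hm, pow_zero] : orderOf (x : G) = 1), zpowers_one_eq_bot]
    · rw [heq, huniq (x : G) (by rw [hm]; rfl)]
    · exfalso
      refine hno4 ((x : G) ^ 2 ^ m) ?_ ⟨fun v hv g => ?_⟩
      · rw [orderOf_pow' _ (by positivity), hm, Nat.gcd_eq_right (pow_dvd_pow 2 (by omega)),
          Nat.pow_div (by omega) two_pos, show m + 1 + 1 - m = 2 by omega]
        rfl
      · obtain ⟨j, rfl⟩ := mem_zpowers_iff.1 hv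
        have hgx := hN'.conj_mem _ x.2 g
        obtain ⟨i, hi⟩ := mem_zpowers_iff.1 (heq.le hgx)
        refine ⟨i * j, ?_⟩
        show ((x : G) ^ 2 ^ m) ^ (i * j) = _
        rw [← conj_zpow, ← conj_pow, ← hi, ← zpow_natCast (x : G), ← zpow_natCast ((x : G) ^ i),
          ← zpow_mul, ← zpow_mul, ← zpow_mul]
        congr 1; ring

end Cfsg.Agent.Lib.ZassSL25
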