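import Mathlib
import Cfsg.Agent.Lib.ZassSL25.Local
import Cfsg.Agent.Lib.FPF.Key

/-!
Elements of odd prime order whose centralizer has no element of order four.
-/

set_option autoImplicit false

namespace Cfsg.Agent.Lib.ZassSL25

open Subgroup
open scoped commutatorElement

universe u

variable {G : Type u} [Group G] [Finite G]

/-- No element of order four commutes with `y`. -/
def Free (y : G) : Prop := ∀ a : G, orderOf a = 4 → ¬ Commute a y

/-- `y` has odd prime order, is free, and so are all elements of odd prime order commuting with it. -/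
structure FreeClosed (y : G) : Prop where
  prime : (orderOf y).Prime
  ne_two : orderOf y ≠ 2
  free : Free y
  closed : ∀ w : G, (orderOf w).Prime → orderOf w ≠ 2 → Commute w y → Free w

theorem mem_normalizer_zpowers_iff {y g : G} :
    g ∈ normalizer (zpowers y : Set G) ↔ g * y * g⁻¹ ∈ zpowers y := by
  refine ⟨fun h => (mem_normalizer_iff.1 h y).1 (mem_zpowers y), fun h => mem_normalizer_of_forall_conj_mem ?_⟩
  intro x hx
  obtain ⟨m, rfl⟩ := mem_zpowers_iff.1 hx
  rw [← conj_zpow]
  exact zpow_mem h m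

/-- Elements normalising `⟨y⟩` act on it commutatively. -/
theorem commute_commutator {y a b : G} (ha : a ∈ normalizer (zpowers y : Set G))
    (hb : b ∈ normalizer (zpowers y : Set G)) : Commute (a * b * a⁻¹ * b⁻¹) y := by
  let f := (zpowers y).normalizerMonoidHom
  have h1 : f (⟨a, ha⟩ * ⟨b, hb⟩ * ⟨a, ha⟩⁻¹ * ⟨b, hb⟩⁻¹) = 1 := by
    rw [map_mul, map_mul, map_mul, map_inv, map_inv, FPF.commute_of_isCyclic (f ⟨a, ha⟩) (f ⟨b, hb⟩)]
    group
  have h2 := congrArg (fun (e : MulAut (zpowers y)) => ((e ⟨y, mem_zpowers y⟩ : zpowers y) : G)) h1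
  simp only [f] at h2
  exact mul_inv_eq_iff_eq_mul.1 h2

/-- An element of order four normalising `⟨y⟩` without centralising it inverts `y`. -/
theorem inverts_of_four (D : QData G) {y a : G} (hy : (orderOf y).Prime) (ha : orderOf a = 4)
    (hn : a ∈ normalizer (zpowers y : Set G)) (hne : ¬ Commute a y) : a * y * a⁻¹ = y⁻¹ := by
  haveI := Fact.mk hy
  obtain ⟨j, hj⟩ := mem_zpowers_iff.1 (mem_normalizer_zpowers_iff.1 hn)
  have h2 : y ^ j ^ 2 = y := by
    rw [← conj_pow_zpow hj.symm, D.sq_eq_z_of_orderOf_four ha, ← D.z_comm, mul_inv_cancel_right]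
  have key : ∀ m n : ℤ, y ^ m = y ^ n ↔ (m : ZMod (orderOf y)) = n := fun m n => by
    rw [zpow_eq_zpow_iff_modEq, ← ZMod.intCast_eq_intCast_iff]
  nth_rewrite 2 [← zpow_one y] at h2
  rw [key, Int.cast_pow, Int.cast_one, sq_eq_one_iff] at h2
  rcases h2 with h | h
  · exfalso
    refine hne (mul_inv_eq_iff_eq_mul.1 ?_)
    rw [← hj]
    conv_rhs => rw [← zpow_one y]
    rw [key, h, Int.cast_one]
  · rw [← hj, ← zpow_neg_one, key, h]
    simp

/-- An element normalising a cyclic Sylow subgroup and fixing an element of order `p` centralises it. -/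
theorem normalizer_le_centralizer_of_fixed (h : FPFGroup G) {p : ℕ} [Fact p.Prime] (hp2 : p ≠ 2)
    (R : Sylow p G) {w : G} (hwR : w ∈ (R : Subgroup G)) (hw : orderOf w = p)
    (hfix : ∀ g ∈ normalizer ((R : Subgroup G) : Set G), Commute g w) :
    normalizer ((R : Subgroup G) : Set G) ≤ centralizer ((R : Subgroup G) : Set G) := by
  have hp := (Fact.out : p.Prime)
  haveI := isCyclic_of_isPGroup h hp2 R.2
  obtain ⟨k, hk⟩ := IsPGroup.iff_card.1 R.2
  intro g hg
  refine mem_of_primePow_powers (g := g) fun r a m hr hgm => ?_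
  have hgN := pow_mem hg m
  by_cases hrp : r = p
  · subst hrp
    have hmem : g ^ m ∈ (R : Subgroup G) := by
      have hP : IsPGroup r (zpowers (g ^ m) ⊔ R : Subgroup G) :=
        (IsPGroup.of_card (n := a) (by rw [Nat.card_zpowers, hgm])).to_sup_of_normal_right' R.2
          (zpowers_le.2 hgN)
      exact (R.3 hP le_sup_right) ▸ (le_sup_left : zpowers (g ^ m) ≤ _) (mem_zpowers _)
    rw [mem_centralizer_iff]
    intro x hx
    exact congrArg Subtype.val (mul_comm' (⟨x, hx⟩ : (R : Subgroup G)) ⟨_, hmem⟩)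
  · have hle := le_centralizer_of_prime_fixed h (O := (R : Subgroup G))
      (hk ▸ (odd_of_prime_ne_two hp hp2).pow) hgN
      (by rw [hgm, hk]; exact ((Nat.coprime_primes hr hp).2 hrp).pow a k) (fun v hv hvp => ?_)
    · rw [mem_centralizer_iff]
      intro x hx
      exact mem_centralizer_singleton_iff.1 (hle hx)
    · have hvo : orderOf v = p := by
        have hd := (R : Subgroup G).orderOf_dvd_natCard hv
        rw [hk] at hd
        exact (Nat.prime_dvd_prime_iff_eq hvp hp).1 (hvp.dvd_of_dvd_pow hd)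
      have he := zpowers_eq_of_commute h hp hw hvo
        (congrArg Subtype.val (mul_comm' (⟨w, hwR⟩ : (R : Subgroup G)) ⟨v, hv⟩))
      obtain ⟨t, rfl⟩ := mem_zpowers_iff.1 (he ▸ mem_zpowers v : v ∈ zpowers w)
      exact (hfix _ hgN).zpow_right t

namespace FreeClosed

variable {y : G}

theorem no_four (hy : Free y) {T : Subgroup G} (hT : IsPGroup 2 T)
    (hTy : T ≤ centralizer ({y} : Set G)) : ∀ t ∈ T, t ^ 2 = 1 := by
  intro t ht
  obtain ⟨k, hk⟩ := orderOf_isPGroup hT ht
  by_contra h2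
  have hk2 : 2 ≤ k := by
    by_contra hlt
    refine h2 (orderOf_dvd_iff_pow_eq_one.1 ?_)
    rw [hk]
    exact (pow_dvd_pow 2 (show k ≤ 1 by omega)).trans (by norm_num)
  refine hy (t ^ 2 ^ (k - 2)) ?_ (mem_centralizer_singleton_iff.1 (hTy (pow_mem ht _)))
  rw [orderOf_pow' _ (by positivity), hk, Nat.gcd_eq_right (pow_dvd_pow 2 (by omega)),
    Nat.pow_div (by omega) (by norm_num), show k - (k - 2) = 2 by omega]

/-- The centralizer of a free element is the product of its odd part and `⟨z⟩`. -/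
theorem centralizer_spec (D : QData G) (hy : Free y) :
    ∃ O : Subgroup G, O ≤ centralizer ({y} : Set G) ∧ Odd (Nat.card O) ∧
      (∀ v, v ∈ O ↔ Odd (orderOf v) ∧ Commute v y) ∧
      ∀ g ∈ centralizer ({y} : Set G), ∃ o ∈ O, g = o ∨ g = o * D.z := by
  obtain ⟨O, T, hO, hT, -, hodd, hmem, hTp, -, -, hdec⟩ := exists_odd_complement (centralizer ({y} : Set G))
    (fun T hT hTp => by
      rcases D.twoGroup_cases hTp with h | ⟨a, ha, b, hb, hab⟩
      · exact h
      · exact absurd (mem_centralizer_singleton_iff.1 (hT ha)) (hy a hab.1))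
  refine ⟨O, hO, hodd, fun v => ⟨fun hv => ⟨Odd.of_dvd_nat hodd (O.orderOf_dvd_natCard hv),
    mem_centralizer_singleton_iff.1 (hO hv)⟩, fun hv => hmem v (mem_centralizer_singleton_iff.2 hv.2) hv.1⟩,
    fun g hg => ?_⟩
  obtain ⟨o, ho, t, ht, rfl⟩ := hdec g hg
  rcases D.sq_eq_one_mem (no_four hy hTp hT t ht) with e | e
  · exact ⟨o, ho, Or.inl (by rw [e, mul_one])⟩
  · exact ⟨o, ho, Or.inr (by rw [e])⟩

/-- Commuting with the same free element, two elements of odd prime order commute. -/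
theorem commute_of_free (h : FPFGroup G) (D : QData G) (hy : Free y) {v w : G}
    (hv : (orderOf v).Prime) (hv2 : orderOf v ≠ 2) (hvy : Commute v y)
    (hw : (orderOf w).Prime) (hw2 : orderOf w ≠ 2) (hwy : Commute w y) : Commute v w := by
  obtain ⟨O, -, hodd, hmem, -⟩ := centralizer_spec D hy
  exact commute_prime_of_odd h hodd ((hmem v).2 ⟨odd_of_prime_ne_two hv hv2, hvy⟩)
    ((hmem w).2 ⟨odd_of_prime_ne_two hw hw2, hwy⟩) hv hw

theorem normalizer_le_of_commute (h : FPFGroup G) (D : QData G) (hy : FreeClosed y) {w : G}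
    (hw : (orderOf w).Prime) (hw2 : orderOf w ≠ 2) (hwy : Commute w y) :
    normalizer (zpowers w : Set G) ≤ normalizer (zpowers y : Set G) := by
  intro g hg
  have hgy : Commute (g * y * g⁻¹) w := by
    obtain ⟨j, hj⟩ : ∃ j : ℤ, g⁻¹ * w * g = w ^ j := by
      have := mem_normalizer_zpowers_iff.1 (inv_mem hg)
      rw [inv_inv] at this
      obtain ⟨j, hj⟩ := mem_zpowers_iff.1 this
      exact ⟨j, hj.symm⟩
    show g * y * g⁻¹ * w = w * (g * y * g⁻¹)
    calc g * y * g⁻¹ * w = g * (y * (g⁻¹ * w * g)) * g⁻¹ := by group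
      _ = g * ((g⁻¹ * w * g) * y) * g⁻¹ := by rw [hj, (hwy.zpow_left j).eq]
      _ = _ := by group
  have ho : orderOf (g * y * g⁻¹) = orderOf y := orderOf_conj' g y
  have hc := commute_of_free h D (hy.closed w hw hw2 hwy) (ho ▸ hy.prime) (ho ▸ hy.ne_two) hgy
    hy.prime hy.ne_two hwy.symm
  rw [mem_normalizer_zpowers_iff, ← zpowers_eq_of_commute h hy.prime ho rfl hc]
  exact mem_zpowers _

/-- Elements of odd order normalising `⟨y⟩` centralise it. -/
theorem commute_of_odd (h : FPFGroup G) (hperf : commutator G = ⊤) (D : QData G) (hy : FreeClosed y)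
    {g : G} (hg : g ∈ normalizer (zpowers y : Set G)) (ho : Odd (orderOf g)) : Commute g y := by
  refine mem_centralizer_singleton_iff.1 (mem_of_primePow_powers (g := g) fun r k m hr hgm => ?_)
  rw [mem_centralizer_singleton_iff]
  by_contra hne
  have hvN := pow_mem hg m
  set v := g ^ m
  haveI := Fact.mk hr
  rcases k with _ | k
  · exact hne (by rw [orderOf_eq_one_iff.1 (hgm.trans (pow_zero r))]; simp)
  have hr2 : r ≠ 2 := by
    rintro rfl
    have : Odd (orderOf v) := Odd.of_dvd_nat ho (orderOf_pow_dvd m)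
    exact absurd this (Nat.not_odd_iff_even.2 (hgm ▸ even_iff_two_dvd.2 (dvd_pow_self 2 k.succ_ne_zero)))
  set w := v ^ r ^ k
  have hw : orderOf w = r := by
    rw [orderOf_pow' _ (pow_ne_zero _ hr.ne_zero), hgm, Nat.gcd_eq_right (pow_dvd_pow r k.le_succ),
      Nat.pow_div k.le_succ hr.pos, Nat.succ_sub (le_refl k)]
    simp
  have hwy : Commute w y := commute_of_prime_normalises h hy.prime hr rfl hw (pow_mem hvN _)
  obtain ⟨R, hR⟩ := (IsPGroup.of_card (p := r) (n := k + 1) (G := zpowers v)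
    (by rw [Nat.card_zpowers, hgm])).exists_le_sylow
  have hvR : v ∈ (R : Subgroup G) := hR (mem_zpowers v)
  haveI hRc := isCyclic_of_isPGroup h hr2 R.2
  have hNM : normalizer ((R : Subgroup G) : Set G) ≤ normalizer (zpowers y : Set G) := by
    refine le_trans (fun x hx => mem_normalizer_zpowers_iff.2 ?_)
      (normalizer_le_of_commute h D hy (hw ▸ hr) (hw ▸ hr2) hwy)
    have hmem : x * w * x⁻¹ ∈ (R : Subgroup G) := (mem_normalizer_iff.1 hx w).1 (pow_mem hvR _)
    rw [← zpowers_eq_of_commute h hr ((orderOf_conj' x w).trans hw) hw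
      (congrArg Subtype.val (mul_comm' (⟨_, hmem⟩ : (R : Subgroup G)) ⟨w, pow_mem hvR _⟩))]
    exact mem_zpowers _
  set M := normalizer (zpowers y : Set G)
  have hRM : (R : Subgroup G) ≤ M := le_normalizer.trans hNM
  let P : Sylow r M := R.subtype hRM
  haveI : IsCyclic (P : Subgroup M) :=
    isCyclic_of_surjective _ (subgroupOfEquivOfLe hRM).symm.surjective
  rcases P.normalizer_le_centralizer_or_le_commutator with hc | hc
  · refine absurd ?_ (not_dvd_of_burnside hperf R fun x hx => ?_)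
    · exact (hw ▸ orderOf_dvd_natCard w : r ∣ Nat.card G)
    · rw [mem_centralizer_iff]
      intro q hq
      have hxP : (⟨x, hNM hx⟩ : M) ∈ normalizer ((P : Subgroup M) : Set M) := by
        rw [mem_normalizer_iff]
        exact fun q' => mem_normalizer_iff.1 hx (q' : G)
      exact congrArg Subtype.val (mem_centralizer_iff.1 (hc hxP) ⟨q, hRM hq⟩ hq)
  · refine hne ?_
    have hle : (commutator M).map M.subtype ≤ centralizer ({y} : Set G) := by
      rw [map_subtype_commutator, commutator_le]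
      intro a ha b hb
      exact mem_centralizer_singleton_iff.2 (commute_commutator ha hb)
    exact mem_centralizer_singleton_iff.1 (hle ⟨⟨v, hRM hvR⟩, hc hvR, rfl⟩)

theorem of_commute (h : FPFGroup G) (D : QData G) (hy : FreeClosed y) {w : G}
    (hw : (orderOf w).Prime) (hw2 : orderOf w ≠ 2) (hwy : Commute w y) : FreeClosed w :=
  ⟨hw, hw2, hy.closed w hw hw2 hwy, fun v hv hv2 hvw => hy.closed v hv hv2
    (commute_of_free h D (hy.closed w hw hw2 hwy) hv hv2 hvw hy.prime hy.ne_two hwy.symm)⟩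

theorem centralizer_le_of_commute (h : FPFGroup G) (hperf : commutator G = ⊤) (D : QData G)
    (hy : FreeClosed y) {w : G} (hw : (orderOf w).Prime) (hw2 : orderOf w ≠ 2) (hwy : Commute w y) :
    centralizer ({w} : Set G) ≤ centralizer ({y} : Set G) := by
  obtain ⟨O, -, -, hmem, hdec⟩ := centralizer_spec D (hy.closed w hw hw2 hwy)
  intro g hg
  rw [mem_centralizer_singleton_iff]
  obtain ⟨o, ho, he⟩ := hdec g hg
  have hoN : o ∈ normalizer (zpowers y : Set G) :=
    normalizer_le_of_commute h D hy hw hw2 hwy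
      (mem_normalizer_zpowers_iff.2 (by rw [((hmem o).1 ho).2.eq, mul_inv_cancel_right]; exact mem_zpowers w))
  have hoy := commute_of_odd h hperf D hy hoN ((hmem o).1 ho).1
  rcases he with rfl | rfl
  · exact hoy.eq
  · exact (hoy.mul_left (show Commute D.z y from (D.z_comm y).symm)).eq

theorem centralizer_eq_of_commute (h : FPFGroup G) (hperf : commutator G = ⊤) (D : QData G)
    (hy : FreeClosed y) {w : G} (hw : (orderOf w).Prime) (hw2 : orderOf w ≠ 2) (hwy : Commute w y) :
    centralizer ({w} : Set G) = centralizer ({y} : Set G) :=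
  le_antisymm (centralizer_le_of_commute h hperf D hy hw hw2 hwy)
    (centralizer_le_of_commute h hperf D (of_commute h D hy hw hw2 hwy) hy.prime hy.ne_two hwy.symm)

/-- The structure of the normalizer of a free element. -/
theorem spec (h : FPFGroup G) (hperf : commutator G = ⊤) (D : QData G) (hy : FreeClosed y) :
    ∃ A : Subgroup G, IsCyclic A ∧ Odd (Nat.card A) ∧ y ∈ A ∧
      (∀ v, v ∈ A ↔ Odd (orderOf v) ∧ Commute v y) ∧
      (∀ g ∈ centralizer ({y} : Set G), ∃ o ∈ A, g = o ∨ g = o * D.z) ∧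
      (∃ b : G, orderOf b = 4 ∧ b ∈ normalizer (zpowers y : Set G) ∧ b * y * b⁻¹ = y⁻¹ ∧
        ∀ v ∈ A, b * v * b⁻¹ = v⁻¹) ∧
      ∃ k, 2 ≤ k ∧ k ≤ D.n ∧ Nat.card (normalizer (zpowers y : Set G)) = 2 ^ k * Nat.card A ∧
        (orderOf y = 3 → k = 2) := by
  classical
  haveI := Fact.mk hy.prime
  obtain ⟨A, hAC, hAodd, hmem, hdec⟩ := centralizer_spec D hy.free
  set M := normalizer (zpowers y : Set G)
  have hyodd : Odd (orderOf y) := odd_of_prime_ne_two hy.prime hy.ne_two
  have hyA : y ∈ A := (hmem y).2 ⟨hyodd, Commute.refl y⟩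
  have h2free : ∀ {b : G}, b ∈ M → (∃ k, orderOf b = 2 ^ k) → b ^ 2 ≠ 1 → ∀ (_ : orderOf b = 4), ¬ Commute b y :=
    fun _ _ _ h4 => hy.free _ h4
  have hcyc : ∀ T : Subgroup G, T ≤ M → IsPGroup 2 T → IsCyclic T := by
    intro T hT hTp
    rcases D.twoGroup_cases hTp with hc | ⟨a, ha, b, hb, hab⟩
    · exact hc
    · exfalso
      have ia := inverts_of_four D hy.prime hab.1 (hT ha) (hy.free a hab.1)
      have ib := inverts_of_four D hy.prime hab.2.1 (hT hb) (hy.free b hab.2.1)
      have h4 : orderOf (a * b) = 4 := by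
        have h2 : (a * b) ^ 2 = D.z := by
          rw [pow_two, show a * b * (a * b) = a * (b * a * b⁻¹) * (b * b) by group, hab.2.2, mul_inv_cancel,
            one_mul, ← pow_two, D.sq_eq_z_of_orderOf_four hab.2.1]
        refine orderOf_eq_prime_pow (p := 2) (n := 1) ?_ ?_
        · rw [pow_one, h2]; exact D.z_ne_one
        · rw [show 2 ^ (1 + 1) = 2 * 2 by norm_num, pow_mul, h2, D.z_sq]
      refine hy.free (a * b) h4 (mul_inv_eq_iff_eq_mul.1 ?_)
      rw [show a * b * y * (a * b)⁻¹ = a * (b * y * b⁻¹) * a⁻¹ by group, ib,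
        show a * y⁻¹ * a⁻¹ = (a * y * a⁻¹)⁻¹ by group, ia, inv_inv]
  obtain ⟨O, T, hOM, hTM, -, hOodd, hOmem, hTp, hTc, hcard, hdecM⟩ := exists_odd_complement M hcyc
  have hAO : O = A := by
    refine le_antisymm (fun v hv => ?_) (fun v hv => ?_)
    · have hvo : Odd (orderOf v) := Odd.of_dvd_nat hOodd (O.orderOf_dvd_natCard hv)
      exact (hmem v).2 ⟨hvo, commute_of_odd h hperf D hy (hOM hv) hvo⟩
    · exact hOmem v (mem_normalizer_zpowers_iff.2
        (by rw [((hmem v).1 hv).2.eq, mul_inv_cancel_right]; exact mem_zpowers y)) ((hmem v).1 hv).1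
  -- some element of `T` does not centralise `y`
  obtain ⟨t, htT, hty⟩ : ∃ t ∈ T, ¬ Commute t y := by
    by_contra hno
    push Not at hno
    obtain ⟨R, hR⟩ := (IsPGroup.of_card (p := orderOf y) (n := 1) (G := zpowers y)
      (by rw [Nat.card_zpowers, pow_one])).exists_le_sylow
    refine not_dvd_of_burnside hperf R (normalizer_le_centralizer_of_fixed h hy.ne_two R
      (hR (mem_zpowers y)) rfl fun g hg => ?_) (orderOf_dvd_natCard y)
    haveI := isCyclic_of_isPGroup h hy.ne_two R.2
    have hmemR : g * y * g⁻¹ ∈ (R : Subgroup G) := (mem_normalizer_iff.1 hg y).1 (hR (mem_zpowers y))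
    have hgM : g ∈ M := mem_normalizer_zpowers_iff.2 (by
      rw [← zpowers_eq_of_commute h hy.prime (orderOf_conj' g y) rfl
        (congrArg Subtype.val (mul_comm' (⟨_, hmemR⟩ : (R : Subgroup G)) ⟨y, hR (mem_zpowers y)⟩))]
      exact mem_zpowers _)
    obtain ⟨o, ho, t, ht, rfl⟩ := hdecM g hgM
    exact ((hmem o).1 (hAO ▸ ho)).2.mul_left (hno t ht)
  haveI := hTc
  obtain ⟨s, hs⟩ := IsCyclic.exists_ofOrder_eq_natCard (α := T)
  rw [← Subgroup.orderOf_coe] at hs
  obtain ⟨k, hk⟩ := orderOf_isPGroup hTp s.2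
  have hk2 : 2 ≤ k := by
    by_contra hlt
    have h1 : t ^ 2 = 1 := by
      apply orderOf_dvd_iff_pow_eq_one.1
      refine (T.orderOf_dvd_natCard htT).trans ?_
      rw [← hs, hk]
      exact (pow_dvd_pow 2 (show k ≤ 1 by omega)).trans (by norm_num)
    rcases D.sq_eq_one_mem h1 with e | e <;> rw [e] at hty
    · exact hty (Commute.one_left y)
    · exact hty (D.z_comm y).symm
  set b := (s : G) ^ 2 ^ (k - 2)
  have hb4 : orderOf b = 4 := by
    rw [orderOf_pow' _ (by positivity), hk, Nat.gcd_eq_right (pow_dvd_pow 2 (by omega)),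
      Nat.pow_div (by omega) (by norm_num), show k - (k - 2) = 2 by omega]
  have hbM : b ∈ M := hTM (pow_mem s.2 _)
  have hby := inverts_of_four D hy.prime hb4 hbM (hy.free b hb4)
  have hbA : b ∈ normalizer (A : Set G) := mem_normalizer_of_forall_conj_mem fun v hv => by
    rw [hmem] at hv ⊢
    refine ⟨by rw [orderOf_conj']; exact hv.1, ?_⟩
    have : Commute (b * v * b⁻¹) (b * y * b⁻¹) := by
      show b * v * b⁻¹ * (b * y * b⁻¹) = b * y * b⁻¹ * (b * v * b⁻¹)
      calc b * v * b⁻¹ * (b * y * b⁻¹) = b * (v * y) * b⁻¹ := by group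
        _ = _ := by rw [hv.2.eq]; group
    rw [hby] at this
    simpa using this.inv_right
  have hfpf : ∀ v ∈ A, b * v * b⁻¹ = v → v = 1 := by
    intro v hv hfix
    by_contra hv1
    obtain ⟨q, hq, hqd⟩ := Nat.exists_prime_and_dvd (fun e => hv1 (orderOf_eq_one_iff.1 e))
    have hwo : orderOf (v ^ (orderOf v / q)) = q := orderOf_pow_orderOf_div (orderOf_pos v).ne' hqd
    have hq2 : q ≠ 2 := by
      rintro rfl
      exact absurd ((hmem v).1 hv).1 (Nat.not_odd_iff_even.2 (even_iff_two_dvd.2 hqd))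
    exact hy.closed _ (by rw [hwo]; exact hq) (by rw [hwo]; exact hq2) (((hmem v).1 hv).2.pow_left _) b hb4
      ((show Commute b v from mul_inv_eq_iff_eq_mul.1 hfix).pow_right _)
  let φ : A →* A :=
    { toFun := fun v => ⟨b * v * b⁻¹, (mem_normalizer_iff.1 hbA v).1 v.2⟩
      map_one' := Subtype.ext (by show b * (1 : G) * b⁻¹ = 1; group)
      map_mul' := fun v w => Subtype.ext (by
        show b * ((v : G) * w) * b⁻¹ = b * v * b⁻¹ * (b * w * b⁻¹)
        group) }
  have hinv : ∀ v : A, φ v = v⁻¹ := by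
    have h1 : MonoidHom.FixedPointFree φ := fun v hv => Subtype.ext (hfpf v v.2 (congrArg Subtype.val hv))
    have h2 : (⇑φ)^[2] = _root_.id := funext fun v => Subtype.ext (by
      show b * (b * v * b⁻¹) * b⁻¹ = v
      rw [show b * (b * v * b⁻¹) * b⁻¹ = b ^ 2 * v * (b ^ 2)⁻¹ by rw [pow_two]; group, D.sq_eq_z_of_orderOf_four hb4,
        ← D.z_comm, mul_inv_cancel_right])
    exact fun v => congrFun (h1.coe_eq_inv_of_sq_eq_one h2) v
  haveI : IsMulCommutative A := ⟨⟨fun v w => by
    have e := map_mul φ v w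
    rw [hinv, hinv, hinv, mul_inv_rev] at e
    exact inv_injective (by rw [mul_inv_rev, mul_inv_rev]; exact e)⟩⟩
  refine ⟨A, isCyclic_of_isMulCommutative h A, hAodd, hyA, hmem, hdec,
    ⟨b, hb4, hbM, hby, fun v hv => congrArg Subtype.val (hinv ⟨v, hv⟩)⟩, k, hk2, ?_, ?_, ?_⟩
  · obtain ⟨g, hg⟩ := D.exists_conj_into_S hTp
    have hd : orderOf (s : G) ∣ 2 ^ D.n := by
      rw [← orderOf_conj' g (s : G)]
      by_cases hgc : g * (s : G) * g⁻¹ ∈ zpowers D.c
      · exact D.ord_c ▸ orderOf_dvd_of_mem_zpowers hgc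
      · rw [D.orderOf_outside (hg _ s.2) hgc]
        exact (pow_dvd_pow 2 D.two_le : 2 ^ 2 ∣ _)
    rw [hk] at hd
    exact (Nat.pow_dvd_pow_iff_le_right (by norm_num)).1 hd
  · rw [hcard, hAO, ← hs, hk, mul_comm]
  · intro h3
    by_contra hk3
    obtain ⟨j, hj⟩ := mem_zpowers_iff.1 (mem_normalizer_zpowers_iff.1 (hTM s.2))
    -- the square of `s` centralises `y`
    have hj2 : y ^ j ^ 2 = y := by
      conv_rhs => rw [← zpow_one y]
      rw [zpow_eq_zpow_iff_modEq, h3, ← ZMod.intCast_eq_intCast_iff, Int.cast_pow, Int.cast_one]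
      have hj0 : (j : ZMod 3) ≠ 0 := by
        intro e
        rw [ZMod.intCast_zmod_eq_zero_iff_dvd] at e
        obtain ⟨c, rfl⟩ := e
        rw [zpow_mul, show y ^ ((3 : ℕ) : ℤ) = 1 by rw [zpow_natCast, ← h3, pow_orderOf_eq_one], one_zpow] at hj
        have : y = 1 := by simpa using hj.symm
        rw [this, orderOf_one] at h3
        norm_num at h3
      revert hj0
      generalize (j : ZMod 3) = u
      revert u
      decide
    rw [← conj_pow_zpow hj.symm] at hj2
    have hc2 : Commute ((s : G) ^ 2) y := mul_inv_eq_iff_eq_mul.1 hj2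
    refine hy.free b hb4 ?_
    have e : b = ((s : G) ^ 2) ^ 2 ^ (k - 3) := by
      rw [← pow_mul, ← pow_succ', show k - 3 + 1 = k - 2 by omega]
    rw [e]
    exact hc2.pow_left _

end FreeClosed

end Cfsg.Agent.Lib.ZassSL25
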