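import Mathlib
import Cfsg.Agent.Lib.ZassSL25.Torus

/-!
Fusion of the elements of order four, and a consequence of the inductive hypothesis.
-/

set_option autoImplicit false

namespace Cfsg.Agent.Lib.ZassSL25

open Subgroup
open scoped commutatorElement

universe u

variable {G : Type u} [Group G] [Finite G]

/-- What is known about proper perfect subgroups. -/
def SmallPerfect (G : Type u) [Group G] : Prop :=
  ∀ L : Subgroup G, L ≠ ⊤ → L ≠ ⊥ → ⁅L, L⁆ = L → Nat.card L = 120 ∧
    ∀ a ∈ L, orderOf a = 4 → ∀ v ∈ L, Commute v a → v ^ 4 = 1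

namespace QData

variable (D : QData G)

theorem inv_eq_mul_z {a : G} (ha : orderOf a = 4) : a⁻¹ = a * D.z := by
  rw [← D.sq_eq_z_of_orderOf_four ha]
  refine inv_eq_of_mul_eq_one_right ?_
  rw [← mul_assoc, ← pow_two, ← pow_add, show 2 + 2 = orderOf a by rw [ha], pow_orderOf_eq_one]

theorem zpow_conj_outside {d : G} (hd : d ∈ (D.S : Subgroup G)) (hdc : d ∉ zpowers D.c) (j : ℤ) :
    D.c ^ j * d * (D.c ^ j)⁻¹ = D.c ^ (2 * j) * d := by
  have h := D.outside_conj_zpowers hd hdc (inv_mem (zpow_mem (mem_zpowers D.c) j))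
  rw [inv_inv, mul_inv_eq_iff_eq_mul] at h
  have e : d * (D.c ^ j)⁻¹ = D.c ^ j * d := h
  rw [mul_assoc, e, ← mul_assoc, ← zpow_add, two_mul]

/-- For a reflection `d` some element carries `i` to `d` and `d` to an element generating a
quaternion group with it. -/
theorem exists_rotation (hperf : commutator G = ⊤) {d : G} (hd : d ∈ (D.S : Subgroup G))
    (hdc : d ∉ zpowers D.c) :
    ∃ y : G, y * D.i * y⁻¹ = d ∧ D.i ∈ closure {d, y * d * y⁻¹} := by
  have hdi : QPair d D.i := by
    refine ⟨D.orderOf_outside hd hdc, D.ord_i, ?_⟩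
    have h := D.outside_conj_zpowers hd hdc (inv_mem D.i_mem)
    rw [inv_inv] at h
    calc D.i * d * D.i⁻¹ = D.i * (d * D.i⁻¹ * d⁻¹) * d := by group
      _ = D.z * d := by rw [h, ← pow_two, D.i_sq]
      _ = d⁻¹ := by rw [← D.z_comm, D.inv_eq_mul_z (D.orderOf_outside hd hdc)]
  obtain ⟨g, e, he, hec, hgd, hgi⟩ := D.exists_normalize hperf hdi
  obtain ⟨m, hm⟩ : ∃ m : ℤ, e = D.c ^ m * d := by
    obtain ⟨m, hm⟩ := mem_zpowers_iff.1 (D.mul_mem_c he (inv_mem hd) hec (outside_inv D hdc))
    exact ⟨m, by rw [hm, inv_mul_cancel_right]⟩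
  have hg1 : g⁻¹ * D.i * g = d := by rw [← hgd]; group
  have hg2 : g⁻¹ * e * g = D.i := by rw [← hgi]; group
  rcases Int.even_or_odd m with ⟨j, hj⟩ | ⟨j, hj⟩
  · refine ⟨g⁻¹ * D.c ^ j, ?_, ?_⟩
    · have hci : D.c ^ j * D.i * (D.c ^ j)⁻¹ = D.i := by
        rw [show D.i = D.c ^ 2 ^ (D.n - 2) from rfl,
          (((Commute.refl D.c).zpow_left j).pow_right _).eq, mul_inv_cancel_right]
      calc g⁻¹ * D.c ^ j * D.i * (g⁻¹ * D.c ^ j)⁻¹ = g⁻¹ * (D.c ^ j * D.i * (D.c ^ j)⁻¹) * g := by group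
        _ = d := by rw [hci, hg1]
    · refine subset_closure ?_
      right
      show D.i = g⁻¹ * D.c ^ j * d * (g⁻¹ * D.c ^ j)⁻¹
      rw [show g⁻¹ * D.c ^ j * d * (g⁻¹ * D.c ^ j)⁻¹ = g⁻¹ * (D.c ^ j * d * (D.c ^ j)⁻¹) * g by group,
        D.zpow_conj_outside hd hdc, two_mul, ← hj, ← hm, hg2]
  · by_cases hn : D.n = 2
    · -- here `c = i`
      refine ⟨g⁻¹, by rw [inv_inv]; exact hg1, ?_⟩
      rw [inv_inv]
      have hci : D.c = D.i := by rw [show D.i = D.c ^ 2 ^ (D.n - 2) from rfl, hn]; simp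
      set K := closure {d, g⁻¹ * d * g}
      have h1 : d ∈ K := subset_closure (Or.inl rfl)
      have h2 : g⁻¹ * d * g ∈ K := subset_closure (Or.inr rfl)
      -- `g⁻¹ e g = i` where `e = c ^ m * d`
      have h3 : D.i = d ^ m * (g⁻¹ * d * g) :=
        calc D.i = g⁻¹ * e * g := hg2.symm
          _ = g⁻¹ * D.i ^ m * g⁻¹⁻¹ * (g⁻¹ * d * g) := by rw [hm, hci]; group
          _ = (g⁻¹ * D.i * g⁻¹⁻¹) ^ m * (g⁻¹ * d * g) := by rw [conj_zpow]
          _ = _ := by rw [inv_inv, hg1]
      rw [h3]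
      exact mul_mem (zpow_mem h1 m) h2
    exfalso
    have hn3 : 3 ≤ D.n := by have := D.two_le; omega
    set c' := D.c ^ 2 ^ (D.n - 3) with hc'
    have hc'2 : c' * c' = D.i := by
      rw [hc', ← pow_add, ← two_mul, ← pow_succ', show D.n - 3 + 1 = D.n - 2 by omega]; rfl
    have hc'i : c' * D.i * c'⁻¹ = D.i := by rw [← hc'2]; group
    have hc'out : ∀ v ∈ (D.S : Subgroup G), v ∉ zpowers D.c → c' * v * c'⁻¹ = D.i * v := fun v hv hvc => by
      rw [hc', ← zpow_natCast D.c (2 ^ (D.n - 3)), D.zpow_conj_outside hv hvc, two_mul, zpow_add, zpow_natCast, ← hc', hc'2]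
    set f := g * c' * g⁻¹
    have hfe : f * e * f⁻¹ = e := by
      calc f * e * f⁻¹ = g * (c' * (g⁻¹ * e * g) * c'⁻¹) * g⁻¹ := by simp only [f]; group
        _ = e := by rw [hg2, hc'i, ← hgi]
    have hfi : f * D.i * f⁻¹ = e * D.i := by
      calc f * D.i * f⁻¹ = g * (c' * (g⁻¹ * D.i * g) * c'⁻¹) * g⁻¹ := by simp only [f]; group
        _ = g * D.i * g⁻¹ * (g * d * g⁻¹) := by rw [hg1, hc'out d hd hdc]; group
        _ = _ := by rw [hgi, hgd]
    set w := f * c'
    have hwe : w * e * w⁻¹ = D.i := by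
      calc w * e * w⁻¹ = f * (c' * e * c'⁻¹) * f⁻¹ := by simp only [w]; group
        _ = f * D.i * f⁻¹ * (f * e * f⁻¹) := by rw [hc'out e he hec]; group
        _ = e * D.i * e := by rw [hfi, hfe]
        _ = e * D.i * e⁻¹ * e ^ 2 := by group
        _ = D.i := by rw [D.outside_conj_zpowers he hec D.i_mem, (D.outside e he hec).1,
              D.inv_eq_mul_z D.ord_i, mul_assoc, ← pow_two, D.z_sq, mul_one]
    have hwei : w * (e * D.i) * w⁻¹ = e := by
      calc w * (e * D.i) * w⁻¹ = w * e * w⁻¹ * (f * (c' * D.i * c'⁻¹) * f⁻¹) := by simp only [w]; group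
        _ = D.i * (e * D.i) := by rw [hwe, hc'i, hfi]
        _ = e := by
            have := D.outside_conj_zpowers he hec D.i_mem
            rw [mul_inv_eq_iff_eq_mul] at this
            rw [this, mul_inv_cancel_left]
    set k := g⁻¹ * w⁻¹
    have hki : k * D.i * k⁻¹ = D.i := by
      calc k * D.i * k⁻¹ = g⁻¹ * (w⁻¹ * D.i * w) * g := by simp only [k]; group
        _ = g⁻¹ * e * g := by rw [show w⁻¹ * D.i * w = e by rw [← hwe]; group]
        _ = _ := hg2
    have hke : k * e * k⁻¹ = D.i * d := by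
      calc k * e * k⁻¹ = g⁻¹ * (w⁻¹ * e * w) * g := by simp only [k]; group
        _ = g⁻¹ * (e * D.i) * g := by
            rw [show w⁻¹ * e * w = e * D.i from
              calc w⁻¹ * e * w = w⁻¹ * (w * (e * D.i) * w⁻¹) * w := by rw [hwei]
                _ = e * D.i := by group]
        _ = g⁻¹ * e * g * (g⁻¹ * D.i * g) := by group
        _ = _ := by rw [hg2, hg1]
    obtain ⟨v, hv, t, ht, hvt⟩ := D.centralizer_i_spec.2.2.2 k
      (mem_centralizer_singleton_iff.2 (mul_inv_eq_iff_eq_mul.1 hki))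
    obtain ⟨j', rfl⟩ := mem_zpowers_iff.1 ht
    set e' := D.c ^ (2 * j' + m) * d
    have he'S : e' ∈ (D.S : Subgroup G) := mul_mem (zpow_mem D.c_mem _) hd
    have hte : D.c ^ j' * e * (D.c ^ j')⁻¹ = e' := by
      rw [D.zpow_conj_outside he hec, hm, ← mul_assoc, ← zpow_add]
    have hve : v * e' * v⁻¹ = D.i * d := by
      rw [← hte, ← hke, ← hvt]; group
    -- modulo `U` the two reflections agree
    have hmemU : D.i * d * e'⁻¹ ∈ D.U := by
      rw [← hve, show v * e' * v⁻¹ * e'⁻¹ = v * (e' * v⁻¹ * e'⁻¹) by group]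
      exact mul_mem hv ((mem_normalizer_iff.1 (D.S_le_normalizer_U he'S) _).1 (inv_mem hv))
    have hSU : D.i * d * e'⁻¹ = 1 := by
      refine eq_one_of_odd_two (Odd.of_dvd_nat D.odd_U (D.U.orderOf_dvd_natCard hmemU)) ?_
      exact orderOf_isPGroup D.S.2 (mul_mem (mul_mem (D.zpowers_c_le D.i_mem) hd) (inv_mem he'S))
    rw [mul_inv_eq_one, mul_right_cancel_iff, show D.i = D.c ^ ((2 ^ (D.n - 2) : ℕ) : ℤ) by
      rw [zpow_natCast]; rfl, zpow_eq_zpow_iff_modEq, D.ord_c, Int.modEq_iff_dvd] at hSU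
    have h2 : (2 : ℤ) ∣ (2 ^ D.n : ℕ) := by
      exact_mod_cast dvd_pow_self 2 (show D.n ≠ 0 by omega)
    have h2' : (2 : ℤ) ∣ (2 ^ (D.n - 2) : ℕ) := by
      exact_mod_cast dvd_pow_self 2 (show D.n - 2 ≠ 0 by omega)
    have := h2.trans hSU
    omega

end QData

/-- If all elements of order four of the proper subgroup `K` are fused, its quaternion 2-subgroups
have order eight and their cyclic parts centralise no element they invert. -/
theorem key (h : FPFGroup G) (D : QData G) (hIH : SmallPerfect G) {K T : Subgroup G} (hK : K ≠ ⊤)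
    (hT : T ≤ K) (hTp : IsPGroup 2 T) {a b : G} (ha : a ∈ T) (hb : b ∈ T) (hab : QPair a b)
    (hgen : T ≤ closure {t : G | t ∈ T ∧ orderOf t = 4})
    (hfus : ∀ v ∈ K, orderOf v = 4 → ∃ k ∈ K, k * a * k⁻¹ = v ∨ k * a * k⁻¹ = v⁻¹) :
    Nat.card T ≤ 8 ∧
      ∀ x ∈ K, (orderOf x).Prime → orderOf x ≠ 2 → Commute a x → b * x * b⁻¹ = x⁻¹ → False := by
  classical
  let W : ℕ → Subgroup G := fun j => (derivedSeries K j).map K.subtype
  have hWK : ∀ j, W j ≤ K := fun j => map_subtype_le _
  have hW0 : W 0 = K := by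
    show (derivedSeries K 0).map K.subtype = K
    rw [derivedSeries_zero, ← MonoidHom.range_eq_map, range_subtype]
  have hWs : ∀ j, W (j + 1) = ⁅W j, W j⁆ := fun j => by
    show (derivedSeries K (j + 1)).map K.subtype = _
    rw [derivedSeries_succ, map_commutator]
  have hWn : ∀ j, ∀ k ∈ K, ∀ v ∈ W j, k * v * k⁻¹ ∈ W j := by
    intro j k hk v hv
    obtain ⟨v', hv', rfl⟩ := hv
    exact ⟨⟨k, hk⟩ * v' * ⟨k, hk⟩⁻¹, Subgroup.Normal.conj_mem inferInstance _ hv' _, rfl⟩
  have hTW : ∀ j, a ∈ W j → T ≤ W j := fun j hj => hgen.trans ((closure_le _).2 fun t ht => by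
    obtain ⟨k, hk, e | e⟩ := hfus t (hT ht.1) ht.2
    · exact e ▸ hWn j k hk a hj
    · exact inv_mem_iff.1 (e ▸ hWn j k hk a hj))
  have hxW : ∀ j x, x ∈ K → Odd (orderOf x) → b * x * b⁻¹ = x⁻¹ → b ∈ W j → x ∈ W j := by
    intro j x hx ho hbx hbj
    have h1 : (b * x * b⁻¹ * x⁻¹) ∈ W j := by
      have := mul_mem hbj (hWn j x hx _ (inv_mem hbj))
      convert this using 1; group
    rw [hbx, ← pow_two] at h1
    have h2 : (x⁻¹) ∈ W j := mem_of_coprime_pows (W j) (a := 2) (b := orderOf x)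
      (Nat.coprime_two_left.2 ho) h1 (by rw [inv_pow, pow_orderOf_eq_one, inv_one]; exact one_mem _)
    exact inv_mem_iff.1 h2
  by_cases hall : ∀ j, a ∈ W j
  · obtain ⟨j, hj⟩ : ∃ j, W (j + 1) = W j := by
      by_contra hno
      push Not at hno
      have hlt : ∀ j, Nat.card (W (j + 1)) < Nat.card (W j) := fun j => by
        have hle : W (j + 1) ≤ W j := map_mono (derivedSeries_antitone K j.le_succ)
        exact lt_of_le_of_ne (card_le_of_le hle) fun e => hno j (eq_of_le_of_card_ge hle e.ge)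
      have hbound : ∀ j, Nat.card (W j) + j ≤ Nat.card (W 0) := by
        intro j
        induction j with
        | zero => simp
        | succ j ih => have := hlt j; omega
      have := hbound (Nat.card (W 0))
      have := Nat.card_pos (α := W (Nat.card (W 0)))
      omega
    have ha1 : a ≠ 1 := fun e => by simp [e] at hab; exact absurd hab.1 (by simp [orderOf_one])
    obtain ⟨hcard, hL⟩ := hIH (W j) (fun e => hK (top_le_iff.1 (e ▸ hWK j)))
      (fun e => ha1 (mem_bot.1 (e ▸ hall j))) ((hWs j).symm.trans hj)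
    refine ⟨?_, fun x hx hp hp2 hax hbx => ?_⟩
    · obtain ⟨k, hk⟩ := IsPGroup.iff_card.1 hTp
      have hd : Nat.card T ∣ 120 := hcard ▸ card_dvd_of_le (hTW j (hall j))
      rw [hk] at hd ⊢
      have hk3 : k ≤ 3 := by
        by_contra hlt
        exact absurd ((pow_dvd_pow 2 (show 4 ≤ k by omega)).trans hd) (by norm_num)
      calc 2 ^ k ≤ 2 ^ 3 := Nat.pow_le_pow_right (by norm_num) hk3
        _ = 8 := by norm_num
    · have hxL := hxW j x hx (odd_of_prime_ne_two hp hp2) hbx (hTW j (hall j) hb)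
      have h4 := hL a (hall j) hab.1 x hxL hax.symm
      have h2 : orderOf x ∣ 2 ^ 2 := orderOf_dvd_of_pow_eq_one h4
      exact hp2 ((Nat.prime_dvd_prime_iff_eq hp Nat.prime_two).1 (hp.dvd_of_dvd_pow h2))
  · push Not at hall
    obtain ⟨j, hj, hj1⟩ : ∃ j, a ∈ W j ∧ a ∉ W (j + 1) := by
      by_contra hno
      push Not at hno
      obtain ⟨m, hm⟩ := hall
      refine hm ?_
      have : ∀ j, a ∈ W j := fun j => by
        induction j with
        | zero => rw [hW0]; exact hT ha
        | succ j ih => exact hno j ih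
      exact this m
    set N := W (j + 1)
    have hN4 : ∀ v ∈ N, orderOf v ≠ 4 := by
      intro v hv hv4
      obtain ⟨k, hk, e | e⟩ := hfus v (hWK _ hv) hv4
      · refine hj1 ?_
        have := hWn (j + 1) k⁻¹ (inv_mem hk) v hv
        rw [← e] at this; simpa [mul_assoc] using this
      · refine hj1 ?_
        have := hWn (j + 1) k⁻¹ (inv_mem hk) _ (inv_mem hv)
        rw [← e] at this; simpa [mul_assoc] using this
    have hTj := hTW j hj
    have hcomm : ∀ u ∈ W j, ∀ v ∈ W j, u * v * u⁻¹ * v⁻¹ ∈ N := fun u hu v hv => by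
      show _ ∈ W (j + 1)
      rw [hWs]
      exact commutator_mem_commutator hu hv
    refine ⟨?_, fun x hx hp hp2 hax hbx => ?_⟩
    · by_contra hbig
      obtain ⟨g, hg⟩ := D.exists_conj_into_S hTp
      obtain ⟨e, heT, hec⟩ : ∃ e ∈ T, g * e * g⁻¹ ∉ zpowers D.c := by
        by_contra hno
        push Not at hno
        have hc : Commute (g * b * g⁻¹) (g * a * g⁻¹) := by
          obtain ⟨p, hp⟩ := mem_zpowers_iff.1 (hno b hb)
          obtain ⟨q, hq⟩ := mem_zpowers_iff.1 (hno a ha)
          rw [← hp, ← hq]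
          exact (Commute.refl D.c).zpow_zpow p q
        refine hab.not_commute ((MulAut.conj g).injective ?_)
        simp only [map_mul]
        exact hc
      -- an element of `T` of order at least eight mapped into `⟨c⟩`
      obtain ⟨v, hvT, hvc, hv4⟩ : ∃ v ∈ T, g * v * g⁻¹ ∈ zpowers D.c ∧ v ^ 4 ≠ 1 := by
        by_contra hno
        push Not at hno
        refine hbig ?_
        let C' : Subgroup G := ((zpowers D.c).comap (MulAut.conj g).toMonoidHom) ⊓ T
        have hidx : C'.relIndex T ≤ 2 := by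
          rw [inf_relIndex_right, relIndex_comap, ← D.relIndex_c]
          refine relIndex_le_of_le_right ?_ (by rw [D.relIndex_c]; norm_num)
          rintro _ ⟨t, ht, rfl⟩
          exact hg t ht
        have hC : Nat.card C' ≤ 4 := by
          haveI : IsCyclic C' := by
            let φ : C' →* zpowers D.c :=
              ((MulAut.conj g).toMonoidHom.comp C'.subtype).codRestrict _ fun t => t.2.1
            exact isCyclic_of_injective φ fun s t e => Subtype.ext
              ((MulAut.conj g).injective (congrArg Subtype.val e))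
          obtain ⟨v, hv⟩ := IsCyclic.exists_ofOrder_eq_natCard (α := C')
          rw [← hv, ← Subgroup.orderOf_coe]
          exact orderOf_le_of_pow_eq_one (by norm_num) (hno v v.2.2 v.2.1)
        have := relIndex_mul_relIndex ⊥ C' T bot_le inf_le_right
        rw [relIndex_bot_left, relIndex_bot_left] at this
        rw [← this]
        calc Nat.card C' * C'.relIndex T ≤ 4 * 2 := Nat.mul_le_mul hC hidx
          _ = 8 := by norm_num
      have hcm := hcomm e (hTj heT) v (hTj hvT)
      have heq : g * (e * v * e⁻¹ * v⁻¹) * g⁻¹ = (g * v * g⁻¹) ^ (-2 : ℤ) := by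
        rw [show g * (e * v * e⁻¹ * v⁻¹) * g⁻¹ = g * e * g⁻¹ * (g * v * g⁻¹) * (g * e * g⁻¹)⁻¹ * (g * v * g⁻¹)⁻¹ by group,
          D.outside_conj_zpowers (hg e heT) hec hvc]
        generalize g * v * g⁻¹ = y
        group
      set u := e * v * e⁻¹ * v⁻¹
      have huT : u ∈ T := mul_mem (mul_mem (mul_mem heT hvT) (inv_mem heT)) (inv_mem hvT)
      have hu2 : u ^ 2 = 1 := by
        obtain ⟨k, hk⟩ := orderOf_isPGroup hTp huT
        by_contra h2
        have hk2 : 2 ≤ k := by
          by_contra hlt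
          refine h2 (orderOf_dvd_iff_pow_eq_one.1 ?_)
          rw [hk]
          exact (pow_dvd_pow 2 (show k ≤ 1 by omega)).trans (by norm_num)
        exact hN4 _ (pow_mem hcm (2 ^ (k - 2))) (by
          rw [orderOf_pow' _ (by positivity), hk, Nat.gcd_eq_right (pow_dvd_pow 2 (by omega)),
            Nat.pow_div (by omega) (by norm_num), show k - (k - 2) = 2 by omega])
      refine hv4 ((MulAut.conj g).injective ?_)
      rw [map_pow, map_one, MulAut.conj_apply]
      have h5 : ((g * v * g⁻¹) ^ (-2 : ℤ)) ^ 2 = 1 := by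
        rw [← heq, conj_pow, hu2, mul_one, mul_inv_cancel]
      rw [← zpow_natCast, ← zpow_mul, show (-2 : ℤ) * ((2 : ℕ) : ℤ) = -((4 : ℕ) : ℤ) by norm_num,
        zpow_neg, inv_eq_one, zpow_natCast] at h5
      exact h5
    · have hxo := odd_of_prime_ne_two hp hp2
      have hxj := hxW j x hx hxo hbx (hTj hb)
      have hxN : x ∈ N := by
        have h1 := hcomm b (hTj hb) x hxj
        rw [hbx, ← pow_two] at h1
        exact inv_mem_iff.1 (mem_of_coprime_pows N (a := 2) (b := orderOf x)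
          (Nat.coprime_two_left.2 hxo) h1 (by rw [inv_pow, pow_orderOf_eq_one, inv_one]; exact one_mem _))
      have hcyc : ∀ T' : Subgroup G, T' ≤ N → IsPGroup 2 T' → IsCyclic T' := fun T' hT' hTp' => by
        rcases D.twoGroup_cases hTp' with hc | ⟨u, hu, w, -, huw⟩
        · exact hc
        · exact absurd huw.1 (hN4 u (hT' hu))
      obtain ⟨O, -, hON, -, -, hOodd, hOmem, -, -, -, -⟩ := exists_odd_complement N hcyc
      have hxn : ∀ k ∈ K, k ∈ normalizer (zpowers x : Set G) := by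
        intro k hk
        have hk' : k * x * k⁻¹ ∈ O := hOmem _ (hWn _ k hk x hxN) (by rw [orderOf_conj']; exact hxo)
        have hc := commute_prime_of_odd h hOodd hk' (hOmem x hxN hxo) (by rw [orderOf_conj']; exact hp) hp
        rw [mem_normalizer_zpowers_iff, ← zpowers_eq_of_commute h hp (orderOf_conj' k x) rfl hc]
        exact mem_zpowers _
      obtain ⟨k, hk, hkb⟩ := hfus b (hT hb) hab.2.1
      have hka : Commute (k * a * k⁻¹) x := by
        have h1 : Commute (k * a * k⁻¹ * a⁻¹) x := commute_commutator (hxn k hk) (hxn a (hT ha))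
        have h2 := h1.mul_left hax
        rwa [inv_mul_cancel_right] at h2
      have hbx' : Commute b x := by
        rcases hkb with e | e <;> rw [e] at hka
        · exact hka
        · exact inv_inv b ▸ hka.inv_left
      rw [hbx'.eq, mul_inv_cancel_right] at hbx
      have h2 : x ^ 2 = 1 := by rw [pow_two]; nth_rewrite 1 [hbx]; exact inv_mul_cancel x
      exact hp2 ((Nat.prime_dvd_prime_iff_eq hp Nat.prime_two).1 (orderOf_dvd_of_pow_eq_one h2))

end Cfsg.Agent.Lib.ZassSL25
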