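import Mathlib
import Cfsg.Agent.Lib.ZassSL25.Fused

/-!
Helper facts for the study of elements centralising a quaternion group.
-/

set_option autoImplicit false

namespace Cfsg.Agent.Lib.ZassSL25

open Subgroup

universe u

variable {G : Type u} [Group G] [Finite G]

omit [Finite G] in
theorem conj_eq_iff_commute {g x : G} : g * x * g⁻¹ = x ↔ Commute g x := mul_inv_eq_iff_eq_mul

omit [Finite G] in
theorem commute_conj_conj {g v x : G} (hv : Commute v x) :
    Commute (g * v * g⁻¹) (g * x * g⁻¹) := by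
  show g * v * g⁻¹ * (g * x * g⁻¹) = g * x * g⁻¹ * (g * v * g⁻¹)
  calc g * v * g⁻¹ * (g * x * g⁻¹) = g * (v * x) * g⁻¹ := by group
    _ = _ := by rw [hv.eq]; group

theorem mem_normalizer_of_commute {g x : G} (hc : Commute g x) :
    g ∈ normalizer (zpowers x : Set G) :=
  mem_normalizer_zpowers_iff.2 (by rw [conj_eq_iff_commute.2 hc]; exact mem_zpowers x)

theorem centralizer_le_normalizer_zpowers (x : G) :
    centralizer ({x} : Set G) ≤ normalizer (zpowers x : Set G) := fun _ hg =>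
  mem_normalizer_of_commute (mem_centralizer_singleton_iff.1 hg)

theorem commute_conj_of_mem_normalizer {x g v : G} (hg : g ∈ normalizer (zpowers x : Set G))
    (hv : Commute v x) : Commute (g * v * g⁻¹) x := by
  obtain ⟨j, hj⟩ := mem_zpowers_iff.1 (mem_normalizer_zpowers_iff.1 (inv_mem hg))
  rw [inv_inv] at hj
  have := commute_conj_conj (g := g) (hv.zpow_right j)
  rwa [hj, show g * (g⁻¹ * x * g) * g⁻¹ = x by group] at this

/-- An element normalising `⟨x⟩` whose square centralises `x` inverts or centralises it. -/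
theorem inverts_of_sq {x g : G} (hx : (orderOf x).Prime) (hn : g ∈ normalizer (zpowers x : Set G))
    (h2 : Commute (g ^ 2) x) (hne : ¬ Commute g x) : g * x * g⁻¹ = x⁻¹ := by
  haveI := Fact.mk hx
  obtain ⟨j, hj⟩ := mem_zpowers_iff.1 (mem_normalizer_zpowers_iff.1 hn)
  have hj2 : x ^ j ^ 2 = x := by
    rw [← conj_pow_zpow hj.symm, conj_eq_iff_commute]; exact h2
  have key : ∀ m n : ℤ, x ^ m = x ^ n ↔ (m : ZMod (orderOf x)) = n := fun m n => by
    rw [zpow_eq_zpow_iff_modEq, ← ZMod.intCast_eq_intCast_iff]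
  nth_rewrite 2 [← zpow_one x] at hj2
  rw [key, Int.cast_pow, Int.cast_one, sq_eq_one_iff] at hj2
  rcases hj2 with h | h
  · exfalso
    refine hne (conj_eq_iff_commute.1 ?_)
    rw [← hj]
    conv_rhs => rw [← zpow_one x]
    rw [key, h, Int.cast_one]
  · rw [← hj, ← zpow_neg_one, key, h]
    simp

theorem commute_of_sq_odd {x g : G} (h2 : Commute (g ^ 2) x) (ho : Odd (orderOf g)) : Commute g x := by
  refine mem_centralizer_singleton_iff.1 (mem_of_coprime_pows (centralizer ({x} : Set G)) (a := 2)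
    (b := orderOf g) (Nat.coprime_two_left.2 ho) (mem_centralizer_singleton_iff.2 h2.eq) ?_)
  rw [pow_orderOf_eq_one]; exact one_mem _

omit [Finite G] in
theorem commute_sq_of_pm {g t : G} (h : g * t * g⁻¹ = t ∨ g * t * g⁻¹ = t⁻¹) : Commute (g ^ 2) t := by
  rw [← conj_eq_iff_commute, show g ^ 2 * t * (g ^ 2)⁻¹ = g * (g * t * g⁻¹) * g⁻¹ by rw [pow_two]; group]
  rcases h with e | e
  · rw [e, e]
  · rw [e, show g * t⁻¹ * g⁻¹ = (g * t * g⁻¹)⁻¹ by group, e, inv_inv]

theorem orderOf_pow_primePow {v : G} {q k : ℕ} (hq : q.Prime) (hv : orderOf v = q ^ (k + 1)) :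
    orderOf (v ^ q ^ k) = q := by
  rw [orderOf_pow' _ (pow_ne_zero _ hq.ne_zero), hv, Nat.gcd_eq_right (pow_dvd_pow q k.le_succ),
    Nat.pow_div k.le_succ hq.pos]
  simp

theorem odd_orderOf_primePow {v : G} {q k : ℕ} (hq : q.Prime) (hq2 : q ≠ 2) (hv : orderOf v = q ^ k) :
    Odd (orderOf v) := hv ▸ (odd_of_prime_ne_two hq hq2).pow

/-- A 2-subgroup of `K` of maximal order contains a conjugate of every other. -/
theorem exists_conj_in {K T P : Subgroup G} (hTK : T ≤ K) (hT : IsPGroup 2 T)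
    (hmax : ∀ P' : Subgroup G, P' ≤ K → IsPGroup 2 P' → Nat.card P' ≤ Nat.card T)
    (hPK : P ≤ K) (hP : IsPGroup 2 P) : ∃ k ∈ K, ∀ v ∈ P, k * v * k⁻¹ ∈ T := by
  classical
  haveI : Fact (Nat.Prime 2) := ⟨Nat.prime_two⟩
  obtain ⟨T', hT'⟩ := (hT.comap_of_injective K.subtype K.subtype_injective :
    IsPGroup 2 (T.subgroupOf K)).exists_le_sylow
  obtain ⟨P', hP'⟩ := (hP.comap_of_injective K.subtype K.subtype_injective :
    IsPGroup 2 (P.subgroupOf K)).exists_le_sylow
  have hTeq : T = (T' : Subgroup K).map K.subtype := by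
    refine eq_of_le_of_card_ge ?_ (hmax _ (map_subtype_le _) (T'.2.map _))
    intro t ht
    exact ⟨⟨t, hTK ht⟩, hT' ht, rfl⟩
  obtain ⟨k, hk⟩ := MulAction.exists_smul_eq K P' T'
  refine ⟨k, k.2, fun v hv => ?_⟩
  rw [hTeq]
  refine ⟨k * ⟨v, hPK hv⟩ * k⁻¹, ?_, rfl⟩
  rw [← hk]
  exact Subgroup.smul_mem_pointwise_smul _ (MulAut.conj k) _ (hP' hv)

theorem QData.card_le_S (D : QData G) {P : Subgroup G} (hP : IsPGroup 2 P) :
    Nat.card P ≤ Nat.card (D.S : Subgroup G) := by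
  obtain ⟨g, hg⟩ := D.exists_conj_into_S hP
  exact Nat.card_le_card_of_injective (fun v : P => (⟨g * v * g⁻¹, hg v v.2⟩ : (D.S : Subgroup G)))
    fun a b e => Subtype.ext ((MulAut.conj g).injective (congrArg Subtype.val e))

omit [Finite G] in
/-- `K` has twice the order of a subgroup `L` with one further coset `cL`. -/
theorem card_eq_two_mul {K L : Subgroup G} (hLK : L ≤ K) {c : G} (hc : c ∈ K) (hcL : c ∉ L)
    (h : ∀ g ∈ K, g ∈ L ∨ c⁻¹ * g ∈ L) : Nat.card K = 2 * Nat.card L := by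
  classical
  let f : Bool × L → K := fun p =>
    if p.1 then ⟨c * p.2, mul_mem hc (hLK p.2.2)⟩ else ⟨p.2, hLK p.2.2⟩
  have hf : Function.Bijective f := by
    refine ⟨?_, fun g => ?_⟩
    · rintro ⟨a, l⟩ ⟨b, l'⟩ e
      have e' := congrArg Subtype.val e
      cases a <;> cases b <;> simp [f] at e'
      · simp [e']
      · exfalso
        refine hcL ?_
        rw [eq_mul_inv_of_mul_eq e'.symm]
        exact mul_mem l.2 (inv_mem l'.2)
      · exfalso
        refine hcL ?_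
        rw [eq_mul_inv_of_mul_eq e']
        exact mul_mem l'.2 (inv_mem l.2)
      · simp [e']
    · rcases h g g.2 with h' | h'
      · exact ⟨(false, ⟨g, h'⟩), Subtype.ext (by simp [f])⟩
      · exact ⟨(true, ⟨c⁻¹ * g, h'⟩), Subtype.ext (by simp [f])⟩
  rw [← Nat.card_congr (Equiv.ofBijective f hf), Nat.card_prod]
  simp

omit [Finite G] in
/-- An involutory automorphism of an odd order group fixes an element in every coset it stabilises. -/
theorem exists_fixed_mul {V K : Subgroup G} (hV : Odd (Nat.card V)) {a u : G} (hu : u ∈ V)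
    (hav : a * u * a⁻¹ ∈ V) (h2 : Commute (a ^ 2) u) (hK : u⁻¹ * (a * u * a⁻¹) ∈ K) :
    ∃ t, t ∈ V ∧ t ∈ K ∧ Commute a (u * t) := by
  set w := u⁻¹ * (a * u * a⁻¹) with hw
  have hwV : w ∈ V := mul_mem (inv_mem hu) hav
  obtain ⟨j, hj⟩ : ∃ j : ℕ, orderOf w = 2 * j + 1 :=
    Odd.of_dvd_nat hV (V.orderOf_dvd_natCard hwV)
  have hinv : a * w * a⁻¹ = w⁻¹ :=
    calc a * w * a⁻¹ = (a * u * a⁻¹)⁻¹ * (a ^ 2 * u * (a ^ 2)⁻¹) := by rw [hw, pow_two]; group
      _ = w⁻¹ := by rw [conj_eq_iff_commute.2 h2, hw]; group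
  refine ⟨w ^ (j + 1), pow_mem hwV _, pow_mem hK _, conj_eq_iff_commute.1 ?_⟩
  have hsq : w = w ^ (j + 1) * w ^ (j + 1) := by
    rw [← pow_add, show j + 1 + (j + 1) = orderOf w + 1 by omega, pow_add, pow_orderOf_eq_one, one_mul, pow_one]
  calc a * (u * w ^ (j + 1)) * a⁻¹ = a * u * a⁻¹ * (a * w * a⁻¹) ^ (j + 1) := by rw [conj_pow]; group
    _ = u * w * (w ^ (j + 1))⁻¹ := by rw [hinv, inv_pow, hw]; group
    _ = u * w ^ (j + 1) := by
      nth_rewrite 1 [hsq]
      group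

/-- Some element normalising a subgroup of odd prime order does not centralise it. -/
theorem exists_not_commute (h : FPFGroup G) (hperf : commutator G = ⊤) {x : G}
    (hx : (orderOf x).Prime) (hx2 : orderOf x ≠ 2) :
    ∃ g ∈ normalizer (zpowers x : Set G), ¬ Commute g x := by
  by_contra hno
  push Not at hno
  haveI := Fact.mk hx
  obtain ⟨R, hR⟩ := (IsPGroup.of_card (p := orderOf x) (n := 1) (G := zpowers x)
    (by rw [Nat.card_zpowers, pow_one])).exists_le_sylow
  refine not_dvd_of_burnside hperf R (normalizer_le_centralizer_of_fixed h hx2 R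
    (hR (mem_zpowers x)) rfl fun g hg => hno g ?_) (orderOf_dvd_natCard x)
  haveI := isCyclic_of_isPGroup h hx2 R.2
  have hmemR : g * x * g⁻¹ ∈ (R : Subgroup G) := (mem_normalizer_iff.1 hg x).1 (hR (mem_zpowers x))
  exact mem_normalizer_zpowers_iff.2 (by
    rw [← zpowers_eq_of_commute h hx (orderOf_conj' g x) rfl
      (congrArg Subtype.val (mul_comm' (⟨_, hmemR⟩ : (R : Subgroup G)) ⟨x, hR (mem_zpowers x)⟩))]
    exact mem_zpowers _)

namespace QData

variable (D : QData G)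

theorem prime_ne_two_of_mem_U {x : G} (hxU : x ∈ D.U) (hx : (orderOf x).Prime) : orderOf x ≠ 2 :=
  fun e => absurd (D.mem_U.1 hxU).1 (by rw [e]; decide)

theorem mem_M_of_U (h : FPFGroup G) {x g : G} (hxU : x ∈ D.U) (hx : (orderOf x).Prime)
    (hgx : g * x * g⁻¹ ∈ D.U) : g ∈ normalizer (zpowers x : Set G) := by
  rw [mem_normalizer_zpowers_iff, ← zpowers_eq_of_commute h hx (orderOf_conj' g x) rfl
    (commute_prime_of_odd h D.odd_U hgx hxU (by rw [orderOf_conj']; exact hx) hx)]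
  exact mem_zpowers _

theorem U_le_M (h : FPFGroup G) {x : G} (hxU : x ∈ D.U) (hx : (orderOf x).Prime) :
    D.U ≤ normalizer (zpowers x : Set G) := fun _ hu =>
  D.mem_M_of_U h hxU hx (mul_mem (mul_mem hu hxU) (inv_mem hu))

theorem S_le_M (h : FPFGroup G) {x : G} (hxU : x ∈ D.U) (hx : (orderOf x).Prime) :
    (D.S : Subgroup G) ≤ normalizer (zpowers x : Set G) := fun _ hs =>
  D.mem_M_of_U h hxU hx ((mem_normalizer_iff.1 (D.S_le_normalizer_U hs) x).1 hxU)

theorem S_le_of_mem {K : Subgroup G} {d : G} (hd : d ∈ (D.S : Subgroup G)) (hdc : d ∉ zpowers D.c)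
    (hcK : D.c ∈ K) (hdK : d ∈ K) : (D.S : Subgroup G) ≤ K := by
  intro s hs
  by_cases hsc : s ∈ zpowers D.c
  · exact zpowers_le.2 hcK hsc
  · exact (K.mul_mem_cancel_right hdK).1 (zpowers_le.2 hcK (D.mul_mem_c hs hd hsc hdc))

theorem fix_i_mem {K : Subgroup G} (hU : D.U ≤ K) (hS : (D.S : Subgroup G) ≤ K) {g : G}
    (hg : g * D.i * g⁻¹ = D.i ∨ g * D.i * g⁻¹ = D.i⁻¹) : g ∈ K := by
  obtain ⟨u, hu, s, hs, rfl⟩ := D.normalizer_i_decomp hg
  exact mul_mem (hU hu) (hS hs)

theorem c_commute_i : Commute D.c D.i := (Commute.refl D.c).pow_right _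

end QData

end Cfsg.Agent.Lib.ZassSL25
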