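import Mathlib
import Cfsg.Agent.Lib.ZassSL25.Prelim

/-!
Elements of odd prime order centralising a quaternion group.
-/

set_option autoImplicit false

namespace Cfsg.Agent.Lib.ZassSL25

open Subgroup

universe u

variable {G : Type u} [Group G] [Finite G]

/-- No element of prime order less than `p` of `U` commutes with `d` and `c`. -/
def QData.NoSmall (D : QData G) (d : G) (p : ℕ) : Prop :=
  ∀ w ∈ D.U, (orderOf w).Prime → orderOf w < p → Commute d w → Commute D.c w → False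

namespace QData

variable (D : QData G)

theorem c_sq_eq {d : G} (hd : d ∈ (D.S : Subgroup G)) (hdc : d ∉ zpowers D.c) :
    D.c ^ 2 = D.c * d * D.c⁻¹ * d⁻¹ := by
  have := D.zpow_conj_outside hd hdc 1
  rw [zpow_one] at this
  rw [this, mul_inv_cancel_right, mul_one, ← zpow_natCast]
  rfl

theorem c_sq_commute_U (h : FPFGroup G) {v : G} (hv : v ∈ D.U) : Commute (D.c ^ 2) v := by
  obtain ⟨d, hd, hdc⟩ := D.exists_outside
  have hle : D.U ≤ centralizer ({D.c ^ 2} : Set G) := by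
    refine le_centralizer_of_prime_fixed h D.odd_U (D.S_le_normalizer_U (pow_mem D.c_mem 2)) ?_
      fun w hw hwp => ?_
    · exact Nat.Coprime.coprime_dvd_left ((orderOf_pow_dvd 2).trans D.ord_c.dvd)
        ((Nat.coprime_two_left.2 D.odd_U).pow_left D.n)
    · rw [D.c_sq_eq hd hdc]
      exact commute_commutator (D.S_le_M h hw hwp D.c_mem) (D.S_le_M h hw hwp hd)
  exact (mem_centralizer_singleton_iff.1 (hle hv) : v * D.c ^ 2 = _).symm

theorem U_le_centralizer (h : FPFGroup G) {d : G} (hd : d ∈ (D.S : Subgroup G))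
    (hdc : d ∉ zpowers D.c) {x : G} (hxU : x ∈ D.U) (hx : (orderOf x).Prime)
    (hno : D.NoSmall d (orderOf x)) : D.U ≤ centralizer ({x} : Set G) := by
  have hSU := D.S_le_normalizer_U
  have hUM := D.U_le_M h hxU hx
  have hSM := D.S_le_M h hxU hx
  have hconjU : ∀ {s v : G}, s ∈ (D.S : Subgroup G) → v ∈ D.U → s * v * s⁻¹ ∈ D.U :=
    fun hs hv => (mem_normalizer_iff.1 (hSU hs) _).1 hv
  have hK : ∀ {s v : G}, s ∈ (D.S : Subgroup G) → v ∈ D.U →
      v⁻¹ * (s * v * s⁻¹) ∈ centralizer ({x} : Set G) := fun {s v} hs hv => by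
    have hc := commute_commutator (inv_mem (hUM hv)) (hSM hs)
    rw [inv_inv] at hc
    rw [mem_centralizer_singleton_iff, show v⁻¹ * (s * v * s⁻¹) = v⁻¹ * s * v * s⁻¹ by group]
    exact hc.eq
  -- the part fixed by `d` and `c`
  have hW : ∀ v ∈ D.U, Commute d v → Commute D.c v → v ∈ centralizer ({x} : Set G) := by
    intro v hv hdv hcv
    refine mem_of_primePow_powers (g := v) fun q k m hq hvm => ?_
    rw [mem_centralizer_singleton_iff]
    by_contra hne
    rcases k with _ | k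
    · exact hne (by rw [orderOf_eq_one_iff.1 (hvm.trans (pow_zero q))]; simp)
    refine hno _ (pow_mem (pow_mem hv m) (q ^ k)) ?_ ?_ ((hdv.pow_right m).pow_right _)
      ((hcv.pow_right m).pow_right _)
    · rw [orderOf_pow_primePow hq hvm]; exact hq
    · rw [orderOf_pow_primePow hq hvm]
      exact prime_lt_of_act hx hq rfl hvm (mem_normalizer_zpowers_iff.1 (hUM (pow_mem hv m))) hne
  have hV : ∀ v ∈ D.U, Commute d v → v ∈ centralizer ({x} : Set G) := by
    intro v hv hdv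
    have hcd : Commute d (D.c * v * D.c⁻¹) := by
      have h1 : Commute (D.c ^ 2 * d) (D.c * v * D.c⁻¹) := by
        rw [D.c_sq_eq hd hdc, inv_mul_cancel_right]
        exact commute_conj_conj hdv
      have h2 := ((D.c_sq_commute_U h (hconjU D.c_mem hv)).inv_left).mul_left h1
      rwa [inv_mul_cancel_left] at h2
    obtain ⟨t, ht, htK, htc⟩ := exists_fixed_mul (V := D.U ⊓ centralizer ({d} : Set G))
      (K := centralizer ({x} : Set G)) (a := D.c) (u := v)
      (Odd.of_dvd_nat D.odd_U (card_dvd_of_le inf_le_left))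
      ⟨hv, mem_centralizer_singleton_iff.2 hdv.symm.eq⟩
      ⟨hconjU D.c_mem hv, mem_centralizer_singleton_iff.2 hcd.symm.eq⟩
      (D.c_sq_commute_U h hv) (hK D.c_mem hv)
    have := hW (v * t) (mul_mem hv ht.1)
      (hdv.mul_right (show Commute t d from mem_centralizer_singleton_iff.1 ht.2).symm) htc
    exact ((centralizer ({x} : Set G)).mul_mem_cancel_right htK).1 this
  intro v hv
  obtain ⟨t, ht, htK, htd⟩ := exists_fixed_mul (V := D.U) (K := centralizer ({x} : Set G)) (a := d) (u := v)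
    D.odd_U hv (hconjU hd hv) (by rw [(D.outside d hd hdc).1]; exact (D.z_comm v).symm) (hK hd hv)
  exact ((centralizer ({x} : Set G)).mul_mem_cancel_right htK).1 (hV _ (mul_mem hv ht) htd)

/-- For `n ≥ 3` the normalizer of `S` normalises `⟨i⟩`. -/
theorem normalizer_S_fix_i (hn : 3 ≤ D.n) {g : G}
    (hg : g ∈ normalizer ((D.S : Subgroup G) : Set G)) :
    g * D.i * g⁻¹ = D.i ∨ g * D.i * g⁻¹ = D.i⁻¹ := by
  set c' := D.c ^ 2 ^ (D.n - 3)
  have h8 : orderOf c' = 8 := by
    rw [orderOf_pow' _ (by positivity), D.ord_c, Nat.gcd_eq_right (pow_dvd_pow 2 (by omega)),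
      Nat.pow_div (by omega) (by norm_num), show D.n - (D.n - 3) = 3 by omega]
  have hc2 : c' ^ 2 = D.i := by
    rw [← pow_mul, ← pow_succ, show D.n - 3 + 1 = D.n - 2 by omega]
    rfl
  have hS : g * c' * g⁻¹ ∈ (D.S : Subgroup G) := (mem_normalizer_iff.1 hg _).1 (pow_mem D.c_mem _)
  have hc : g * c' * g⁻¹ ∈ zpowers D.c := by
    by_contra hno
    have := D.orderOf_outside hS hno
    rw [orderOf_conj', h8] at this
    norm_num at this
  refine D.eq_i_of_orderOf_four ?_ (by rw [orderOf_conj', D.ord_i])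
  rw [← hc2, ← conj_pow]
  exact pow_mem hc 2

/-- The action of an odd order element on a quaternion Sylow subgroup of order eight. -/
theorem commute_cube_or (hn : D.n = 2) {d : G} (hd : d ∈ (D.S : Subgroup G)) (hdc : d ∉ zpowers D.c)
    {v t : G} (hv : v ∈ normalizer ((D.S : Subgroup G) : Set G)) (ho : Odd (orderOf v))
    (ht : t ∈ (D.S : Subgroup G)) (ht4 : orderOf t = 4) : Commute (v ^ 3) t ∨ Commute v t := by
  have hci : D.c = D.i := by rw [show D.i = D.c ^ 2 ^ (D.n - 2) from rfl, hn]; simp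
  have hcase : ∀ s ∈ (D.S : Subgroup G), orderOf s = 4 →
      ∃ j : Fin 3, s = ![D.i, d, D.i * d] j ∨ s = (![D.i, d, D.i * d] j)⁻¹ := by
    intro s hs hs4
    by_cases hsc : s ∈ zpowers D.c
    · exact ⟨0, D.eq_i_of_orderOf_four hsc hs4⟩
    have hid : D.i * d ∈ (D.S : Subgroup G) := mul_mem (D.zpowers_c_le D.i_mem) hd
    have hidc : D.i * d ∉ zpowers D.c := fun e => hdc ((Subgroup.mul_mem_cancel_left _ D.i_mem).1 e)
    have hmem := D.mul_mem_c hs (inv_mem hd) hsc (outside_inv D hdc)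
    rw [hci] at hmem
    classical
    rw [mem_zpowers_iff_mem_range_orderOf, D.ord_i, Finset.mem_image] at hmem
    obtain ⟨m, hm, he⟩ := hmem
    rw [Finset.mem_range] at hm
    have he' : s = D.i ^ m * d := by rw [he, inv_mul_cancel_right]
    interval_cases m
    · exact ⟨1, Or.inl (by rw [he', pow_zero, one_mul]; rfl)⟩
    · exact ⟨2, Or.inl (by rw [he', pow_one]; rfl)⟩
    · refine ⟨1, Or.inr ?_⟩
      show s = d⁻¹
      rw [he', D.i_sq, D.inv_eq_mul_z (D.orderOf_outside hd hdc), D.z_comm]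
    · refine ⟨2, Or.inr ?_⟩
      show s = (D.i * d)⁻¹
      rw [he', pow_succ, D.i_sq, D.inv_eq_mul_z (D.orderOf_outside hid hidc), D.z_comm, mul_assoc]
  have hmem : ∀ k : ℕ, v ^ k * t * (v ^ k)⁻¹ ∈ (D.S : Subgroup G) :=
    fun k => (mem_normalizer_iff.1 (pow_mem hv k) t).1 ht
  choose f hf using fun k : Fin 4 => hcase _ (hmem k) (by rw [orderOf_conj', ht4])
  have hlt : ∀ a b : Fin 4, a.val < b.val → f a = f b → Commute (v ^ (b.val - a.val)) t := by
    intro a b hab e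
    obtain ⟨k, hk⟩ : ∃ k, b.val = a.val + k := ⟨b.val - a.val, by omega⟩
    rw [show b.val - a.val = k by omega]
    refine commute_of_sq_odd (commute_sq_of_pm ?_) (Odd.of_dvd_nat ho (orderOf_pow_dvd k))
    have hb : v ^ b.val * t * (v ^ b.val)⁻¹ = v ^ a.val * t * (v ^ a.val)⁻¹ ∨
        v ^ b.val * t * (v ^ b.val)⁻¹ = (v ^ a.val * t * (v ^ a.val)⁻¹)⁻¹ := by
      have h1 := hf a
      have h2 := hf b
      rw [← e] at h2
      generalize ![D.i, d, D.i * d] (f a) = w at h1 h2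
      rcases h1 with h1 | h1 <;> rcases h2 with h2 | h2 <;> rw [h1, h2] <;> simp
    rw [hk, pow_add] at hb
    have e1 : v ^ k * t * (v ^ k)⁻¹ = (v ^ a.val)⁻¹ * (v ^ a.val * v ^ k * t * (v ^ a.val * v ^ k)⁻¹) * v ^ a.val := by
      group
    rcases hb with hb | hb <;> rw [hb] at e1
    · exact Or.inl (by rw [e1]; group)
    · exact Or.inr (by rw [e1]; group)
  obtain ⟨a, b, hne, e⟩ := Fintype.exists_ne_map_eq_of_card_lt f (by simp)
  wlog hab : a.val < b.val generalizing a b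
  · exact this b a hne.symm e.symm (by have : a.val ≠ b.val := fun e' => hne (Fin.ext e'); omega)
  have hc := hlt a b hab e
  have : b.val - a.val = 1 ∨ b.val - a.val = 2 ∨ b.val - a.val = 3 := by omega
  rcases this with e' | e' | e' <;> rw [e'] at hc
  · exact Or.inr (pow_one v ▸ hc)
  · exact Or.inr (commute_of_sq_odd hc ho)
  · exact Or.inl hc

/-- No element of prime order of `U` centralises `S`. -/
theorem not_commute_S (h : FPFGroup G) (hperf : commutator G = ⊤) {d : G}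
    (hd : d ∈ (D.S : Subgroup G)) (hdc : d ∉ zpowers D.c) :
    ∀ r : ℕ, ∀ x ∈ D.U, orderOf x = r → r.Prime → Commute d x → Commute D.c x → False := by
  intro r
  induction r using Nat.strong_induction_on with
  | _ r ih =>
    intro x hxU hxr hr hdx hcx
    subst hxr
    have hno : D.NoSmall d (orderOf x) := fun w hw hwp hwlt hdw hcw => ih _ hwlt w hw rfl hwp hdw hcw
    set H := centralizer ({x} : Set G)
    set M := normalizer (zpowers x : Set G)
    have hUH : D.U ≤ H := D.U_le_centralizer h hd hdc hxU hr hno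
    have hSH : (D.S : Subgroup G) ≤ H := D.S_le_of_mem hd hdc
      (mem_centralizer_singleton_iff.2 hcx.eq) (mem_centralizer_singleton_iff.2 hdx.eq)
    obtain ⟨g, hgM, hgne⟩ := exists_not_commute h hperf hr (D.prime_ne_two_of_mem_U hxU hr)
    refine hgne (mem_centralizer_singleton_iff.1 ?_)
    -- Frattini argument
    have hP : ∀ v ∈ (D.S : Subgroup G).map (MulAut.conj g).toMonoidHom, v ∈ H := by
      rintro _ ⟨s, hs, rfl⟩
      exact mem_centralizer_singleton_iff.2
        (commute_conj_of_mem_normalizer hgM (mem_centralizer_singleton_iff.1 (hSH hs))).eq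
    obtain ⟨k, hk, hkS⟩ := exists_conj_in hSH D.S.2 (fun P _ hP => D.card_le_S hP) hP (D.S.2.map _)
    have hm : k * g ∈ normalizer ((D.S : Subgroup G) : Set G) :=
      mem_normalizer_of_forall_conj_mem fun s hs => by
        have := hkS _ (mem_map_of_mem (MulAut.conj g).toMonoidHom hs)
        rw [show k * g * s * (k * g)⁻¹ = k * (g * s * g⁻¹) * k⁻¹ by group]
        exact this
    refine (H.mul_mem_cancel_left hk).1 ?_
    have hmM : k * g ∈ M := mul_mem (centralizer_le_normalizer_zpowers x hk) hgM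
    generalize k * g = m at hm hmM
    by_cases hn : 3 ≤ D.n
    · exact D.fix_i_mem hUH hSH (D.normalizer_S_fix_i hn hm)
    replace hn : D.n = 2 := by have := D.two_le; omega
    have hci : D.c = D.i := by rw [show D.i = D.c ^ 2 ^ (D.n - 2) from rfl, hn]; simp
    refine mem_of_primePow_powers (g := m) fun q j e hq hvo => ?_
    have hvS := pow_mem hm e
    have hvM := pow_mem hmM e
    generalize m ^ e = v at hvo hvS hvM
    rcases eq_or_ne q 2 with rfl | hq2
    · refine hSH ?_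
      haveI : Fact (Nat.Prime 2) := ⟨Nat.prime_two⟩
      have hP : IsPGroup 2 (zpowers v ⊔ D.S : Subgroup G) :=
        (IsPGroup.of_card (n := j) (by rw [Nat.card_zpowers, hvo])).to_sup_of_normal_right' D.S.2
          (zpowers_le.2 hvS)
      exact (D.S.3 hP le_sup_right) ▸ (le_sup_left : zpowers v ≤ _) (mem_zpowers _)
    rw [mem_centralizer_singleton_iff]
    by_contra hne
    rcases j with _ | j
    · exact hne (by rw [orderOf_eq_one_iff.1 (hvo.trans (pow_zero q))]; simp)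
    have ho := odd_orderOf_primePow hq hq2 hvo
    have hi3 : Commute (v ^ 3) D.i := by
      rcases D.commute_cube_or hn hd hdc hvS ho (D.zpowers_c_le D.i_mem) D.ord_i with e | e
      · exact e
      · exact e.pow_left 3
    have hd3 : Commute (v ^ 3) d := by
      rcases D.commute_cube_or hn hd hdc hvS ho hd (D.orderOf_outside hd hdc) with e | e
      · exact e
      · exact e.pow_left 3
    have h3U : v ^ 3 ∈ D.U := D.mem_U.2 ⟨Odd.of_dvd_nat ho (orderOf_pow_dvd 3), hi3⟩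
    have hlt : q < orderOf x := prime_lt_of_act hr hq rfl hvo (mem_normalizer_zpowers_iff.1 hvM) hne
    by_cases hq3 : q = 3
    · subst hq3
      rcases j with _ | j
      · exact hne (commute_of_prime_normalises h hr hq rfl (hvo.trans (pow_one 3)) hvM).eq
      have ew : orderOf ((v ^ 3) ^ 3 ^ j) = 3 := by
        rw [← pow_mul, ← pow_succ', orderOf_pow_primePow hq hvo]
      refine hno _ (pow_mem h3U (3 ^ j)) (by rw [ew]; exact hq) (by rw [ew]; exact hlt)
        (hd3.symm.pow_right _) (hci ▸ hi3.symm.pow_right _)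
    · refine hne (mem_centralizer_singleton_iff.1 ?_)
      refine mem_of_coprime_pows H (a := 3) (b := orderOf v) ?_ (hUH h3U) ?_
      · rw [hvo]; exact ((Nat.coprime_primes Nat.prime_three hq).2 (Ne.symm hq3)).pow_right _
      · rw [pow_orderOf_eq_one]; exact one_mem _

/-- The structure attached to an element of prime order of `U` commuting with a reflection. -/
theorem bad_spec (h : FPFGroup G) (hperf : commutator G = ⊤) {d : G}
    (hd : d ∈ (D.S : Subgroup G)) (hdc : d ∉ zpowers D.c) {x : G} (hxU : x ∈ D.U)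
    (hx : (orderOf x).Prime) (hdx : Commute d x) :
    3 ≤ D.n ∧ D.c * x * D.c⁻¹ = x⁻¹ ∧ D.U ≤ centralizer ({x} : Set G) ∧
      D.c ^ 2 ∈ centralizer ({x} : Set G) ∧
      (∀ g ∈ normalizer (zpowers x : Set G),
        g ∈ centralizer ({x} : Set G) ∨ D.c⁻¹ * g ∈ centralizer ({x} : Set G)) ∧
      ∀ v ∈ centralizer ({x} : Set G), orderOf v = 4 →
        ∃ k ∈ centralizer ({x} : Set G), k * D.i * k⁻¹ = v ∨ k * D.i * k⁻¹ = v⁻¹ := by
  classical
  haveI : Fact (Nat.Prime 2) := ⟨Nat.prime_two⟩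
  set H := centralizer ({x} : Set G)
  set M := normalizer (zpowers x : Set G)
  have hHM : H ≤ M := centralizer_le_normalizer_zpowers x
  have hne : ¬ Commute D.c x := fun hc => D.not_commute_S h hperf hd hdc _ x hxU rfl hx hdx hc
  have hix : Commute D.i x := (D.mem_U.1 hxU).2.symm
  have hiH : D.i ∈ H := mem_centralizer_singleton_iff.2 hix.eq
  have hdH : d ∈ H := mem_centralizer_singleton_iff.2 hdx.eq
  have hn : 3 ≤ D.n := by
    by_contra hlt
    refine hne ?_
    rwa [show D.c = D.i by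
      rw [show D.i = D.c ^ 2 ^ (D.n - 2) from rfl, show D.n = 2 by have := D.two_le; omega]; simp]
  have hcM : D.c ∈ M := D.S_le_M h hxU hx D.c_mem
  have hc2 : D.c ^ 2 ∈ H := mem_centralizer_singleton_iff.2 (D.c_sq_commute_U h hxU).eq
  have hcinv : D.c * x * D.c⁻¹ = x⁻¹ :=
    inverts_of_sq hx hcM (D.c_sq_commute_U h hxU) hne
  have hUH : D.U ≤ H := D.U_le_centralizer h hd hdc hxU hx
    fun w hw hwp _ hdw hcw => D.not_commute_S h hperf hd hdc _ w hw rfl hwp hdw hcw
  have hconjH : ∀ {g v : G}, g ∈ M → v ∈ H → g * v * g⁻¹ ∈ H := fun hg hv =>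
    mem_centralizer_singleton_iff.2
      (commute_conj_of_mem_normalizer hg (mem_centralizer_singleton_iff.1 hv)).eq
  have hcH : ∀ q : ℤ, D.c ^ (2 * q) ∈ H := fun q => by
    rw [zpow_mul, zpow_two, ← pow_two]; exact zpow_mem hc2 q
  have hodd : ∀ q : ℤ, D.c ^ (2 * q + 1) ∉ H := fun q hq => hne (mem_centralizer_singleton_iff.1 (by
    rw [zpow_add, zpow_one] at hq
    exact (H.mul_mem_cancel_left (hcH q)).1 hq))
  -- the elements inverting or centralising `x`
  let J : Subgroup G :=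
    { carrier := {g | g * x * g⁻¹ = x ∨ g * x * g⁻¹ = x⁻¹}
      one_mem' := Or.inl (by group)
      mul_mem' := fun {a b} ha hb => by
        show a * b * x * (a * b)⁻¹ = x ∨ a * b * x * (a * b)⁻¹ = x⁻¹
        rw [show a * b * x * (a * b)⁻¹ = a * (b * x * b⁻¹) * a⁻¹ by group]
        rcases hb with e | e <;> rw [e]
        · exact ha
        · rw [show a * x⁻¹ * a⁻¹ = (a * x * a⁻¹)⁻¹ by group]
          rcases ha with e | e <;> rw [e]
          · exact Or.inr rfl
          · exact Or.inl (inv_inv x)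
      inv_mem' := fun {a} ha => by
        show a⁻¹ * x * a⁻¹⁻¹ = x ∨ a⁻¹ * x * a⁻¹⁻¹ = x⁻¹
        rcases ha with e | e
        · refine Or.inl ?_
          conv_lhs => rw [← e]
          group
        · refine Or.inr ?_
          have e' : a * x⁻¹ * a⁻¹ = x := by
            rw [show a * x⁻¹ * a⁻¹ = (a * x * a⁻¹)⁻¹ by group, e, inv_inv]
          conv_lhs => rw [← e']
          group }
  have hHJ : H ≤ J := fun g hg => Or.inl (conj_eq_iff_commute.2 (mem_centralizer_singleton_iff.1 hg))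
  have hJconj : ∀ {g j : G}, g ∈ M → j ∈ J → j ∈ M → g * j * g⁻¹ ∈ J := fun {g j} hg hj hjM => by
    rw [show g * j * g⁻¹ = g * j * g⁻¹ * j⁻¹ * j by group]
    exact mul_mem (hHJ (mem_centralizer_singleton_iff.2 (commute_commutator hg hjM).eq)) hj
  have hcJ : D.c ∈ J := Or.inr hcinv
  have hSJ : (D.S : Subgroup G) ≤ J := D.S_le_of_mem hd hdc hcJ (hHJ hdH)
  have hSM : (D.S : Subgroup G) ≤ M := D.S_le_M h hxU hx
  have hUJ : D.U ≤ J := hUH.trans hHJ
  obtain ⟨y, hy1, hy2⟩ := D.exists_rotation hperf hd hdc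
  have hyM : y ∈ M := by
    refine D.mem_M_of_U h hxU hx (D.mem_U.2 ⟨by rw [orderOf_conj']; exact (D.mem_U.1 hxU).1, ?_⟩)
    have h1 : Commute d (y * x * y⁻¹) := hy1 ▸ commute_conj_conj hix
    have h2 : Commute (y * d * y⁻¹) (y * x * y⁻¹) := commute_conj_conj hdx
    have hle : closure {d, y * d * y⁻¹} ≤ centralizer ({y * x * y⁻¹} : Set G) := by
      rw [closure_le]
      rintro _ (rfl | rfl)
      · exact mem_centralizer_singleton_iff.2 h1.eq
      · exact mem_centralizer_singleton_iff.2 h2.eq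
    exact (show Commute D.i (y * x * y⁻¹) from mem_centralizer_singleton_iff.1 (hle hy2)).symm
  have hk0 : D.c * y * D.c⁻¹ * y⁻¹ ∈ H := mem_centralizer_singleton_iff.2 (commute_commutator hcM hyM).eq
  have hcd : D.c * d * D.c⁻¹ = D.c * y * D.c⁻¹ * y⁻¹ * d * (D.c * y * D.c⁻¹ * y⁻¹)⁻¹ := by
    have hci' := conj_eq_iff_commute.2 D.c_commute_i
    have hdy : d = y * D.i * y⁻¹ := hy1.symm
    rw [hdy]
    calc D.c * (y * D.i * y⁻¹) * D.c⁻¹ = D.c * y * D.c⁻¹ * (D.c * D.i * D.c⁻¹) * (D.c * y * D.c⁻¹)⁻¹ := by group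
      _ = D.c * y * D.c⁻¹ * D.i * (D.c * y * D.c⁻¹)⁻¹ := by rw [hci']
      _ = _ := by group
  -- the classes of elements of order four of `H`
  set T := (D.S : Subgroup G) ⊓ H
  have hclass : ∀ v ∈ H, orderOf v = 4 → ∃ k ∈ H, k * v * k⁻¹ = D.i ∨ k * v * k⁻¹ = d := by
    intro v hv hv4
    have hmax : ∀ P : Subgroup G, P ≤ H → IsPGroup 2 P → Nat.card P ≤ Nat.card T := by
      intro P hPH hP
      obtain ⟨g, hg, hgS⟩ := exists_conj_in hSM D.S.2 (fun P' _ hP' => D.card_le_S hP') (hPH.trans hHM) hP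
      exact Nat.card_le_card_of_injective
        (fun w : P => (⟨g * w * g⁻¹, hgS w w.2, hconjH hg (hPH w.2)⟩ : T))
        fun a b e => Subtype.ext ((MulAut.conj g).injective (congrArg Subtype.val e))
    obtain ⟨k, hk, hkT⟩ := exists_conj_in (inf_le_right : T ≤ H) (D.S.2.to_le inf_le_left) hmax
      (zpowers_le.2 hv) (IsPGroup.of_card (n := 2) (by rw [Nat.card_zpowers, hv4]; norm_num))
    obtain ⟨htS, htH⟩ := hkT v (mem_zpowers v)
    have ht4 : orderOf (k * v * k⁻¹) = 4 := by rw [orderOf_conj', hv4]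
    by_cases htc : k * v * k⁻¹ ∈ zpowers D.c
    · rcases D.eq_i_of_orderOf_four htc ht4 with e | e
      · exact ⟨k, hk, Or.inl e⟩
      · refine ⟨d * k, mul_mem hdH hk, Or.inl ?_⟩
        rw [show d * k * v * (d * k)⁻¹ = d * (k * v * k⁻¹) * d⁻¹ by group, e,
          D.outside_conj_zpowers hd hdc (inv_mem D.i_mem), inv_inv]
    obtain ⟨j, hj⟩ := mem_zpowers_iff.1 (D.mul_mem_c htS (inv_mem hd) htc (outside_inv D hdc))
    have hjH : D.c ^ j ∈ H := hj ▸ mul_mem htH (inv_mem hdH)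
    rcases Int.even_or_odd j with ⟨l, hl⟩ | ⟨l, hl⟩
    swap
    · exact absurd (hl ▸ hjH) (hodd l)
    have ht : k * v * k⁻¹ = D.c ^ l * d * (D.c ^ l)⁻¹ := by
      rw [D.zpow_conj_outside hd hdc, two_mul, ← hl, hj, inv_mul_cancel_right]
    rcases Int.even_or_odd l with ⟨q, hq⟩ | ⟨q, hq⟩
    · refine ⟨(D.c ^ l)⁻¹ * k, mul_mem (inv_mem (by rw [hq, ← two_mul]; exact hcH q)) hk, Or.inr ?_⟩
      rw [show (D.c ^ l)⁻¹ * k * v * ((D.c ^ l)⁻¹ * k)⁻¹ = (D.c ^ l)⁻¹ * (k * v * k⁻¹) * D.c ^ l by group, ht]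
      group
    · refine ⟨(D.c * y * D.c⁻¹ * y⁻¹)⁻¹ * (D.c ^ (2 * q))⁻¹ * k,
        mul_mem (mul_mem (inv_mem hk0) (inv_mem (hcH q))) hk, Or.inr ?_⟩
      set k0 := D.c * y * D.c⁻¹ * y⁻¹
      rw [show k0⁻¹ * (D.c ^ (2 * q))⁻¹ * k * v * (k0⁻¹ * (D.c ^ (2 * q))⁻¹ * k)⁻¹ =
        k0⁻¹ * (D.c ^ (2 * q))⁻¹ * (k * v * k⁻¹) * D.c ^ (2 * q) * k0 by group, ht, hq, zpow_add, zpow_one,
        show k0⁻¹ * (D.c ^ (2 * q))⁻¹ * (D.c ^ (2 * q) * D.c * d * (D.c ^ (2 * q) * D.c)⁻¹) * D.c ^ (2 * q) * k0 =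
          k0⁻¹ * (D.c * d * D.c⁻¹) * k0 by group, hcd]
      group
  -- elements of odd order of `M` centralise `x`
  have hA : ∀ g : G, g * D.i * g⁻¹ = D.i → g ∈ J := fun g hg => D.fix_i_mem hUJ hSJ (Or.inl hg)
  have hoddM : ∀ m ∈ M, Odd (orderOf m) → m ∈ H := by
    intro m hm ho
    suffices hJ : m ∈ J by
      exact mem_centralizer_singleton_iff.2 (commute_of_sq_odd (commute_sq_of_pm hJ) ho).eq
    have h1 : ∀ g ∈ M, g ∈ J ∨ ∃ k ∈ H, ∃ j ∈ J, g = k * y * j := by
      intro g hg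
      obtain ⟨k, hk, e | e⟩ := hclass _ (hconjH hg hiH) (by rw [orderOf_conj', D.ord_i])
      · exact Or.inl ((J.mul_mem_cancel_left (hHJ hk)).1 (hA (k * g)
          ((show k * g * D.i * (k * g)⁻¹ = k * (g * D.i * g⁻¹) * k⁻¹ by group).trans e)))
      · refine Or.inr ⟨k⁻¹, inv_mem hk, y⁻¹ * (k * g), hA _ ?_, by group⟩
        rw [← hy1] at e
        calc y⁻¹ * (k * g) * D.i * (y⁻¹ * (k * g))⁻¹ = y⁻¹ * (k * (g * D.i * g⁻¹) * k⁻¹) * y := by group
          _ = D.i := by rw [e]; group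
    rcases h1 m hm with hJ | ⟨k1, hk1, j1, hj1, e1⟩
    · exact hJ
    rcases h1 (m ^ 2) (pow_mem hm 2) with hJ | ⟨k2, hk2, j2, hj2, e2⟩
    · obtain ⟨a, ha⟩ := ho
      rw [← mul_one m, ← pow_orderOf_eq_one m, ha, ← pow_succ', show 2 * a + 1 + 1 = 2 * (a + 1) by ring, pow_mul]
      exact pow_mem hJ _
    · have hm' : m = j1⁻¹ * (y⁻¹ * (k1⁻¹ * k2) * y⁻¹⁻¹) * j2 := by
        calc m = m⁻¹ * m ^ 2 := by rw [pow_two, inv_mul_cancel_left]
          _ = (k1 * y * j1)⁻¹ * (k2 * y * j2) := by rw [← e1, ← e2]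
          _ = _ := by group
      rw [hm']
      exact mul_mem (mul_mem (inv_mem hj1) (hHJ (hconjH (inv_mem hyM) (mul_mem (inv_mem hk1) hk2)))) hj2
  have hMJ : ∀ g ∈ M, g ∈ J := by
    intro g hg
    refine mem_of_primePow_powers (g := g) fun q j e hq hvo => ?_
    have hv := pow_mem hg e
    generalize g ^ e = v at hvo hv
    rcases eq_or_ne q 2 with rfl | hq2
    · obtain ⟨k, hk, hkS⟩ := exists_conj_in hSM D.S.2 (fun P' _ hP' => D.card_le_S hP')
        (zpowers_le.2 hv) (IsPGroup.of_card (n := j) (by rw [Nat.card_zpowers, hvo]))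
      have := hJconj (inv_mem hk) (hSJ (hkS v (mem_zpowers v))) (hSM (hkS v (mem_zpowers v)))
      rwa [show k⁻¹ * (k * v * k⁻¹) * k⁻¹⁻¹ = v by group] at this
    · exact hHJ (hoddM v hv (odd_orderOf_primePow hq hq2 hvo))
  have hMH : ∀ g ∈ M, g ∈ H ∨ D.c⁻¹ * g ∈ H := by
    intro g hg
    rcases hMJ g hg with e | e
    · exact Or.inl (mem_centralizer_singleton_iff.2 (conj_eq_iff_commute.1 e).eq)
    · refine Or.inr (mem_centralizer_singleton_iff.2 (conj_eq_iff_commute.1 ?_).eq)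
      rw [show D.c⁻¹ * g * x * (D.c⁻¹ * g)⁻¹ = D.c⁻¹ * (g * x * g⁻¹) * D.c by group, e, ← hcinv]
      group
  refine ⟨hn, hcinv, hUH, hc2, hMH, ?_⟩
  obtain ⟨y', hy', hdy⟩ : ∃ y' ∈ H, y' * D.i * y'⁻¹ = d := by
    rcases hMH y hyM with hyH | hyH
    · exact ⟨y, hyH, hy1⟩
    · refine ⟨D.c * (D.c⁻¹ * y) * D.c⁻¹, hconjH hcM hyH, ?_⟩
      calc D.c * (D.c⁻¹ * y) * D.c⁻¹ * D.i * (D.c * (D.c⁻¹ * y) * D.c⁻¹)⁻¹
          = y * (D.c⁻¹ * (D.i * D.c)) * y⁻¹ := by group
        _ = d := by rw [← D.c_commute_i.eq, inv_mul_cancel_left, hy1]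
  intro v hv hv4
  obtain ⟨k, hk, e | e⟩ := hclass v hv hv4
  · exact ⟨k⁻¹, inv_mem hk, Or.inl (by rw [← e]; group)⟩
  · refine ⟨k⁻¹ * y', mul_mem (inv_mem hk) hy', Or.inl ?_⟩
    rw [show k⁻¹ * y' * D.i * (k⁻¹ * y')⁻¹ = k⁻¹ * (y' * D.i * y'⁻¹) * k by group, hdy, ← e]
    group

end QData

end Cfsg.Agent.Lib.ZassSL25
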