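import Mathlib
import Cfsg.Agent.Lib.ZassSL25.Prelim

/-!
Counting elements by conjugates.
-/

set_option autoImplicit false

namespace Cfsg.Agent.Lib.ZassSL25

open Subgroup

universe u

variable {G : Type u} [Group G] [Finite G]

omit [Finite G] in
/-- The size of the union of the `K`-conjugates of a set that meets each other conjugate trivially. -/
theorem card_conjHull {K N : Subgroup G} (hNK : N ≤ K) (X : Set G)
    (hN : ∀ n ∈ N, ∀ v ∈ X, n * v * n⁻¹ ∈ X)
    (hTI : ∀ v ∈ X, ∀ k ∈ K, k * v * k⁻¹ ∈ X → k ∈ N) :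
    Nat.card {y : G | ∃ k ∈ K, k * y * k⁻¹ ∈ X} * Nat.card N = Nat.card K * Nat.card X := by
  classical
  set Y := {y : G | ∃ k ∈ K, k * y * k⁻¹ ∈ X}
  choose ky hkK hkX using fun y : Y => y.2
  let e : Y × N → K × X := fun p =>
    (⟨(ky p.1)⁻¹ * p.2, mul_mem (inv_mem (hkK p.1)) (hNK p.2.2)⟩,
      ⟨(p.2 : G)⁻¹ * (ky p.1 * p.1 * (ky p.1)⁻¹) * p.2, by
        simpa using hN _ (inv_mem p.2.2) _ (hkX p.1)⟩)
  have he : Function.Bijective e := by
    refine ⟨?_, fun ⟨k, v⟩ => ?_⟩
    · rintro ⟨y, n⟩ ⟨y', n'⟩ h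
      simp only [e, Prod.mk.injEq, Subtype.mk.injEq] at h
      obtain ⟨h1, h2⟩ := h
      have key : ∀ (y : Y) (n : N), (y : G) = ((ky y)⁻¹ * n) * ((n : G)⁻¹ * (ky y * y * (ky y)⁻¹) * n) * ((ky y)⁻¹ * (n : G))⁻¹ := by
        intro y n; group
      have hy : y = y' := Subtype.ext (by rw [key y n, key y' n', h1, h2])
      subst hy
      exact Prod.ext rfl (Subtype.ext (mul_left_cancel h1))
    · have hy : (k : G) * v * (k : G)⁻¹ ∈ Y := ⟨(k : G)⁻¹, inv_mem k.2, by
        rw [show (k : G)⁻¹ * (k * v * (k : G)⁻¹) * (k : G)⁻¹⁻¹ = v by group]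
        exact v.2⟩
      set y : Y := ⟨_, hy⟩
      have hn : ky y * k ∈ N := hTI v v.2 _ (mul_mem (hkK y) k.2) (by
        rw [show ky y * k * v * (ky y * k)⁻¹ = ky y * (k * v * (k : G)⁻¹) * (ky y)⁻¹ by group]
        exact hkX y)
      refine ⟨(y, ⟨_, hn⟩), Prod.ext (Subtype.ext (inv_mul_cancel_left _ _)) (Subtype.ext ?_)⟩
      show (ky y * k)⁻¹ * (ky y * (k * v * (k : G)⁻¹) * (ky y)⁻¹) * (ky y * k) = v
      group
  rw [← Nat.card_prod, ← Nat.card_prod]
  exact Nat.card_congr (Equiv.ofBijective e he)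

/-- The elements of odd order of `K`. -/
def oddSet (K : Subgroup G) : Set G := {v | v ∈ K ∧ Odd (orderOf v)}

/-- The elements of `K` of order divisible by four. -/
def fourSet (K : Subgroup G) : Set G := {v | v ∈ K ∧ 4 ∣ orderOf v}

namespace QData

variable (D : QData G)

include D in
theorem eq_of_commute_four {a b : G} (ha : orderOf a = 4) (hb : orderOf b = 4) (hc : Commute a b) :
    a = b ∨ a = b⁻¹ := by
  have h2 : (a * b) ^ 2 = 1 := by
    rw [hc.mul_pow, D.sq_eq_z_of_orderOf_four ha, D.sq_eq_z_of_orderOf_four hb, ← pow_two, D.z_sq]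
  rcases D.sq_eq_one_mem h2 with e | e
  · exact Or.inr (mul_eq_one_iff_eq_inv.1 e)
  · refine Or.inl ?_
    calc a = a * b * b⁻¹ := (mul_inv_cancel_right a b).symm
      _ = D.z * (b * D.z) := by rw [e, D.inv_eq_mul_z hb]
      _ = b := by rw [D.z_comm b, ← mul_assoc, ← pow_two, D.z_sq, one_mul]

/-- Every element has order divisible by four, or is odd, or is odd times `z`. -/
theorem card_split {K : Subgroup G} (hz : D.z ∈ K) :
    Nat.card K = Nat.card (fourSet K) + 2 * Nat.card (oddSet K) := by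
  classical
  have hoddz : ∀ v : G, Odd (orderOf v) → ¬ Odd (orderOf (v * D.z)) ∧ ¬ 4 ∣ orderOf (v * D.z) := by
    intro v hv
    have hc : Commute v D.z := D.z_comm v
    refine ⟨fun ho => ?_, fun h4 => ?_⟩
    · have h1 : (v * D.z) ^ (orderOf (v * D.z) * orderOf v) = 1 := by
        rw [pow_mul, pow_orderOf_eq_one, one_pow]
      rw [hc.mul_pow, mul_comm, pow_mul, pow_orderOf_eq_one, one_pow, one_mul,
        ← orderOf_dvd_iff_pow_eq_one, D.ord_z] at h1
      exact Nat.not_odd_iff_even.2 (even_iff_two_dvd.2 h1) (hv.mul ho)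
    · have hd : orderOf (v * D.z) ∣ orderOf v * 2 := by
        refine orderOf_dvd_of_pow_eq_one ?_
        rw [hc.mul_pow, pow_mul, pow_orderOf_eq_one, one_pow, one_mul, mul_comm, pow_mul, D.z_sq, one_pow]
      obtain ⟨a, ha⟩ := hv
      have := h4.trans hd
      omega
  have hodd : ∀ v : G, ¬ 4 ∣ orderOf v → ¬ Odd (orderOf v) → Odd (orderOf (v * D.z)) := by
    intro v h4 ho
    obtain ⟨m, hm⟩ := even_iff_two_dvd.1 (Nat.not_odd_iff_even.1 ho)
    have hm2 : Odd m := by
      rw [← Nat.not_even_iff_odd]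
      rintro ⟨a, ha⟩
      exact h4 ⟨a, by omega⟩
    refine Odd.of_dvd_nat hm2 (orderOf_dvd_of_pow_eq_one ?_)
    have hvm : v ^ m = D.z := D.uniq _ (by
      rw [orderOf_pow' _ (by rintro rfl; exact absurd hm2 (by decide)), hm, Nat.gcd_mul_left_left,
        Nat.mul_div_cancel _ (Nat.pos_of_ne_zero (by rintro rfl; exact absurd hm2 (by decide)))])
    obtain ⟨a, rfl⟩ := hm2
    rw [(show Commute v D.z from D.z_comm v).mul_pow, hvm, pow_succ, pow_mul, D.z_sq, one_pow, one_mul,
      ← pow_two, D.z_sq]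
  let e : fourSet K ⊕ (Bool × oddSet K) → K := Sum.elim (fun v => ⟨v, v.2.1⟩)
    (fun p => if p.1 then ⟨p.2 * D.z, mul_mem p.2.2.1 hz⟩ else ⟨p.2, p.2.2.1⟩)
  have he : Function.Bijective e := by
    refine ⟨?_, fun ⟨v, hv⟩ => ?_⟩
    · rintro (⟨a, ha⟩ | ⟨x, ⟨a, ha⟩⟩) (⟨b, hb⟩ | ⟨y, ⟨b, hb⟩⟩) heq <;>
        have heq' := congrArg Subtype.val heq
      · simp [e] at heq'
        simp [heq']
      · cases y <;> simp [e] at heq' <;> subst heq'
        · exact absurd (hb.2.of_dvd_nat ha.2) (by decide)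
        · exact absurd ha.2 (hoddz b hb.2).2
      · cases x <;> simp [e] at heq' <;> subst heq'
        · exact absurd (ha.2.of_dvd_nat hb.2) (by decide)
        · exact absurd hb.2 (hoddz a ha.2).2
      · cases x <;> cases y <;> simp [e] at heq'
        · simp [heq']
        · exact absurd (heq' ▸ ha.2) (hoddz b hb.2).1
        · exact absurd (heq' ▸ hb.2) (hoddz a ha.2).1
        · simp [heq']
    · by_cases h4 : 4 ∣ orderOf v
      · exact ⟨Sum.inl ⟨v, hv, h4⟩, rfl⟩
      by_cases ho : Odd (orderOf v)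
      · exact ⟨Sum.inr (false, ⟨v, hv, ho⟩), rfl⟩
      refine ⟨Sum.inr (true, ⟨v * D.z, mul_mem hv hz, hodd v h4 ho⟩), Subtype.ext ?_⟩
      show v * D.z * D.z = v
      rw [mul_assoc, ← pow_two, D.z_sq, mul_one]
  rw [← Nat.card_congr (Equiv.ofBijective e he), Nat.card_sum, Nat.card_prod]
  simp

include D in
/-- Counting the elements of order divisible by four when those of order four are fused. -/
theorem four_count {K : Subgroup G} {j : G} (hj : j ∈ K) (hj4 : orderOf j = 4)
    (hfus : ∀ v ∈ K, orderOf v = 4 → ∃ k ∈ K, k * j * k⁻¹ = v ∨ k * j * k⁻¹ = v⁻¹)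
    (hflip : ∃ k ∈ K, k * j * k⁻¹ = j⁻¹) :
    Nat.card K * Nat.card (K ⊓ centralizer ({j} : Set G) : Subgroup G) +
        2 * Nat.card K * Nat.card (oddSet (K ⊓ centralizer ({j} : Set G))) =
      4 * Nat.card (oddSet K) * Nat.card (K ⊓ centralizer ({j} : Set G) : Subgroup G) := by
  classical
  set C := K ⊓ centralizer ({j} : Set G)
  set N := K ⊓ normalizer (zpowers j : Set G)
  have hjz : D.z ∈ C := by
    rw [← D.sq_eq_z_of_orderOf_four hj4]
    exact pow_mem (show j ∈ C from ⟨hj, mem_centralizer_singleton_iff.2 rfl⟩) 2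
  have hpow : ∀ v : G, 4 ∣ orderOf v → orderOf (v ^ (orderOf v / 4)) = 4 := fun v h4 =>
    orderOf_pow_orderOf_div (orderOf_pos v).ne' h4
  have hCN : ∀ v ∈ K, (v * j * v⁻¹ = j ∨ v * j * v⁻¹ = j⁻¹) ↔ v ∈ N := fun v hv => by
    refine ⟨fun e => ⟨hv, mem_normalizer_zpowers_iff.2 ?_⟩, fun hn => ?_⟩
    · rcases e with e | e <;> rw [e]
      · exact mem_zpowers j
      · exact inv_mem (mem_zpowers j)
    · obtain ⟨a, ha⟩ := mem_zpowers_iff.1 (mem_normalizer_zpowers_iff.1 hn.2)
      rw [← ha]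
      rcases D.eq_of_commute_four (a := j ^ a) (by rw [ha, orderOf_conj', hj4]) hj4
        ((Commute.refl j).zpow_left a) with e | e
      · exact Or.inl e
      · exact Or.inr e
  have hX := card_conjHull (K := K) (N := N) inf_le_left (fourSet C) ?_ ?_
  · have hY : {y : G | ∃ k ∈ K, k * y * k⁻¹ ∈ fourSet C} = fourSet K := by
      ext y
      constructor
      · rintro ⟨k, hk, hy, h4⟩
        refine ⟨?_, by rwa [orderOf_conj'] at h4⟩
        have := mul_mem (mul_mem (inv_mem hk) hy.1) hk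
        rwa [show k⁻¹ * (k * y * k⁻¹) * k = y by group] at this
      · rintro ⟨hyK, h4⟩
        obtain ⟨k, hk, e⟩ := hfus _ (pow_mem hyK (orderOf y / 4)) (hpow y h4)
        refine ⟨k⁻¹, K.inv_mem hk, ⟨K.mul_mem (K.mul_mem (K.inv_mem hk) hyK) (K.inv_mem (K.inv_mem hk)),
          mem_centralizer_singleton_iff.2 ?_⟩, by rwa [orderOf_conj']⟩
        have hc : Commute y (k * j * k⁻¹) := by
          rcases e with e | e <;> rw [e]
          · exact Commute.self_pow y _
          · exact (Commute.self_pow y _).inv_right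
        have := commute_conj_conj (g := k⁻¹) hc
        rw [show k⁻¹ * (k * j * k⁻¹) * k⁻¹⁻¹ = j by group] at this
        exact this.eq
    rw [hY] at hX
    obtain ⟨k, hk, hkj⟩ := hflip
    have hN2 : Nat.card N = 2 * Nat.card C := by
      refine card_eq_two_mul (c := k) (fun v hv => (hCN v hv.1).1
        (Or.inl (conj_eq_iff_commute.2 (mem_centralizer_singleton_iff.1 hv.2)))) ((hCN k hk).1 (Or.inr hkj))
        (fun e => ne_inv_of_four hj4 ?_) fun v hv => ?_
      · rw [← hkj, conj_eq_iff_commute.2 (mem_centralizer_singleton_iff.1 e.2)]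
      rcases (hCN v hv.1).2 hv with e | e
      · exact Or.inl ⟨hv.1, mem_centralizer_singleton_iff.2 (conj_eq_iff_commute.1 e).eq⟩
      · refine Or.inr ⟨K.mul_mem (K.inv_mem hk) hv.1, mem_centralizer_singleton_iff.2 (conj_eq_iff_commute.1 ?_).eq⟩
        rw [show k⁻¹ * v * j * (k⁻¹ * v)⁻¹ = k⁻¹ * (v * j * v⁻¹) * k by group, e, ← hkj]
        group
    have h1 := D.card_split (K := K) hjz.1
    have h2 := D.card_split (K := C) hjz
    rw [hN2] at hX
    nlinarith [hX, h1, h2]
  · intro k hk v hv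
    refine ⟨⟨K.mul_mem (K.mul_mem hk.1 hv.1.1) (K.inv_mem hk.1), ?_⟩, by rw [orderOf_conj']; exact hv.2⟩
    exact mem_centralizer_singleton_iff.2
      (commute_conj_of_mem_normalizer hk.2 (mem_centralizer_singleton_iff.1 hv.1.2)).eq
  · intro v hv k hk hkv
    refine (hCN k hk).1 ?_
    have hwc : Commute (v ^ (orderOf v / 4)) j :=
      (show Commute v j from mem_centralizer_singleton_iff.1 hv.1.2).pow_left _
    have hwc' : Commute (k * v ^ (orderOf v / 4) * k⁻¹) j := by
      rw [← conj_pow]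
      exact (show Commute (k * v * k⁻¹) j from mem_centralizer_singleton_iff.1 hkv.1.2).pow_left _
    have ho := hpow v hv.2
    rcases D.eq_of_commute_four ho hj4 hwc with e | e <;>
      rcases D.eq_of_commute_four ((orderOf_conj' k _).trans ho) hj4 hwc' with e' | e' <;> rw [e] at e'
    · exact Or.inl e'
    · exact Or.inr e'
    · exact Or.inr (by rw [← inv_inj, inv_inv]; simpa [mul_assoc] using e')
    · exact Or.inl (inv_injective (by simpa [mul_assoc] using e'))

end QData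

end Cfsg.Agent.Lib.ZassSL25
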