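import Mathlib
import Cfsg.Agent.Lib.SmallSimple.Basic
import Cfsg.Agent.Lib.Classical.Order

/-!
The double cover of the alternating group of degree five.
-/

set_option autoImplicit false

namespace Cfsg.Agent.Lib.ZassSL25

open Subgroup
open scoped commutatorElement

universe u v

/-- A double cover of `A₅` with a unique involution. -/
structure IcoCover (G : Type u) [Group G] where
  /-- The involution. -/
  z : G
  ord_z : orderOf z = 2
  uniq : ∀ t : G, t ^ 2 = 1 → t = 1 ∨ t = z
  /-- The projection. -/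
  π : G →* alternatingGroup (Fin 5)
  surj : Function.Surjective π
  ker_eq : ∀ g : G, π g = 1 ↔ g = 1 ∨ g = z

theorem card_alt_five : Nat.card (alternatingGroup (Fin 5)) = 60 := by
  rw [nat_card_alternatingGroup, Nat.card_fin]; rfl

theorem alt_five_sq : ∀ x : alternatingGroup (Fin 5), x ^ 4 = 1 → x ^ 2 = 1 := by
  decide +kernel

namespace IcoCover

variable {G : Type u} [Group G] (C : IcoCover G)

theorem z_comm (g : G) : Commute g C.z := by
  rcases C.uniq (g * C.z * g⁻¹) (by rw [conj_pow, ← C.ord_z, pow_orderOf_eq_one]; group) with e | e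
  · have : C.z = 1 := by rwa [conj_eq_one_iff] at e
    exact absurd (C.ord_z ▸ orderOf_eq_one_iff.2 this) (by norm_num)
  · exact mul_inv_eq_iff_eq_mul.1 e

theorem z_sq : C.z * C.z = 1 := by rw [← pow_two, ← C.ord_z, pow_orderOf_eq_one]

include C in
theorem card_eq [Finite G] : Nat.card G = 120 := by
  classical
  have hk : Nat.card C.π.ker = 2 := by
    have he : C.π.ker = zpowers C.z := by
      refine le_antisymm (fun g hg => ?_) (zpowers_le.2 ((C.ker_eq _).2 (Or.inr rfl)))
      rcases (C.ker_eq g).1 hg with rfl | rfl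
      · exact one_mem _
      · exact mem_zpowers _
    rw [he, Nat.card_zpowers, C.ord_z]
  rw [← C.π.ker.card_mul_index, hk, Subgroup.index_ker, MonoidHom.range_eq_top.2 C.surj, card_top, card_alt_five]

include C in
theorem perfect [Finite G] : commutator G = ⊤ := by
  have hA : commutator (alternatingGroup (Fin 5)) = ⊤ := by
    haveI := alternatingGroup.isSimpleGroup_five
    rcases Subgroup.Normal.eq_bot_or_eq_top (H := commutator (alternatingGroup (Fin 5))) inferInstance with e | e
    · exfalso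
      rw [_root_.commutator_eq_bot_iff_center_eq_top] at e
      have h : ∀ a b : alternatingGroup (Fin 5), a * b = b * a := fun a b =>
        mem_center_iff.1 (e ▸ mem_top b) a
      revert h
      decide +kernel
    · exact e
  have hmap : (commutator G).map C.π = ⊤ := by
    rw [_root_.commutator_def, map_commutator, ← MonoidHom.range_eq_map, MonoidHom.range_eq_top.2 C.surj,
      ← _root_.commutator_def, hA]
  by_cases hz : C.z ∈ commutator G
  · refine eq_top_iff.2 fun g _ => ?_
    obtain ⟨w, hw, e⟩ := (hmap ▸ mem_top (C.π g) : C.π g ∈ (commutator G).map C.π)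
    rcases (C.ker_eq (w⁻¹ * g)).1 (by rw [map_mul, map_inv, e, inv_mul_cancel]) with h | h
    · rwa [show g = w from (inv_mul_eq_one.1 h).symm]
    · rw [show g = w * C.z by rw [← h, mul_inv_cancel_left]]
      exact mul_mem hw hz
  · exfalso
    have h2 : 2 ∣ Nat.card (commutator G) := by
      have : Nat.card ((commutator G).map C.π) ∣ Nat.card (commutator G) := card_map_dvd _ _
      rw [hmap, card_top, card_alt_five] at this
      exact (by norm_num : 2 ∣ 60).trans this
    haveI : Fact (Nat.Prime 2) := ⟨Nat.prime_two⟩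
    obtain ⟨t, ht⟩ := exists_prime_orderOf_dvd_card' (G := commutator G) 2 h2
    rw [← Subgroup.orderOf_coe] at ht
    rcases C.uniq (t : G) (by rw [← ht, pow_orderOf_eq_one]) with e | e
    · rw [e, orderOf_one] at ht; norm_num at ht
    · exact hz (e ▸ t.2)

/-- Two 2-elements commute exactly when their images are dependent. -/
theorem commute_iff [Finite G] {a b : G} (ha : ∃ k, orderOf a = 2 ^ k) (hb : ∃ k, orderOf b = 2 ^ k) :
    Commute a b ↔ C.π a = 1 ∨ C.π b = 1 ∨ C.π a = C.π b := by
  have hsq : ∀ {v : G}, (∃ k, orderOf v = 2 ^ k) → C.π v ≠ 1 → v ^ 2 = C.z := by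
    rintro v ⟨k, hk⟩ hv
    have h4 : C.π v ^ 4 = 1 := by
      refine orderOf_dvd_iff_pow_eq_one.1 ?_
      have h1 : orderOf (C.π v) ∣ 2 ^ k := hk ▸ orderOf_map_dvd C.π v
      obtain ⟨j, -, hj⟩ := (Nat.dvd_prime_pow Nat.prime_two).1 h1
      have h2 : orderOf (C.π v) ∣ 60 := card_alt_five ▸ orderOf_dvd_natCard _
      rw [hj] at h2 ⊢
      have : j ≤ 2 := by
        by_contra hlt
        exact absurd ((pow_dvd_pow 2 (show 3 ≤ j by omega)).trans h2) (by norm_num)
      exact pow_dvd_pow 2 this
    have h2 : C.π (v ^ 2) = 1 := by rw [map_pow]; exact alt_five_sq _ h4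
    rcases (C.ker_eq _).1 h2 with e | e
    · rcases C.uniq v e with e' | e'
      · exact absurd (by rw [e', map_one]) hv
      · exact absurd ((C.ker_eq v).2 (Or.inr e')) hv
    · exact e
  constructor
  · intro hab
    by_contra hno
    push Not at hno
    obtain ⟨h1, h2, h3⟩ := hno
    have he : (a * b) ^ 2 = 1 := by rw [hab.mul_pow, hsq ha h1, hsq hb h2, C.z_sq]
    have hb1 : C.π b * C.π b = 1 := by
      rw [← map_mul, ← pow_two, hsq hb h2]; exact (C.ker_eq _).2 (Or.inr rfl)
    refine h3 ?_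
    have hab1 : C.π (a * b) = 1 := (C.ker_eq _).2 (C.uniq _ he)
    rw [map_mul] at hab1
    exact (mul_eq_one_iff_eq_inv.1 hab1).trans (inv_eq_of_mul_eq_one_right hb1)
  · rintro (h | h | h)
    · rcases (C.ker_eq a).1 h with rfl | rfl
      · exact Commute.one_left b
      · exact (C.z_comm b).symm
    · rcases (C.ker_eq b).1 h with rfl | rfl
      · exact Commute.one_right a
      · exact C.z_comm a
    · rcases (C.ker_eq (b⁻¹ * a)).1 (by rw [map_mul, map_inv, h, inv_mul_cancel]) with e | e
      · rw [inv_mul_eq_one.1 e]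
      · rw [show a = b * C.z by rw [← e, mul_inv_cancel_left]]
        exact (Commute.refl b).mul_left (C.z_comm b).symm

theorem commutator_cases [Finite G] (a b : G) (ha : ∃ k, orderOf a = 2 ^ k) (hb : ∃ k, orderOf b = 2 ^ k)
    (hT : Commute (C.π a) (C.π b)) [Decidable (Commute a b)] : ⁅a, b⁆ = if Commute a b then 1 else C.z := by
  split_ifs with h
  · exact commutatorElement_eq_one_iff_commute.2 h
  · rcases (C.ker_eq ⁅a, b⁆).1 (by rw [map_commutatorElement, commutatorElement_eq_one_iff_commute.2 hT]) with e | e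
    · exact absurd (commutatorElement_eq_one_iff_commute.1 e) h
    · exact e

end IcoCover

/-- A finite group maps a central element of odd index into the commutator of the Sylow subgroup. -/
theorem mem_commutator_of_central {P : Type u} [Group P] [Finite P] {p : ℕ} [Fact p.Prime] (S : Sylow p P)
    {w : P} (hw : ∀ g, Commute g w) (hwS : w ∈ (S : Subgroup P)) (hwP : w ∈ commutator P)
    (hcop : (orderOf w).Coprime (S : Subgroup P).index) : w ∈ ⁅(S : Subgroup P), (S : Subgroup P)⁆ := by
  have key : ∀ (k : ℕ) (g₀ : P), g₀⁻¹ * w ^ k * g₀ ∈ (S : Subgroup P) → g₀⁻¹ * w ^ k * g₀ = w ^ k :=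
    fun k g₀ _ => by rw [mul_assoc, ← ((hw g₀).pow_right k).eq, inv_mul_cancel_left]
  have h := MonoidHom.transfer_eq_pow (Abelianization.of (G := (S : Subgroup P))) w key
  rw [MonoidHom.mem_ker.1 (Abelianization.commutator_subset_ker _ hwP)] at h
  have h1 : (⟨w ^ (S : Subgroup P).index, pow_mem hwS _⟩ : (S : Subgroup P)) ∈ commutator (S : Subgroup P) := by
    rw [← Abelianization.ker_of]
    exact h.symm
  have h2 : w ^ (S : Subgroup P).index ∈ ⁅(S : Subgroup P), (S : Subgroup P)⁆ := by
    have := mem_map_of_mem (S : Subgroup P).subtype h1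
    rwa [_root_.commutator_def, map_commutator, ← MonoidHom.range_eq_map, range_subtype] at this
  obtain ⟨a, ha⟩ := exists_pow_eq_self_of_coprime (x := w) hcop.symm
  exact ha ▸ pow_mem h2 a

section Iso

variable {G : Type u} {G' : Type v} [Group G] [Group G'] [Finite G] [Finite G']

open scoped Classical in
theorem IcoCover.snd_not_mem (C : IcoCover G) (C' : IcoCover G') :
    let P := MonoidHom.eqLocus (C.π.comp (MonoidHom.fst G G')) (C'.π.comp (MonoidHom.snd G G'))
    ((1 : G), C'.z) ∉ ⁅P, P⁆ := by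
  intro P hmem
  classical
  haveI : Fact (Nat.Prime 2) := ⟨Nat.prime_two⟩
  have hwP : ((1 : G), C'.z) ∈ P := by
    show C.π 1 = C'.π C'.z
    rw [map_one]; exact ((C'.ker_eq _).2 (Or.inr rfl)).symm
  set w : P := ⟨_, hwP⟩
  have hw : ∀ g : P, Commute g w := fun g => Subtype.ext (Prod.ext (by simp [w]) (C'.z_comm _).eq)
  have how : orderOf w = 2 := by
    refine orderOf_eq_prime (Subtype.ext (Prod.ext (by simp [w]) (by simp [w, pow_two, C'.z_sq]))) fun e => ?_
    have := congrArg (fun g : P => (g : G × G').2) e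
    simp only [w, OneMemClass.coe_one, Prod.snd_one] at this
    exact absurd (C'.ord_z ▸ orderOf_eq_one_iff.2 this) (by norm_num)
  have hwc : w ∈ commutator P := by
    have : (commutator P).map P.subtype = ⁅P, P⁆ := by
      rw [_root_.commutator_def, map_commutator, ← MonoidHom.range_eq_map, range_subtype]
    obtain ⟨v, hv, e⟩ := this ▸ hmem
    rwa [← show v = w from Subtype.ext e]
  obtain ⟨S, hS⟩ := (IsPGroup.of_card (p := 2) (n := 1) (G := zpowers w)
    (by rw [Nat.card_zpowers, how, pow_one])).exists_le_sylow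
  have hcop : (orderOf w).Coprime (S : Subgroup P).index := by
    rw [how]
    exact Nat.prime_two.coprime_iff_not_dvd.2 S.not_dvd_index
  have h1 := mem_commutator_of_central S hw (hS (mem_zpowers w)) hwc hcop
  let E : Subgroup P := (zpowers ((C.z, C'.z) : G × G')).subgroupOf P
  have hle : ⁅(S : Subgroup P), (S : Subgroup P)⁆ ≤ E := by
    rw [commutator_le]
    intro a ha b hb
    have hp : ∀ {v : P}, v ∈ (S : Subgroup P) →
        (∃ k, orderOf (v : G × G').1 = 2 ^ k) ∧ ∃ k, orderOf (v : G × G').2 = 2 ^ k := by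
      intro v hv
      obtain ⟨k, hk⟩ := IsPGroup.iff_orderOf.1 S.2 ⟨v, hv⟩
      rw [orderOf_mk, ← Subgroup.orderOf_coe] at hk
      have h1 : orderOf (v : G × G').1 ∣ 2 ^ k := hk ▸ orderOf_map_dvd (MonoidHom.fst G G') _
      have h2 : orderOf (v : G × G').2 ∣ 2 ^ k := hk ▸ orderOf_map_dvd (MonoidHom.snd G G') _
      obtain ⟨i, -, hi⟩ := (Nat.dvd_prime_pow Nat.prime_two).1 h1
      obtain ⟨j, -, hj⟩ := (Nat.dvd_prime_pow Nat.prime_two).1 h2
      exact ⟨⟨i, hi⟩, ⟨j, hj⟩⟩
    -- the image of a Sylow subgroup is abelian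
    have hT : Commute (C.π (a : G × G').1) (C.π (b : G × G').1) := by
      have hsq : ∀ v ∈ (S : Subgroup P), C.π (v : G × G').1 ^ 2 = 1 := by
        intro v hv
        obtain ⟨k, hk⟩ := (hp hv).1
        refine alt_five_sq _ (orderOf_dvd_iff_pow_eq_one.1 ?_)
        have h1 : orderOf (C.π (v : G × G').1) ∣ 2 ^ k := hk ▸ orderOf_map_dvd C.π _
        obtain ⟨j, -, hj⟩ := (Nat.dvd_prime_pow Nat.prime_two).1 h1
        have h2 : orderOf (C.π (v : G × G').1) ∣ 60 := card_alt_five ▸ orderOf_dvd_natCard _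
        rw [hj] at h2 ⊢
        have : j ≤ 2 := by
          by_contra hlt
          exact absurd ((pow_dvd_pow 2 (show 3 ≤ j by omega)).trans h2) (by norm_num)
        exact pow_dvd_pow 2 this
      have hm := hsq (a * b) (mul_mem ha hb)
      have hinv : ∀ x : alternatingGroup (Fin 5), x ^ 2 = 1 → x⁻¹ = x := fun x hx =>
        inv_eq_of_mul_eq_one_right (pow_two x ▸ hx)
      have e := hinv _ hm
      simp only [coe_mul, Prod.fst_mul, map_mul, mul_inv_rev, hinv _ (hsq a ha), hinv _ (hsq b hb)] at e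
      exact e.symm
    have hT' : Commute (C'.π (a : G × G').2) (C'.π (b : G × G').2) := by
      rwa [← show C.π (a : G × G').1 = C'.π (a : G × G').2 from a.2,
        ← show C.π (b : G × G').1 = C'.π (b : G × G').2 from b.2]
    have e1 := C.commutator_cases _ _ (hp ha).1 (hp hb).1 hT
    have e2 := C'.commutator_cases _ _ (hp ha).2 (hp hb).2 hT'
    have hiff : Commute (a : G × G').1 (b : G × G').1 ↔ Commute (a : G × G').2 (b : G × G').2 := by
      rw [C.commute_iff (hp ha).1 (hp hb).1, C'.commute_iff (hp ha).2 (hp hb).2,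
        show C.π (a : G × G').1 = C'.π (a : G × G').2 from a.2,
        show C.π (b : G × G').1 = C'.π (b : G × G').2 from b.2]
    show ((⁅a, b⁆ : P) : G × G') ∈ zpowers (C.z, C'.z)
    have he : ((⁅a, b⁆ : P) : G × G') = (⁅(a : G × G').1, (b : G × G').1⁆, ⁅(a : G × G').2, (b : G × G').2⁆) := by
      simp [commutatorElement_def, Prod.ext_iff]
    rw [he, e1, e2]
    by_cases hc : Commute (a : G × G').1 (b : G × G').1
    · rw [if_pos hc, if_pos (hiff.1 hc)]; exact one_mem _
    · rw [if_neg hc, if_neg (fun h => hc (hiff.2 h))]; exact mem_zpowers _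
  have h2 : ((1 : G), C'.z) ∈ zpowers ((C.z, C'.z) : G × G') := hle h1
  obtain ⟨k, hk⟩ := mem_zpowers_iff.1 h2
  have hk1 : C.z ^ k = 1 := congrArg Prod.fst hk
  have hk2 : C'.z ^ k = C'.z := congrArg Prod.snd hk
  rw [← orderOf_dvd_iff_zpow_eq_one, C.ord_z] at hk1
  obtain ⟨j, rfl⟩ := hk1
  rw [Nat.cast_ofNat, zpow_mul, zpow_two, C'.z_sq, one_zpow] at hk2
  exact absurd (C'.ord_z ▸ orderOf_eq_one_iff.2 hk2.symm) (by norm_num)

/-- All double covers of `A₅` with a unique involution are isomorphic. -/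
theorem IcoCover.nonempty_mulEquiv (C : IcoCover G) (C' : IcoCover G') : Nonempty (G ≃* G') := by
  set P := MonoidHom.eqLocus (C.π.comp (MonoidHom.fst G G')) (C'.π.comp (MonoidHom.snd G G'))
  set E := ⁅P, P⁆
  have hEP : E ≤ P := commutator_le_self P
  have h1 : E.map (MonoidHom.fst G G') = ⊤ := by
    rw [map_commutator]
    have : P.map (MonoidHom.fst G G') = ⊤ := eq_top_iff.2 fun g _ => by
      obtain ⟨g', hg'⟩ := C'.surj (C.π g)
      exact ⟨(g, g'), hg'.symm, rfl⟩
    rw [this, ← _root_.commutator_def, C.perfect]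
  have h2 : E.map (MonoidHom.snd G G') = ⊤ := by
    rw [map_commutator]
    have : P.map (MonoidHom.snd G G') = ⊤ := eq_top_iff.2 fun g' _ => by
      obtain ⟨g, hg⟩ := C.surj (C'.π g')
      exact ⟨(g, g'), hg, rfl⟩
    rw [this, ← _root_.commutator_def, C'.perfect]
  let f1 : E →* G := (MonoidHom.fst G G').comp E.subtype
  let f2 : E →* G' := (MonoidHom.snd G G').comp E.subtype
  have hf1 : Function.Bijective f1 := by
    refine ⟨(injective_iff_map_eq_one f1).2 ?_, fun g => ?_⟩
    · rintro ⟨⟨a, b⟩, hv⟩ (rfl : a = 1)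
      have hb : C'.π b = 1 := by
        have h : C.π 1 = C'.π b := hEP hv
        rw [← h, map_one]
      rcases (C'.ker_eq b).1 hb with rfl | rfl
      · rfl
      · exact absurd hv (C.snd_not_mem C')
    · obtain ⟨w, hw, e⟩ := (h1 ▸ mem_top g : g ∈ E.map (MonoidHom.fst G G'))
      exact ⟨⟨w, hw⟩, e⟩
  have hf2 : Function.Surjective f2 := fun g' => by
    obtain ⟨w, hw, e⟩ := (h2 ▸ mem_top g' : g' ∈ E.map (MonoidHom.snd G G'))
    exact ⟨⟨w, hw⟩, e⟩
  have hf2' : Function.Bijective f2 := by
    haveI := Fintype.ofFinite E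
    haveI := Fintype.ofFinite G'
    rw [Fintype.bijective_iff_surjective_and_card]
    refine ⟨hf2, ?_⟩
    rw [← Nat.card_eq_fintype_card, ← Nat.card_eq_fintype_card, Nat.card_congr (Equiv.ofBijective f1 hf1),
      C.card_eq, C'.card_eq]
  exact ⟨(MulEquiv.ofBijective f1 hf1).symm.trans (MulEquiv.ofBijective f2 hf2')⟩

end Iso

instance : Fact (Nat.Prime 5) := ⟨by norm_num⟩

theorem sl_two_five_involution : ∀ a b c d : ZMod 5, a * d - b * c = 1 →
    a * a + b * c = 1 → a * b + b * d = 0 → c * a + d * c = 0 → c * b + d * d = 1 →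
    (a = 1 ∧ b = 0 ∧ c = 0 ∧ d = 1) ∨ (a = -1 ∧ b = 0 ∧ c = 0 ∧ d = -1) := by
  decide +kernel

/-- `SL(2,5)` is a double cover of `A₅`. -/
theorem nonempty_icoCover_sl : Nonempty (IcoCover (Matrix.SpecialLinearGroup (Fin 2) (ZMod 5))) := by
  let SL := Matrix.SpecialLinearGroup (Fin 2) (ZMod 5)
  haveI : IsSimpleGroup (Matrix.ProjectiveSpecialLinearGroup (Fin 2) (ZMod 5)) :=
    Matrix.ProjectiveSpecialLinearGroup.rank_two_simple (by rw [Nat.card_zmod]; norm_num)
  have hc : Nat.card (Matrix.ProjectiveSpecialLinearGroup (Fin 2) (ZMod 5)) = 60 := by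
    have h := Lib.Classical.two_mul_card_PSL_two_of_odd (F := ZMod 5) (by rw [ZMod.card]; decide)
    rw [ZMod.card] at h; omega
  obtain ⟨e⟩ := Lib.SmallSimple.nonempty_mulEquiv_alternatingFive hc
  have huniq : ∀ t : SL, t ^ 2 = 1 → t = 1 ∨ t = -1 := by
    intro t ht
    have h' : (t : Matrix (Fin 2) (Fin 2) (ZMod 5)) * t = 1 := by
      rw [← Matrix.SpecialLinearGroup.coe_mul, ← pow_two, ht, Matrix.SpecialLinearGroup.coe_one]
    have hd := t.2
    rw [Matrix.det_fin_two] at hd
    have h00 := congrFun (congrFun h' 0) 0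
    have h01 := congrFun (congrFun h' 0) 1
    have h10 := congrFun (congrFun h' 1) 0
    have h11 := congrFun (congrFun h' 1) 1
    simp [Matrix.mul_apply, Fin.sum_univ_two] at h00 h01 h10 h11
    rcases sl_two_five_involution _ _ _ _ hd h00 h01 h10 h11 with ⟨h1, h2, h3, h4⟩ | ⟨h1, h2, h3, h4⟩
    · left; ext i j; fin_cases i <;> fin_cases j <;> simp [h1, h2, h3, h4]
    · right; ext i j; rw [Matrix.SpecialLinearGroup.coe_neg]; fin_cases i <;> fin_cases j <;> simp [h1, h2, h3, h4]
  have hne : (-1 : SL) ≠ 1 := by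
    intro h
    have := congrArg (fun t : SL => (t : Matrix (Fin 2) (Fin 2) (ZMod 5)) 0 0) h
    simp at this
    revert this; decide
  have hm1 : orderOf (-1 : SL) = 2 := orderOf_eq_prime (by rw [neg_one_sq]) hne
  refine ⟨⟨-1, hm1, huniq, e.toMonoidHom.comp (QuotientGroup.mk' (center SL)),
    e.surjective.comp (QuotientGroup.mk'_surjective _), fun g => ?_⟩⟩
  have hker : e (QuotientGroup.mk' (center SL) g) = 1 ↔ g ∈ center SL := by
    rw [MulEquiv.map_eq_one_iff, QuotientGroup.mk'_apply, QuotientGroup.eq_one_iff]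
  refine hker.trans ⟨fun hg => huniq g ?_, fun hg => ?_⟩
  · obtain ⟨r, hr, hg'⟩ := Matrix.SpecialLinearGroup.mem_center_iff.1 hg
    ext i j
    rw [Matrix.SpecialLinearGroup.coe_pow, ← hg', ← map_pow]
    simp at hr
    rw [show r ^ 2 = 1 by rcases hr with rfl | rfl <;> simp, map_one, Matrix.SpecialLinearGroup.coe_one]
  · rcases hg with rfl | rfl
    · exact one_mem _
    · exact mem_center_iff.2 fun x => by
        apply Matrix.SpecialLinearGroup.ext
        intro i j
        simp

end Cfsg.Agent.Lib.ZassSL25
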