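import Mathlib
import Cfsg.Agent.Lib.ZassSL25.Bad

/-!
The case where the Sylow 2-subgroup has order sixteen.
-/

set_option autoImplicit false

namespace Cfsg.Agent.Lib.ZassSL25

open Subgroup

universe u

variable {G : Type u} [Group G] [Finite G]

namespace QData

variable (D : QData G)

theorem qpair_i {d : G} (hd : d ∈ (D.S : Subgroup G)) (hdc : d ∉ zpowers D.c) : QPair D.i d :=
  ⟨D.ord_i, D.orderOf_outside hd hdc, D.outside_conj_zpowers hd hdc D.i_mem⟩

theorem card_le_inter (h : FPFGroup G) {x : G} (hxU : x ∈ D.U) (hx : (orderOf x).Prime)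
    {P : Subgroup G} (hPH : P ≤ centralizer ({x} : Set G)) (hP : IsPGroup 2 P) :
    Nat.card P ≤ Nat.card ((D.S : Subgroup G) ⊓ centralizer ({x} : Set G) : Subgroup G) := by
  obtain ⟨g, hg, hgS⟩ := exists_conj_in (D.S_le_M h hxU hx) D.S.2 (fun P' _ hP' => D.card_le_S hP')
    (hPH.trans (centralizer_le_normalizer_zpowers x)) hP
  exact Nat.card_le_card_of_injective
    (fun w : P => (⟨g * w * g⁻¹, hgS w w.2, mem_centralizer_singleton_iff.2
      (commute_conj_of_mem_normalizer hg (mem_centralizer_singleton_iff.1 (hPH w.2))).eq⟩ :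
      ((D.S : Subgroup G) ⊓ centralizer ({x} : Set G) : Subgroup G)))
    fun a b e => Subtype.ext ((MulAut.conj g).injective (congrArg Subtype.val e))

/-- What a counterexample looks like. -/
theorem eight_spec (h : FPFGroup G) (hperf : commutator G = ⊤) (hIH : SmallPerfect G) {d : G}
    (hd : d ∈ (D.S : Subgroup G)) (hdc : d ∉ zpowers D.c) {x : G} (hxU : x ∈ D.U)
    (hx : (orderOf x).Prime) (hdx : Commute d x) :
    D.n = 3 ∧ Nat.card ((D.S : Subgroup G) ⊓ centralizer ({x} : Set G) : Subgroup G) = 8 ∧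
      (∀ u ∈ D.U, Commute d u) ∧ (∀ u ∈ D.U, D.c * u * D.c⁻¹ = u⁻¹) := by
  classical
  obtain ⟨hn, hcinv, hUH, hc2, -, hfus⟩ := D.bad_spec h hperf hd hdc hxU hx hdx
  set H := centralizer ({x} : Set G)
  set T := (D.S : Subgroup G) ⊓ H
  have hiH : D.i ∈ H := mem_centralizer_singleton_iff.2 (D.mem_U.1 hxU).2.symm.eq
  have hdH : d ∈ H := mem_centralizer_singleton_iff.2 hdx.eq
  have hne : ¬ Commute D.c x := fun hc => D.not_commute_S h hperf hd hdc _ x hxU rfl hx hdx hc
  have hHtop : H ≠ ⊤ := fun e => hne (mem_centralizer_singleton_iff.1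
    (show D.c ∈ H from e ▸ mem_top _))
  have hab := D.qpair_i hd hdc
  have hgen : T ≤ closure {t : G | t ∈ T ∧ orderOf t = 4} := by
    intro t ht
    by_cases htc : t ∈ zpowers D.c
    · have htd : t * d ∉ zpowers D.c := fun e => hdc ((Subgroup.mul_mem_cancel_left _ htc).1 e)
      rw [← mul_inv_cancel_right t d]
      refine mul_mem (subset_closure ⟨mul_mem ht ⟨hd, hdH⟩, D.orderOf_outside (mul_mem ht.1 hd) htd⟩)
        (inv_mem (subset_closure ⟨⟨hd, hdH⟩, D.orderOf_outside hd hdc⟩))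
    · exact subset_closure ⟨ht, D.orderOf_outside ht.1 htc⟩
  obtain ⟨hT8, hkey⟩ := key h D hIH hHtop (T := T) inf_le_right (D.S.2.to_le inf_le_left)
    (a := D.i) (b := d) ⟨D.zpowers_c_le D.i_mem, hiH⟩ ⟨hd, hdH⟩ hab hgen hfus
  have hlt : Nat.card (zpowers (D.c ^ 2)) < Nat.card T := by
    have hle : zpowers (D.c ^ 2) ≤ T := zpowers_le.2 ⟨pow_mem D.c_mem 2, hc2⟩
    refine lt_of_le_of_ne (card_le_of_le hle) fun e => hdc ?_
    have := eq_of_le_of_card_ge hle e.ge
    exact zpowers_le.2 (pow_mem (mem_zpowers D.c) 2) (this.ge ⟨hd, hdH⟩)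
  rw [Nat.card_zpowers, orderOf_pow' _ (by norm_num), D.ord_c,
    Nat.gcd_eq_right (dvd_pow_self 2 (by omega))] at hlt
  have hn3 : D.n = 3 := by
    by_contra hne3
    have : 8 ≤ 2 ^ D.n / 2 := by
      calc 8 = 2 ^ 4 / 2 := by norm_num
        _ ≤ 2 ^ D.n / 2 := Nat.div_le_div_right (Nat.pow_le_pow_right (by norm_num) (by omega))
    omega
  have hcard : Nat.card T = 8 := by
    have hd' : Nat.card T ∣ 2 ^ 4 := by
      rw [show 4 = D.n + 1 by omega, ← D.card_S]
      exact card_dvd_of_le inf_le_left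
    obtain ⟨k, hk4, hk⟩ := (Nat.dvd_prime_pow Nat.prime_two).1 hd'
    rw [hn3] at hlt
    interval_cases k <;> omega
  have hdU : ∀ u ∈ D.U, Commute d u := by
    intro u hu
    have hle : D.U ≤ centralizer ({d} : Set G) := by
      refine le_centralizer_of_prime_fixed h D.odd_U (D.S_le_normalizer_U hd) ?_ fun w hw hwp => ?_
      · rw [D.orderOf_outside hd hdc]
        exact (Nat.coprime_two_left.2 D.odd_U).pow_left 2
      · by_contra hnc
        exact hkey w (hUH hw) hwp (D.prime_ne_two_of_mem_U hw hwp) (D.mem_U.1 hw).2.symm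
          (inverts_of_four D hwp (D.orderOf_outside hd hdc) (D.S_le_M h hw hwp hd) hnc)
    exact (show Commute u d from mem_centralizer_singleton_iff.1 (hle hu)).symm
  refine ⟨hn3, hcard, hdU, fun u hu => ?_⟩
  have hcN := D.S_le_normalizer_U D.c_mem
  let φ : D.U →* D.U :=
    { toFun := fun v => ⟨D.c * v * D.c⁻¹, (mem_normalizer_iff.1 hcN v).1 v.2⟩
      map_one' := Subtype.ext (by show D.c * (1 : G) * D.c⁻¹ = 1; group)
      map_mul' := fun v w => Subtype.ext (by
        show D.c * ((v : G) * w) * D.c⁻¹ = D.c * v * D.c⁻¹ * (D.c * w * D.c⁻¹)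
        group) }
  have h1 : MonoidHom.FixedPointFree φ := by
    intro v hv
    have hvc : Commute D.c (v : G) := conj_eq_iff_commute.1 (congrArg Subtype.val hv)
    by_contra hv1
    obtain ⟨q, hq, hqd⟩ := Nat.exists_prime_and_dvd
      (fun e => hv1 (Subtype.ext (orderOf_eq_one_iff.1 e) : v = 1))
    have hwo := orderOf_pow_orderOf_div (orderOf_pos (v : G)).ne' hqd
    exact D.not_commute_S h hperf hd hdc q _ (pow_mem v.2 _) hwo hq ((hdU v v.2).pow_right _)
      (hvc.pow_right _)
  have h2 : (⇑φ)^[2] = _root_.id := funext fun v => Subtype.ext (by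
    show D.c * (D.c * v * D.c⁻¹) * D.c⁻¹ = v
    rw [show D.c * (D.c * (v : G) * D.c⁻¹) * D.c⁻¹ = D.c ^ 2 * v * (D.c ^ 2)⁻¹ by rw [pow_two]; group,
      conj_eq_iff_commute.2 (D.c_sq_commute_U h v.2)])
  exact congrArg Subtype.val (congrFun (h1.coe_eq_inv_of_sq_eq_one h2) ⟨u, hu⟩)

/-- All elements of prime order of `U` have the same centralizer. -/
theorem centralizer_le_of_U (h : FPFGroup G) (hperf : commutator G = ⊤) (hIH : SmallPerfect G) {d : G}
    (hd : d ∈ (D.S : Subgroup G)) (hdc : d ∉ zpowers D.c) {x : G} (hxU : x ∈ D.U)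
    (hx : (orderOf x).Prime) (hdx : Commute d x) {w : G} (hwU : w ∈ D.U) (hw : (orderOf w).Prime) :
    centralizer ({x} : Set G) ≤ centralizer ({w} : Set G) := by
  classical
  obtain ⟨hn, hT8, hdU, -⟩ := D.eight_spec h hperf hIH hd hdc hxU hx hdx
  obtain ⟨-, hcinv, hUH, hc2, -, -⟩ := D.bad_spec h hperf hd hdc hxU hx hdx
  obtain ⟨-, -, hUW, hc2w, hMW, -⟩ := D.bad_spec h hperf hd hdc hwU hw (hdU w hwU)
  set H := centralizer ({x} : Set G)
  set W := centralizer ({w} : Set G)
  set T := (D.S : Subgroup G) ⊓ H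
  have hSMw : (D.S : Subgroup G) ≤ normalizer (zpowers w : Set G) := D.S_le_M h hwU hw
  have hne : ¬ Commute D.c x := fun hc => D.not_commute_S h hperf hd hdc _ x hxU rfl hx hdx hc
  have hTW : T ≤ W := by
    have hpow : ∀ j : ℤ, D.c ^ j ∈ H → D.c ^ j ∈ W := by
      intro j hj
      rcases Int.even_or_odd j with ⟨q, hq⟩ | ⟨q, hq⟩
      · rw [hq, ← two_mul, zpow_mul, zpow_two, ← pow_two]
        exact zpow_mem hc2w q
      · refine absurd (mem_centralizer_singleton_iff.1 ?_) hne
        rw [hq, zpow_add, zpow_one, zpow_mul, zpow_two, ← pow_two] at hj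
        exact (H.mul_mem_cancel_left (zpow_mem hc2 q)).1 hj
    intro t ht
    by_cases htc : t ∈ zpowers D.c
    · obtain ⟨j, rfl⟩ := mem_zpowers_iff.1 htc
      exact hpow j ht.2
    · obtain ⟨j, hj⟩ := mem_zpowers_iff.1 (D.mul_mem_c ht.1 (inv_mem hd) htc (outside_inv D hdc))
      rw [← inv_mul_cancel_right t d, ← hj]
      refine mul_mem (hpow j ?_) (mem_centralizer_singleton_iff.2 (hdU w hwU).eq)
      rw [hj]
      exact mul_mem ht.2 (inv_mem (mem_centralizer_singleton_iff.2 hdx.eq))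
  have hK : ∀ g ∈ H, g ∈ normalizer (zpowers w : Set G) → Commute g w := by
    intro g hgH hgM
    refine mem_centralizer_singleton_iff.1
      (mem_of_primePow_powers (S := W) (g := g) fun q j e hq hvo => ?_)
    have hvH := pow_mem hgH e
    have hvM := pow_mem hgM e
    generalize g ^ e = v at hvo hvH hvM
    rcases eq_or_ne q 2 with rfl | hq2
    · obtain ⟨k, hk, hkT⟩ := exists_conj_in (K := H ⊓ normalizer (zpowers w : Set G)) (T := T)
        (le_inf inf_le_right (inf_le_left.trans hSMw)) (D.S.2.to_le inf_le_left)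
        (fun P hP hPp => D.card_le_inter h hxU hx (hP.trans inf_le_left) hPp)
        (zpowers_le.2 ⟨hvH, hvM⟩) (IsPGroup.of_card (n := j) (by rw [Nat.card_zpowers, hvo]))
      have := commute_conj_of_mem_normalizer (inv_mem hk.2)
        (mem_centralizer_singleton_iff.1 (hTW (hkT v (mem_zpowers v))))
      rw [show k⁻¹ * (k * v * k⁻¹) * k⁻¹⁻¹ = v by group] at this
      exact mem_centralizer_singleton_iff.2 this.eq
    · rcases hMW v hvM with e | e
      · exact e
      refine mem_centralizer_singleton_iff.2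
        (commute_of_sq_odd (commute_sq_of_pm (Or.inr ?_)) (odd_orderOf_primePow hq hq2 hvo)).eq
      have hcw : D.c * w * D.c⁻¹ = w⁻¹ :=
        (D.bad_spec h hperf hd hdc hwU hw (hdU w hwU)).2.1
      calc v * w * v⁻¹ = D.c * (D.c⁻¹ * v * w * (D.c⁻¹ * v)⁻¹) * D.c⁻¹ := by group
        _ = D.c * w * D.c⁻¹ := by rw [conj_eq_iff_commute.2 (mem_centralizer_singleton_iff.1 e)]
        _ = _ := hcw
  -- transfer inside `H`
  haveI := Fact.mk hw
  have hw2 := D.prime_ne_two_of_mem_U hwU hw
  set w' : H := ⟨w, hUH hwU⟩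
  have hw' : orderOf w' = orderOf w := orderOf_mk _ _
  have hH' := h.subgroup H
  obtain ⟨R, hR⟩ := (IsPGroup.of_card (p := orderOf w) (n := 1) (G := zpowers w')
    (by rw [Nat.card_zpowers, pow_one, hw'])).exists_le_sylow
  haveI hRc := isCyclic_of_isPGroup hH' hw2 R.2
  have hNR := normalizer_le_centralizer_of_fixed hH' hw2 R (hR (mem_zpowers w')) hw' fun g hg => by
    have hmem : g * w' * g⁻¹ ∈ (R : Subgroup H) := (mem_normalizer_iff.1 hg w').1 (hR (mem_zpowers w'))
    have hgM : (g : G) ∈ normalizer (zpowers w : Set G) := by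
      rw [mem_normalizer_zpowers_iff, ← zpowers_eq_of_commute h hw (orderOf_conj' (g : G) w) rfl
        (congrArg Subtype.val (congrArg Subtype.val
          (mul_comm' (⟨_, hmem⟩ : (R : Subgroup H)) ⟨w', hR (mem_zpowers w')⟩)))]
      exact mem_zpowers _
    exact Subtype.ext (hK g g.2 hgM).eq
  set f := MonoidHom.transferSylow R hNR
  set N0 := f.ker
  have hcomp : N0.IsComplement' (R : Subgroup H) := MonoidHom.ker_transferSylow_isComplement' R hNR
  have hcop : (Nat.card (zpowers w')).Coprime (Nat.card N0) := by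
    rw [Nat.card_zpowers, hw']
    exact hw.coprime_iff_not_dvd.2 (MonoidHom.not_dvd_card_ker_transferSylow R hNR)
  have hN0 : zpowers w' ≤ normalizer (N0 : Set H) := by
    rw [normalizer_eq_top_iff.2 (MonoidHom.normal_ker f)]
    exact le_top
  set F := N0 ⊓ centralizer ({w'} : Set H)
  have hF : N0 ≤ F := by
    refine (eq_of_le_of_card_ge inf_le_left
      (Nat.le_of_dvd Nat.card_pos ((Nat.dvd_iff_prime_pow_dvd_dvd _ _).2 fun q k hq hk => ?_))).ge
    haveI := Fact.mk hq
    obtain ⟨P, hP⟩ := Lib.Coprime.exists_invariant_sylow hN0 hcop (Or.inl inferInstance) q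
    set P' := (P : Subgroup N0).map N0.subtype
    have hkP : q ^ k ∣ Nat.card P' := by
      rw [card_map_of_injective N0.subtype_injective, P.card_eq_multiplicity]
      exact pow_dvd_pow q ((hq.pow_dvd_iff_le_factorization Nat.card_pos.ne').1 hk)
    rcases eq_or_ne q 2 with rfl | hq2
    · have hTF : T.subgroupOf H ≤ F := by
        rintro ⟨t, htH⟩ ht
        refine ⟨?_, mem_centralizer_singleton_iff.2
          (Subtype.ext (mem_centralizer_singleton_iff.1 (hTW ht)))⟩
        show f ⟨t, htH⟩ = 1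
        obtain ⟨a, ha⟩ := orderOf_isPGroup (D.S.2.to_le inf_le_left : IsPGroup 2 T) ht
        obtain ⟨b, hb⟩ := IsPGroup.iff_orderOf.1 R.2 (f ⟨t, htH⟩)
        have h1 := orderOf_map_dvd f (⟨t, htH⟩ : H)
        rw [hb, ← orderOf_injective H.subtype H.subtype_injective, ha] at h1
        refine orderOf_eq_one_iff.1 (hb.trans ?_)
        exact Nat.eq_one_of_dvd_coprimes (((Nat.coprime_primes Nat.prime_two hw).2 hw2.symm).pow a b)
          h1 dvd_rfl
      have hT' : Nat.card (T.subgroupOf H) = 8 := by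
        rw [← hT8]; exact Nat.card_congr (subgroupOfEquivOfLe inf_le_right).toEquiv
      obtain ⟨a, ha⟩ := IsPGroup.iff_card.1 (P.2.map N0.subtype : IsPGroup 2 P')
      have hP8 : Nat.card P' ≤ 8 := by
        rw [← hT8, ← card_map_of_injective H.subtype_injective]
        exact D.card_le_inter h hxU hx (map_subtype_le _) ((P.2.map N0.subtype).map H.subtype)
      refine dvd_trans ?_ (card_dvd_of_le hTF)
      rw [hT', show (8 : ℕ) = 2 ^ 3 by norm_num]
      refine hkP.trans ?_
      rw [ha] at hP8 ⊢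
      exact pow_dvd_pow 2 ((Nat.pow_le_pow_iff_right (by norm_num)).1 (hP8.trans_eq (by norm_num)))
    · refine hkP.trans (card_dvd_of_le (le_inf (map_subtype_le _) ?_))
      haveI := isCyclic_of_isPGroup hH' hq2 (P.2.map N0.subtype : IsPGroup q P')
      obtain ⟨a, ha⟩ := IsPGroup.iff_card.1 (P.2.map N0.subtype : IsPGroup q P')
      refine le_centralizer_of_prime_fixed hH' (ha ▸ (odd_of_prime_ne_two hq hq2).pow)
        (hP (mem_zpowers w')) ?_ fun v hv hvp => ?_
      · rw [← Nat.card_zpowers]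
        exact hcop.coprime_dvd_right (card_dvd_of_le (map_subtype_le _))
      · refine commute_of_prime_normalises hH' hvp (hw' ▸ hw) rfl rfl ?_
        rw [mem_normalizer_zpowers_iff, ← zpowers_eq_of_commute hH' hvp (orderOf_conj' w' v) rfl
          (congrArg Subtype.val (mul_comm'
            (⟨_, (mem_normalizer_iff.1 (hP (mem_zpowers w')) v).1 hv⟩ : P') ⟨v, hv⟩))]
        exact mem_zpowers _
  intro g hg
  obtain ⟨⟨⟨a, ha⟩, ⟨b, hb⟩⟩, he⟩ := hcomp.2 ⟨g, hg⟩
  have h1 : Commute a w' := mem_centralizer_singleton_iff.1 (hF ha).2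
  have h2 : Commute b w' := congrArg Subtype.val
    (mul_comm' (⟨b, hb⟩ : (R : Subgroup H)) ⟨w', hR (mem_zpowers w')⟩)
  have h3 := h1.mul_left h2
  rw [show a * b = (⟨g, hg⟩ : H) from he] at h3
  exact mem_centralizer_singleton_iff.2 (congrArg Subtype.val h3.eq)

end QData

end Cfsg.Agent.Lib.ZassSL25
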