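import Mathlib
import Cfsg.Agent.Lib.ZassSL25.Eight
import Cfsg.Agent.Lib.ZassSL25.Count

/-!
No element of odd prime order centralises a quaternion group.
-/

set_option autoImplicit false

namespace Cfsg.Agent.Lib.ZassSL25

open Subgroup

universe u

variable {G : Type u} [Group G] [Finite G]

theorem Bad.conj {b : G} (hb : Bad b) (g : G) : Bad (g * b * g⁻¹) := by
  obtain ⟨hp, h2, a, a', ⟨h4, h4', hinv⟩, hc, hc'⟩ := hb
  refine ⟨by rw [orderOf_conj']; exact hp, by rw [orderOf_conj']; exact h2, g * a * g⁻¹, g * a' * g⁻¹,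
    ⟨by rw [orderOf_conj']; exact h4, by rw [orderOf_conj']; exact h4', ?_⟩, commute_conj_conj hc, commute_conj_conj hc'⟩
  calc g * a' * g⁻¹ * (g * a * g⁻¹) * (g * a' * g⁻¹)⁻¹ = g * (a' * a * a'⁻¹) * g⁻¹ := by group
    _ = _ := by rw [hinv]; group

theorem exists_prime_pow {v : G} (hv : v ≠ 1) (ho : Odd (orderOf v)) :
    ∃ m : ℕ, (orderOf (v ^ m)).Prime ∧ orderOf (v ^ m) ≠ 2 := by
  obtain ⟨q, hq, hqd⟩ := Nat.exists_prime_and_dvd (fun e => hv (orderOf_eq_one_iff.1 e))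
  refine ⟨orderOf v / q, ?_, ?_⟩ <;> rw [orderOf_pow_orderOf_div (orderOf_pos v).ne' hqd]
  · exact hq
  · rintro rfl
    exact Nat.not_odd_iff_even.2 (even_iff_two_dvd.2 hqd) ho

omit [Finite G] in
theorem Bad.not_free {b : G} (hb : Bad b) : ¬ Free b := fun hf => by
  obtain ⟨-, -, a, -, ⟨ha, -, -⟩, hc, -⟩ := hb
  exact hf a ha hc

set_option maxHeartbeats 1600000 in
/-- The conjugates of the odd part of the centralizer of a free element. -/
theorem QData.class_count (D : QData G) (h : FPFGroup G) (hperf : commutator G = ⊤) (hn : D.n = 3)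
    {y : G} (hy : FreeClosed y) :
    ∃ Y : Set G, Y ⊆ {v | v ≠ 1 ∧ Odd (orderOf v) ∧ ∀ b, Bad b → ¬ Commute v b} ∧
      (∀ g v, v ≠ 1 → Odd (orderOf v) → Commute v y → g⁻¹ * v * g⁻¹⁻¹ ∈ Y) ∧
      (∀ v ∈ Y, ∃ g : G, Commute (g * v * g⁻¹) y) ∧
      ((Nat.card G ≤ 6 * Nat.card Y) ∨ (Nat.card G ≤ 10 * Nat.card Y ∧ 8 * Nat.card Y < Nat.card G)) := by
  classical
  set R : Set G := {v | v ≠ 1 ∧ Odd (orderOf v) ∧ ∀ b, Bad b → ¬ Commute v b}
  obtain ⟨A, hAc, hAodd, hyA, hAmem, -, -, k, hk2, hkn, hN, hk3⟩ := hy.spec h hperf D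
  set X' : Set G := {v | v ∈ A ∧ v ≠ 1}
  set Y : Set G := {v | ∃ g ∈ (⊤ : Subgroup G), g * v * g⁻¹ ∈ X'}
  have hYR : Y ⊆ R := by
    rintro v ⟨g, -, hvA, hv1⟩
    refine ⟨fun e => hv1 (by rw [e]; group), by
      have := ((hAmem _).1 hvA).1; rwa [orderOf_conj'] at this, fun b hb hc => ?_⟩
    obtain ⟨e, hwp, hw2⟩ := exists_prime_pow hv1 ((hAmem _).1 hvA).1
    have hF := hy.of_commute h D hwp hw2 (((hAmem _).1 hvA).2.pow_left e)
    refine (hb.conj g).not_free (hF.closed _ (hb.conj g).1 (hb.conj g).2.1 ?_)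
    exact ((commute_conj_conj hc).pow_left e).symm
  have hcY := card_conjHull (K := ⊤) (N := normalizer (zpowers y : Set G)) le_top X' ?_ ?_
  · have hA : Nat.card A = Nat.card X' + 1 := by
      have hXeq : X' = (A : Set G) \ {1} := rfl
      rw [Nat.card_coe_set_eq X', hXeq, Set.ncard_sdiff_singleton_add_one (one_mem A),
        ← Nat.card_coe_set_eq]
      rfl
    rw [card_top, hN] at hcY
    change Nat.card Y * _ = _ at hcY
    refine ⟨Y, hYR, fun g v hv1 ho hc => ⟨g, mem_top _, ?_⟩, fun v ⟨g, _, hv⟩ => ⟨g, ((hAmem _).1 hv.1).2⟩, ?_⟩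
    · rw [show g * (g⁻¹ * v * g⁻¹⁻¹) * g⁻¹ = v by group]
      exact ⟨(hAmem v).2 ⟨ho, hc⟩, hv1⟩
    have hy1 : orderOf y ∣ Nat.card A := A.orderOf_dvd_natCard hyA
    obtain ⟨a, ha⟩ := hAodd
    have hA3 : 3 ≤ Nat.card A := by
      have := Nat.le_of_dvd (by omega) hy1
      have := hy.prime.two_le
      omega
    rw [hn] at hkn
    obtain rfl | rfl : k = 2 ∨ k = 3 := by omega
    · exact Or.inl (by nlinarith)
    · have hA5 : 5 ≤ Nat.card A := by
        rcases Nat.lt_or_ge (Nat.card A) 5 with hlt | hge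
        · exfalso
          have e3 : Nat.card A = 3 := by omega
          have h3 : orderOf y = 3 := (Nat.prime_dvd_prime_iff_eq hy.prime Nat.prime_three).1 (e3 ▸ hy1)
          have := hk3 h3
          omega
        · exact hge
      exact Or.inr ⟨by nlinarith, by nlinarith [Nat.card_pos (α := G)]⟩
  · rintro n hn' v ⟨hv, hv1⟩
    exact ⟨(hAmem _).2 ⟨by rw [orderOf_conj']; exact ((hAmem v).1 hv).1,
      commute_conj_of_mem_normalizer hn' ((hAmem v).1 hv).2⟩, by rw [ne_eq, conj_eq_one_iff]; exact hv1⟩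
  · rintro v ⟨hv, hv1⟩ g - ⟨hgv, -⟩
    obtain ⟨e, hwp, hw2⟩ := exists_prime_pow hv1 ((hAmem v).1 hv).1
    have hwy : Commute (v ^ e) y := ((hAmem v).1 hv).2.pow_left e
    have hF := hy.of_commute h D hwp hw2 hwy
    have h1 := commute_conj_conj (g := g⁻¹) (((hAmem _).1 hgv).2.pow_left e)
    rw [conj_pow, show g⁻¹ * (g * v ^ e * g⁻¹) * g⁻¹⁻¹ = v ^ e by group] at h1
    have hy' : (orderOf (g⁻¹ * y * g⁻¹⁻¹)).Prime := by rw [orderOf_conj']; exact hy.prime
    have h2 := FreeClosed.commute_of_free h D hF.free hy' (by rw [orderOf_conj']; exact hy.ne_two)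
      h1.symm hy.prime hy.ne_two hwy.symm
    have h3 := commute_conj_conj (g := g) h2
    rw [show g * (g⁻¹ * y * g⁻¹⁻¹) * g⁻¹ = y by group] at h3
    rw [mem_normalizer_zpowers_iff, zpowers_eq_of_commute h hy.prime rfl (orderOf_conj' g y) h3]
    exact mem_zpowers _

namespace QData

variable (D : QData G)

theorem exists_conj_mem_U (hperf : commutator G = ⊤) {w a : G} (ho : Odd (orderOf w))
    (ha : orderOf a = 4) (hc : Commute a w) : ∃ g : G, g * w * g⁻¹ ∈ D.U := by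
  obtain ⟨g, hg⟩ := isConj_iff.1 (D.isConj_four hperf ha)
  exact ⟨g, D.mem_U.2 ⟨by rw [orderOf_conj']; exact ho, hg ▸ (commute_conj_conj hc).symm⟩⟩

set_option maxHeartbeats 1600000 in
/-- The setting of a counterexample: a common centralizer `H` of all elements of prime order of `U`. -/
theorem false_of_bad (h : FPFGroup G) (hperf : commutator G = ⊤) (hIH : SmallPerfect G) {d : G}
    (hd : d ∈ (D.S : Subgroup G)) (hdc : d ∉ zpowers D.c) {x : G} (hxU : x ∈ D.U)
    (hx : (orderOf x).Prime) (hdx : Commute d x) : False := by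
  classical
  obtain ⟨hn, hT8, hdU, -⟩ := D.eight_spec h hperf hIH hd hdc hxU hx hdx
  obtain ⟨-, hcinv, hUH, hc2, hMH, hfus⟩ := D.bad_spec h hperf hd hdc hxU hx hdx
  set H := centralizer ({x} : Set G)
  set M := normalizer (zpowers x : Set G)
  have hx2 : orderOf x ≠ 2 := D.prime_ne_two_of_mem_U hxU hx
  have hxodd : Odd (orderOf x) := odd_of_prime_ne_two hx hx2
  have hne : ¬ Commute D.c x := fun hc => D.not_commute_S h hperf hd hdc _ x hxU rfl hx hdx hc
  have hcM : D.c ∈ M := D.S_le_M h hxU hx D.c_mem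
  have hcH : D.c ∉ H := fun e => hne (mem_centralizer_singleton_iff.1 e)
  have hdH : d ∈ H := mem_centralizer_singleton_iff.2 hdx.eq
  have hiH : D.i ∈ H := mem_centralizer_singleton_iff.2 (D.mem_U.1 hxU).2.symm.eq
  have hH : ∀ w ∈ D.U, (orderOf w).Prime → centralizer ({w} : Set G) = H := fun w hw hwp =>
    le_antisymm (D.centralizer_le_of_U h hperf hIH hd hdc hw hwp (hdU w hw) hxU hx)
      (D.centralizer_le_of_U h hperf hIH hd hdc hxU hx hdx hw hwp)
  have hBadU : ∀ b : G, Bad b → ∃ g : G, g * b * g⁻¹ ∈ D.U := fun b hb => by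
    obtain ⟨hp, h2, a, -, ⟨ha, -, -⟩, hc, -⟩ := hb
    exact D.exists_conj_mem_U hperf (odd_of_prime_ne_two hp h2) ha hc
  have hxBad : Bad x := ⟨hx, hx2, D.i, d, D.qpair_i hd hdc, (D.mem_U.1 hxU).2.symm, hdx⟩
  have hUBad : ∀ w ∈ D.U, (orderOf w).Prime → Bad w := fun w hw hwp =>
    ⟨hwp, D.prime_ne_two_of_mem_U hw hwp, D.i, d, D.qpair_i hd hdc, (D.mem_U.1 hw).2.symm, hdU w hw⟩
  have hfree : ∀ w : G, (orderOf w).Prime → orderOf w ≠ 2 → ¬ Bad w → Free w := by
    intro w hp h2 hnb a ha hc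
    obtain ⟨g, hg⟩ := D.exists_conj_mem_U hperf (odd_of_prime_ne_two hp h2) ha hc
    refine hnb ?_
    have := (hUBad _ hg (by rw [orderOf_conj']; exact hp)).conj g⁻¹
    rwa [show g⁻¹ * (g * w * g⁻¹) * g⁻¹⁻¹ = w by group] at this
  -- bad elements of `H` are central in `H`
  have hcentral : ∀ b ∈ H, Bad b → ∀ v ∈ H, Commute v b := by
    intro b hbH hb v hv
    obtain ⟨g, hg⟩ := hBadU b hb
    have hp : (orderOf (g * b * g⁻¹)).Prime := by rw [orderOf_conj']; exact hb.1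
    have hC := hH _ hg hp
    have hc : Commute b (g * b * g⁻¹) := mem_centralizer_singleton_iff.1 (hC.symm ▸ hbH)
    have hz := zpowers_eq_of_commute h hb.1 rfl (orderOf_conj' g b) hc
    obtain ⟨m, hm⟩ := mem_zpowers_iff.1 (hz ▸ mem_zpowers b : b ∈ zpowers (g * b * g⁻¹))
    rw [← hm]
    exact (show Commute v (g * b * g⁻¹) from mem_centralizer_singleton_iff.1 (hC.symm ▸ hv)).zpow_right m
  have hoddM : ∀ v ∈ M, Odd (orderOf v) → v ∈ H := by
    intro v hv ho
    rcases hMH v hv with e | e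
    · exact e
    refine mem_centralizer_singleton_iff.2 (commute_of_sq_odd (commute_sq_of_pm (Or.inr ?_)) ho).eq
    calc v * x * v⁻¹ = D.c * (D.c⁻¹ * v * x * (D.c⁻¹ * v)⁻¹) * D.c⁻¹ := by group
      _ = D.c * x * D.c⁻¹ := by rw [conj_eq_iff_commute.2 (mem_centralizer_singleton_iff.1 e)]
      _ = _ := hcinv
  have hprimePow : ∀ v : G, v ≠ 1 → Odd (orderOf v) →
      ∃ m : ℕ, (orderOf (v ^ m)).Prime ∧ orderOf (v ^ m) ≠ 2 := fun v => exists_prime_pow
  -- two bad elements commuting with the same element of odd order commute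
  have hbb : ∀ v : G, v ≠ 1 → Odd (orderOf v) → ∀ b b', Bad b → Bad b' → Commute v b → Commute v b' →
      Commute b b' := by
    intro v hv ho b b' hb hb' hvb hvb'
    obtain ⟨m, hwp, hw2⟩ := hprimePow v hv ho
    by_cases hwb : Bad (v ^ m)
    · obtain ⟨g, hg⟩ := hBadU _ hwb
      have hp : (orderOf (g * v ^ m * g⁻¹)).Prime := by rw [orderOf_conj']; exact hwp
      have hC := hH _ hg hp
      have hmem : ∀ u : G, Commute v u → g * u * g⁻¹ ∈ H := fun u hu =>
        hC ▸ mem_centralizer_singleton_iff.2 (commute_conj_conj (hu.pow_left m)).symm.eq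
      have := commute_conj_conj (g := g⁻¹) (hcentral _ (hmem b' hvb') (hb'.conj g) _ (hmem b hvb))
      rwa [show g⁻¹ * (g * b * g⁻¹) * g⁻¹⁻¹ = b by group,
        show g⁻¹ * (g * b' * g⁻¹) * g⁻¹⁻¹ = b' by group] at this
    · exact FreeClosed.commute_of_free h D (hfree _ hwp hw2 hwb) hb.1 hb.2.1 (hvb.pow_left m).symm
        hb'.1 hb'.2.1 (hvb'.pow_left m).symm
  -- the centralizer of `i`
  have hCi : Nat.card (centralizer ({D.i} : Set G)) = Nat.card D.U * 8 := by
    rw [D.card_centralizer_i, hn]; norm_num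
  have hoddC : ∀ K : Subgroup G, D.U ≤ K →
      Nat.card (oddSet (K ⊓ centralizer ({D.i} : Set G))) = Nat.card D.U := fun K hUK => by
    refine Nat.card_congr (Equiv.subtypeEquivRight fun v => ⟨fun hv => D.mem_U.2 ⟨hv.2,
      mem_centralizer_singleton_iff.1 hv.1.2⟩, fun hv => ⟨⟨hUK hv,
      mem_centralizer_singleton_iff.2 (D.mem_U.1 hv).2.eq⟩, (D.mem_U.1 hv).1⟩⟩)
  have hCH : Nat.card (centralizer ({D.i} : Set G)) =
      2 * Nat.card (H ⊓ centralizer ({D.i} : Set G) : Subgroup G) := by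
    refine card_eq_two_mul inf_le_right (mem_centralizer_singleton_iff.2 D.c_commute_i.eq)
      (fun e => hcH e.1) fun g hg => ?_
    have hgN : g ∈ M := by
      obtain ⟨u, hu, s, hs, rfl⟩ := D.normalizer_i_decomp
        (Or.inl (conj_eq_iff_commute.2 (mem_centralizer_singleton_iff.1 hg)))
      exact mul_mem (D.U_le_M h hxU hx hu) (D.S_le_M h hxU hx hs)
    rcases hMH g hgN with e | e
    · exact Or.inl ⟨e, hg⟩
    · exact Or.inr ⟨e, Subgroup.mul_mem _ (Subgroup.inv_mem _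
        (mem_centralizer_singleton_iff.2 D.c_commute_i.eq)) hg⟩
  have hflip : d * D.i * d⁻¹ = D.i⁻¹ := D.outside_conj_zpowers hd hdc D.i_mem
  have hG : 16 * Nat.card (oddSet (⊤ : Subgroup G)) = 5 * Nat.card G := by
    have := D.four_count (K := ⊤) (mem_top _) D.ord_i (fun v _ hv => by
      obtain ⟨g, hg⟩ := isConj_iff.1 (D.isConj_four hperf hv)
      exact ⟨g⁻¹, mem_top _, Or.inl (by rw [← hg]; group)⟩) ⟨d, mem_top _, hflip⟩
    rw [hoddC ⊤ le_top, top_inf_eq, hCi, card_top] at this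
    have hu : 0 < Nat.card D.U := Nat.card_pos
    nlinarith
  have hHodd : 8 * Nat.card (oddSet H) = 3 * Nat.card H := by
    have := D.four_count (K := H) hiH D.ord_i hfus ⟨d, hdH, hflip⟩
    rw [hoddC H hUH, show Nat.card (H ⊓ centralizer ({D.i} : Set G) : Subgroup G) = 4 * Nat.card D.U by
      omega] at this
    have hu : 0 < Nat.card D.U := Nat.card_pos
    nlinarith
  have hM2 : Nat.card M = 2 * Nat.card H :=
    card_eq_two_mul (centralizer_le_normalizer_zpowers x) hcM hcH hMH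
  -- the elements linked to bad ones
  set X : Set G := {v | v ∈ oddSet H ∧ v ≠ 1}
  set B : Set G := {v | v ≠ 1 ∧ Odd (orderOf v) ∧ ∃ b, Bad b ∧ Commute v b}
  set R : Set G := {v | v ≠ 1 ∧ Odd (orderOf v) ∧ ∀ b, Bad b → ¬ Commute v b}
  have hB : Nat.card B * Nat.card M = Nat.card G * Nat.card X := by
    have hBeq : {y : G | ∃ k ∈ (⊤ : Subgroup G), k * y * k⁻¹ ∈ X} = B := by
      ext y
      constructor
      · rintro ⟨k, -, ⟨hyH, ho⟩, h1⟩
        refine ⟨fun e => h1 (by rw [e]; group), by rwa [orderOf_conj'] at ho, k⁻¹ * x * k⁻¹⁻¹,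
          hxBad.conj _, ?_⟩
        have := commute_conj_conj (g := k⁻¹) (show Commute (k * y * k⁻¹) x from mem_centralizer_singleton_iff.1 hyH)
        rwa [show k⁻¹ * (k * y * k⁻¹) * k⁻¹⁻¹ = y by group] at this
      · rintro ⟨h1, ho, b, hb, hc⟩
        obtain ⟨g, hg⟩ := hBadU b hb
        refine ⟨g, mem_top _, ⟨?_, by rwa [orderOf_conj']⟩, fun e => h1 ?_⟩
        · rw [← hH _ hg (by rw [orderOf_conj']; exact hb.1)]
          exact mem_centralizer_singleton_iff.2 (commute_conj_conj hc).eq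
        · rw [conj_eq_one_iff] at e; exact e
    have := card_conjHull (K := ⊤) (N := M) le_top X ?_ ?_
    · rwa [hBeq, card_top] at this
    · rintro n hn v ⟨⟨hv, ho⟩, h1⟩
      exact ⟨⟨mem_centralizer_singleton_iff.2
        (commute_conj_of_mem_normalizer hn (mem_centralizer_singleton_iff.1 hv)).eq,
        by rwa [orderOf_conj']⟩, by rw [ne_eq, conj_eq_one_iff]; exact h1⟩
    · rintro v ⟨⟨hv, ho⟩, h1⟩ k - ⟨⟨hkv, -⟩, -⟩
      have hc := commute_conj_conj (g := k⁻¹) (show Commute (k * v * k⁻¹) x from mem_centralizer_singleton_iff.1 hkv)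
      rw [show k⁻¹ * (k * v * k⁻¹) * k⁻¹⁻¹ = v by group] at hc
      have h2 := commute_conj_conj (g := k) (hbb v h1 ho _ _ hxBad (hxBad.conj k⁻¹)
        (mem_centralizer_singleton_iff.1 hv) hc)
      rw [show k * (k⁻¹ * x * k⁻¹⁻¹) * k⁻¹ = x by group] at h2
      rw [mem_normalizer_zpowers_iff, ← zpowers_eq_of_commute h hx (orderOf_conj' k x) rfl h2]
      exact mem_zpowers _
  have hXcard : Nat.card (oddSet H) = Nat.card X + 1 := by
    have hXeq : X = oddSet H \ {1} := rfl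
    rw [Nat.card_coe_set_eq, Nat.card_coe_set_eq, hXeq,
      Set.ncard_sdiff_singleton_add_one (show (1 : G) ∈ oddSet H from ⟨one_mem H, by simp⟩)]
  have hOdd : Nat.card (oddSet (⊤ : Subgroup G)) = 1 + Nat.card B + Nat.card R := by
    have hU : oddSet (⊤ : Subgroup G) = ({1} ∪ B) ∪ R := by
      ext v
      constructor
      · rintro ⟨-, ho⟩
        rcases eq_or_ne v 1 with rfl | h1
        · exact Or.inl (Or.inl rfl)
        by_cases hb : ∃ b, Bad b ∧ Commute v b
        · exact Or.inl (Or.inr ⟨h1, ho, hb⟩)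
        · exact Or.inr ⟨h1, ho, fun b hb' hc => hb ⟨b, hb', hc⟩⟩
      · rintro ((rfl | ⟨-, ho, -⟩) | ⟨-, ho, -⟩)
        · exact ⟨mem_top _, by simp⟩
        · exact ⟨mem_top _, ho⟩
        · exact ⟨mem_top _, ho⟩
    rw [Nat.card_coe_set_eq, Nat.card_coe_set_eq, Nat.card_coe_set_eq, hU, Set.ncard_union_eq,
      Set.ncard_union_eq, Set.ncard_singleton]
    · rw [Set.disjoint_singleton_left]; exact fun e => e.1 rfl
    · rw [Set.disjoint_left]
      rintro v (rfl | ⟨-, -, b, hb, hc⟩) hR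
      · exact hR.1 rfl
      · exact hR.2.2 b hb hc
  -- arithmetic
  obtain ⟨m, hm⟩ := card_subgroup_dvd_card M
  have hm2 : 2 ≤ m := by
    by_contra hlt
    have hMtop : M = ⊤ := eq_top_of_card_eq _ (by
      have : m = 1 := by
        rcases Nat.eq_zero_or_pos m with rfl | hp
        · exact absurd hm (by rw [mul_zero]; exact Nat.card_pos.ne')
        · omega
      rw [hm, this, mul_one])
    have hHn : H.Normal := ⟨fun v hv g => mem_centralizer_singleton_iff.2
      (commute_conj_of_mem_normalizer (show g ∈ M from hMtop ▸ mem_top g) (mem_centralizer_singleton_iff.1 hv)).eq⟩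
    refine hcH ?_
    have hle : commutator G ≤ H := by
      rw [_root_.commutator_def, commutator_le]
      intro a _ b _
      exact mem_centralizer_singleton_iff.2 (commute_commutator (show a ∈ M from hMtop ▸ mem_top a)
        (show b ∈ M from hMtop ▸ mem_top b)).eq
    exact hle (hperf.symm ▸ mem_top D.c)
  have hH24 : 24 ≤ Nat.card H := by
    have h1 : 8 ∣ Nat.card H := hT8 ▸ card_dvd_of_le inf_le_right
    have h2 : orderOf x ∣ Nat.card H := H.orderOf_dvd_natCard (mem_centralizer_singleton_iff.2 rfl)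
    have h3 : 8 * orderOf x ∣ Nat.card H :=
      Nat.Coprime.mul_dvd_of_dvd_of_dvd ((Nat.coprime_two_left.2 hxodd).pow_left 3) h1 h2
    have := Nat.le_of_dvd Nat.card_pos h3
    have := hx.two_le
    omega
  rw [hM2] at hm hB
  have hBval : Nat.card B + m = m * Nat.card (oddSet H) := by
    have h' : Nat.card B = m * Nat.card X := by
      rw [hm, mul_assoc, mul_comm (Nat.card B)] at hB
      exact Nat.eq_of_mul_eq_mul_left (by omega) hB
    rw [h', hXcard]; ring
  have hRlo : 2 * Nat.card G < 16 * Nat.card R := by nlinarith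
  have hRhi : 48 * Nat.card R ≤ 7 * Nat.card G := by nlinarith
  -- the free elements
  have hRcl : ∀ v ∈ R, ∃ y, FreeClosed y ∧ Commute v y := by
    rintro v ⟨h1, ho, hnb⟩
    obtain ⟨e, hwp, hw2⟩ := hprimePow v h1 ho
    have hwf : Free (v ^ e) := hfree _ hwp hw2 fun hb => hnb _ hb (Commute.self_pow v e)
    refine ⟨v ^ e, ⟨hwp, hw2, hwf, fun w hwp' hw2' hwc => hfree w hwp' hw2' fun hb => ?_⟩,
      Commute.self_pow v e⟩
    obtain ⟨O, -, hOodd, hOmem, -⟩ := FreeClosed.centralizer_spec D hwf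
    have hvO : v ∈ O := (hOmem v).2 ⟨ho, Commute.self_pow v e⟩
    have hwO : w ∈ O := (hOmem w).2 ⟨odd_of_prime_ne_two hwp' hw2', hwc⟩
    have hcO : v * w * v⁻¹ ∈ O := mul_mem (mul_mem hvO hwO) (inv_mem hvO)
    have hzz := zpowers_eq_of_commute h hwp' (orderOf_conj' v w) rfl
      (commute_prime_of_odd h hOodd hcO hwO (by rw [orderOf_conj']; exact hwp') hwp')
    obtain ⟨g, hg⟩ := hBadU w hb
    have hgC := hH _ hg (by rw [orderOf_conj']; exact hwp')
    -- `g v g⁻¹` normalises `⟨x⟩`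
    obtain ⟨g', hg'⟩ : ∃ g' : G, g' = g * v * g⁻¹ := ⟨_, rfl⟩
    have hg'n : g' ∈ normalizer (zpowers (g * w * g⁻¹) : Set G) := by
      obtain ⟨a, ha⟩ := mem_zpowers_iff.1 (hzz ▸ mem_zpowers (v * w * v⁻¹) : v * w * v⁻¹ ∈ zpowers w)
      rw [mem_normalizer_zpowers_iff]
      refine ⟨a, ?_⟩
      show (g * w * g⁻¹) ^ a = g' * (g * w * g⁻¹) * g'⁻¹
      rw [conj_zpow, ha, hg']; group
    obtain ⟨-, hcinv', -, -, hMW, -⟩ := D.bad_spec h hperf hd hdc hg (by rw [orderOf_conj']; exact hwp') (hdU _ hg)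
    refine hnb w hb ?_
    have hg'c : Commute g' (g * w * g⁻¹) := by
      rcases hMW g' hg'n with e' | e'
      · exact mem_centralizer_singleton_iff.1 e'
      refine commute_of_sq_odd (commute_sq_of_pm (Or.inr ?_)) (by rw [hg', orderOf_conj']; exact ho)
      generalize g * w * g⁻¹ = y at e' hcinv'
      calc g' * y * g'⁻¹ = D.c * (D.c⁻¹ * g' * y * (D.c⁻¹ * g')⁻¹) * D.c⁻¹ := by group
        _ = D.c * y * D.c⁻¹ := by rw [conj_eq_iff_commute.2 (mem_centralizer_singleton_iff.1 e')]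
        _ = _ := hcinv'
    have h' := commute_conj_conj (g := g⁻¹) hg'c
    rwa [hg', show g⁻¹ * (g * v * g⁻¹) * g⁻¹⁻¹ = v by group,
      show g⁻¹ * (g * w * g⁻¹) * g⁻¹⁻¹ = w by group] at h'
  have hclass : ∀ y, FreeClosed y → ∃ Y : Set G, Y ⊆ R ∧
      (∀ g v, v ≠ 1 → Odd (orderOf v) → Commute v y → g⁻¹ * v * g⁻¹⁻¹ ∈ Y) ∧
      (∀ v ∈ Y, ∃ g : G, Commute (g * v * g⁻¹) y) ∧
      ((Nat.card G ≤ 6 * Nat.card Y) ∨ (Nat.card G ≤ 10 * Nat.card Y ∧ 8 * Nat.card Y < Nat.card G)) :=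
    fun y hy => D.class_count h hperf hn hy
  have hsub : ∀ {Y : Set G}, Y ⊆ R → Nat.card Y ≤ Nat.card R := fun {Y} hY =>
    Nat.card_le_card_of_injective (Set.inclusion hY) (Set.inclusion_injective hY)
  obtain ⟨v1, hv1⟩ : ∃ v, v ∈ R := by
    by_contra hno
    push Not at hno
    have : Nat.card R = 0 := Nat.card_eq_zero.2 (Or.inl ⟨fun v => hno v v.2⟩)
    omega
  obtain ⟨y1, hy1, hc1⟩ := hRcl v1 hv1
  obtain ⟨Y1, hY1R, hY1mem, hY1c, hY1card⟩ := hclass y1 hy1
  have hY1le := hsub hY1R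
  obtain ⟨v2, hv2, hv2Y⟩ : ∃ v ∈ R, v ∉ Y1 := by
    by_contra hno
    push Not at hno
    rw [Set.Subset.antisymm hY1R hno] at hY1card
    omega
  obtain ⟨y2, hy2, hc2'⟩ := hRcl v2 hv2
  obtain ⟨Y2, hY2R, -, hY2c, hY2card⟩ := hclass y2 hy2
  have hdisj : Disjoint Y1 Y2 := by
    rw [Set.disjoint_left]
    intro v hv hv'
    obtain ⟨g1, hg1⟩ := hY1c v hv
    obtain ⟨g2, hg2⟩ := hY2c v hv'
    obtain ⟨e, hwp, hw2⟩ := hprimePow v (hY1R hv).1 (hY1R hv).2.1
    set t := g1 * g2⁻¹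
    have h1 : Commute ((g1 * v * g1⁻¹) ^ e) (t * y2 * t⁻¹) := by
      have := commute_conj_conj (g := t) hg2
      rw [show t * (g2 * v * g2⁻¹) * t⁻¹ = g1 * v * g1⁻¹ by simp only [t]; group] at this
      exact this.pow_left e
    have hp1 : (orderOf ((g1 * v * g1⁻¹) ^ e)).Prime := by rw [conj_pow, orderOf_conj']; exact hwp
    have hp2 : orderOf ((g1 * v * g1⁻¹) ^ e) ≠ 2 := by rw [conj_pow, orderOf_conj']; exact hw2
    have hF := hy1.of_commute h D hp1 hp2 (hg1.pow_left e)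
    have hC1 := hy1.centralizer_eq_of_commute h hperf D hp1 hp2 (hg1.pow_left e)
    have hC2 := hF.centralizer_eq_of_commute h hperf D (w := t * y2 * t⁻¹)
      (by rw [orderOf_conj']; exact hy2.prime) (by rw [orderOf_conj']; exact hy2.ne_two) h1.symm
    have hmem : t * v2 * t⁻¹ ∈ centralizer ({y1} : Set G) :=
      hC1 ▸ hC2 ▸ mem_centralizer_singleton_iff.2 (commute_conj_conj hc2').eq
    refine hv2Y ?_
    have := hY1mem t (t * v2 * t⁻¹) (by rw [ne_eq, conj_eq_one_iff]; exact hv2.1)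
      (by rw [orderOf_conj']; exact hv2.2.1) (mem_centralizer_singleton_iff.1 hmem)
    rwa [show t⁻¹ * (t * v2 * t⁻¹) * t⁻¹⁻¹ = v2 by group] at this
  have hsum : Nat.card Y1 + Nat.card Y2 ≤ Nat.card R := by
    refine le_trans (le_of_eq ?_) (hsub (Set.union_subset hY1R hY2R))
    rw [Nat.card_coe_set_eq, Nat.card_coe_set_eq, Nat.card_coe_set_eq, Set.ncard_union_eq hdisj]
  have : 0 < Nat.card G := Nat.card_pos
  omega

include D in
/-- No element of odd prime order centralises a quaternion group of order eight. -/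
theorem not_bad (h : FPFGroup G) (hperf : commutator G = ⊤) (hIH : SmallPerfect G) (x : G) : ¬ Bad x := by
  rintro ⟨hp, h2, a, b, hab, ha, hb⟩
  obtain ⟨g, d, hd, hdc, hga, hgb⟩ := D.exists_normalize hperf hab
  have hi : Commute (g * x * g⁻¹) D.i := hga ▸ (commute_conj_conj ha).symm
  have hd' : Commute d (g * x * g⁻¹) := hgb ▸ commute_conj_conj hb
  exact D.false_of_bad h hperf hIH hd hdc
    (D.mem_U.2 ⟨by rw [orderOf_conj']; exact odd_of_prime_ne_two hp h2, hi⟩)
    (by rw [orderOf_conj']; exact hp) hd'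

end QData

end Cfsg.Agent.Lib.ZassSL25
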