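import Mathlib
import Cfsg.Agent.Lib.ZassSL25.NoBad

/-!
Without elements centralising quaternion groups all centralizers of noncentral elements are cyclic.
-/

set_option autoImplicit false

namespace Cfsg.Agent.Lib.ZassSL25

open Subgroup

universe u

variable {G : Type u} [Group G] [Finite G]

/-- All elements of `K` commute. -/
def Comm (K : Subgroup G) : Prop := ∀ a ∈ K, ∀ b ∈ K, Commute a b

omit [Finite G] in
theorem Comm.isMulCommutative {K : Subgroup G} (hK : Comm K) : IsMulCommutative K :=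
  ⟨⟨fun a b => Subtype.ext (hK a a.2 b b.2)⟩⟩

omit [Finite G] in
theorem Comm.conj {x : G} (hK : Comm (centralizer ({x} : Set G))) (g : G) :
    Comm (centralizer ({g * x * g⁻¹} : Set G)) := by
  intro a ha b hb
  have key : ∀ v ∈ centralizer ({g * x * g⁻¹} : Set G), g⁻¹ * v * g⁻¹⁻¹ ∈ centralizer ({x} : Set G) := by
    intro v hv
    have := commute_conj_conj (g := g⁻¹) (show Commute v (g * x * g⁻¹) from mem_centralizer_singleton_iff.1 hv)
    rw [show g⁻¹ * (g * x * g⁻¹) * g⁻¹⁻¹ = x by group] at this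
    exact mem_centralizer_singleton_iff.2 this.eq
  have := commute_conj_conj (g := g) (hK _ (key a ha) _ (key b hb))
  rwa [show g * (g⁻¹ * a * g⁻¹⁻¹) * g⁻¹ = a by group, show g * (g⁻¹ * b * g⁻¹⁻¹) * g⁻¹ = b by group] at this

omit [Finite G] in
theorem Comm.of_pow {g : G} {m : ℕ} (hK : Comm (centralizer ({g ^ m} : Set G))) :
    Comm (centralizer ({g} : Set G)) := fun a ha b hb =>
  hK a (mem_centralizer_singleton_iff.2 ((show Commute a g from mem_centralizer_singleton_iff.1 ha).pow_right m).eq)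
    b (mem_centralizer_singleton_iff.2 ((show Commute b g from mem_centralizer_singleton_iff.1 hb).pow_right m).eq)

namespace QData

variable (D : QData G)

theorem inverts_U (hnb : ∀ x : G, ¬ Bad x) {d : G} (hd : d ∈ (D.S : Subgroup G))
    (hdc : d ∉ zpowers D.c) {u : G} (hu : u ∈ D.U) : d * u * d⁻¹ = u⁻¹ := by
  have hdN := D.S_le_normalizer_U hd
  let φ : D.U →* D.U :=
    { toFun := fun v => ⟨d * v * d⁻¹, (mem_normalizer_iff.1 hdN v).1 v.2⟩
      map_one' := Subtype.ext (by show d * (1 : G) * d⁻¹ = 1; group)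
      map_mul' := fun v w => Subtype.ext (by
        show d * ((v : G) * w) * d⁻¹ = d * v * d⁻¹ * (d * w * d⁻¹)
        group) }
  have h1 : MonoidHom.FixedPointFree φ := by
    intro v hv
    have hvd : Commute d (v : G) := conj_eq_iff_commute.1 (congrArg Subtype.val hv)
    by_contra hv1
    obtain ⟨m, hp, h2⟩ := exists_prime_pow (v := (v : G)) (fun e => hv1 (Subtype.ext e)) (D.mem_U.1 v.2).1
    exact hnb _ ⟨hp, h2, D.i, d, D.qpair_i hd hdc, ((D.mem_U.1 v.2).2.pow_left m).symm, hvd.pow_right m⟩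
  have h2 : (⇑φ)^[2] = _root_.id := funext fun v => Subtype.ext (by
    show d * (d * v * d⁻¹) * d⁻¹ = v
    rw [show d * (d * (v : G) * d⁻¹) * d⁻¹ = d ^ 2 * v * (d ^ 2)⁻¹ by rw [pow_two]; group,
      (D.outside d hd hdc).1, ← D.z_comm, mul_inv_cancel_right])
  exact congrArg Subtype.val (congrFun (h1.coe_eq_inv_of_sq_eq_one h2) ⟨u, hu⟩)

theorem comm_centralizer_i (hnb : ∀ x : G, ¬ Bad x) : Comm (centralizer ({D.i} : Set G)) := by
  obtain ⟨d, hd, hdc⟩ := D.exists_outside
  have hcd : D.c * d ∉ zpowers D.c := fun e => hdc ((Subgroup.mul_mem_cancel_left _ (mem_zpowers _)).1 e)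
  have hU : ∀ u ∈ D.U, ∀ w ∈ D.U, Commute u w := fun u hu w hw => by
    have := D.inverts_U hnb hd hdc (mul_mem hu hw)
    rw [show d * (u * w) * d⁻¹ = d * u * d⁻¹ * (d * w * d⁻¹) by group, D.inverts_U hnb hd hdc hu,
      D.inverts_U hnb hd hdc hw, mul_inv_rev] at this
    exact (Commute.inv_inv_iff (a := u) (b := w)).1 this
  have hc : ∀ u ∈ D.U, Commute D.c u := fun u hu => by
    have h1 := D.inverts_U hnb (mul_mem D.c_mem hd) hcd hu
    rw [show D.c * d * u * (D.c * d)⁻¹ = D.c * (d * u * d⁻¹) * D.c⁻¹ by group, D.inverts_U hnb hd hdc hu,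
      conj_eq_iff_commute] at h1
    exact inv_inv u ▸ h1.inv_right
  intro a ha b hb
  obtain ⟨u, hu, t, ht, rfl⟩ := D.centralizer_i_spec.2.2.2 a ha
  obtain ⟨w, hw, s, hs, rfl⟩ := D.centralizer_i_spec.2.2.2 b hb
  obtain ⟨j, rfl⟩ := mem_zpowers_iff.1 ht
  obtain ⟨k, rfl⟩ := mem_zpowers_iff.1 hs
  exact ((hU u hu w hw).mul_right ((hc u hu).symm.zpow_right k)).mul_left
    (((hc w hw).zpow_left j).mul_right ((Commute.refl D.c).zpow_zpow j k))

include D in
theorem comm_four (hperf : commutator G = ⊤) (hnb : ∀ x : G, ¬ Bad x) {a : G} (ha : orderOf a = 4) :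
    Comm (centralizer ({a} : Set G)) := by
  obtain ⟨g, hg⟩ := isConj_iff.1 (D.isConj_four hperf ha).symm
  exact hg ▸ (D.comm_centralizer_i hnb).conj g

/-- The centralizer of an element of prime order of `U` is that of `i`. -/
theorem centralizer_U (h : FPFGroup G) (hperf : commutator G = ⊤) (hnb : ∀ x : G, ¬ Bad x)
    {x : G} (hxU : x ∈ D.U) (hx : (orderOf x).Prime) :
    centralizer ({x} : Set G) ≤ centralizer ({D.i} : Set G) := by
  obtain ⟨d, hd, hdc⟩ := D.exists_outside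
  have hcyc : ∀ r : G, (orderOf r).Prime → orderOf r ≠ 2 → ∀ T : Subgroup G,
      T ≤ centralizer ({r} : Set G) → IsPGroup 2 T → IsCyclic T := by
    intro r hr hr2 T hT hTp
    rcases D.twoGroup_cases hTp with hc | ⟨a, ha, b, hb, hab⟩
    · exact hc
    · exact absurd ⟨hr, hr2, a, b, hab, mem_centralizer_singleton_iff.1 (hT ha),
        mem_centralizer_singleton_iff.1 (hT hb)⟩ (hnb r)
  have hx2 := D.prime_ne_two_of_mem_U hxU hx
  obtain ⟨O, T, hO, hT, hON, hOodd, hOmem, hTp, hTc, hcard, hdec⟩ :=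
    exists_odd_complement _ (hcyc x hx hx2)
  set K := centralizer ({x} : Set G)
  have hiK : D.i ∈ K := mem_centralizer_singleton_iff.2 (D.mem_U.1 hxU).2.symm.eq
  have hdx : d * x * d⁻¹ = x⁻¹ := D.inverts_U hnb hd hdc hxU
  have hdM : d ∈ normalizer (zpowers x : Set G) :=
    mem_normalizer_zpowers_iff.2 (by rw [hdx]; exact inv_mem (mem_zpowers x))
  have hrn : ∀ r ∈ O, (orderOf r).Prime → ∀ g ∈ normalizer (zpowers x : Set G),
      g ∈ normalizer (zpowers r : Set G) := by
    intro r hr hrp g hg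
    have hro : Odd (orderOf r) := Odd.of_dvd_nat hOodd (O.orderOf_dvd_natCard hr)
    have hgr : g * r * g⁻¹ ∈ O := hOmem _ (mem_centralizer_singleton_iff.2
      (commute_conj_of_mem_normalizer hg (mem_centralizer_singleton_iff.1 (hO hr))).eq)
      (by rwa [orderOf_conj'])
    rw [mem_normalizer_zpowers_iff, ← zpowers_eq_of_commute h hrp (orderOf_conj' g r) rfl
      (commute_prime_of_odd h hOodd hgr hr (by rwa [orderOf_conj']) hrp)]
    exact mem_zpowers _
  have hprime : ∀ r ∈ O, (orderOf r).Prime → Commute D.i r := by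
    intro r hr hrp
    have hro : Odd (orderOf r) := Odd.of_dvd_nat hOodd (O.orderOf_dvd_natCard hr)
    have hr2 : orderOf r ≠ 2 := fun e => by rw [e] at hro; exact absurd hro (by decide)
    by_cases hfree : Free r
    · exfalso
      have hid : D.i * d ∉ zpowers D.c := fun e => hdc ((Subgroup.mul_mem_cancel_left _ D.i_mem).1 e)
      have hid4 := D.orderOf_outside (mul_mem (D.zpowers_c_le D.i_mem) hd) hid
      refine hfree _ hid4 (conj_eq_iff_commute.1 ?_)
      have e1 := inverts_of_four D hrp D.ord_i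
        (hrn r hr hrp D.i (centralizer_le_normalizer_zpowers x hiK)) (hfree _ D.ord_i)
      have e2 := inverts_of_four D hrp (D.orderOf_outside hd hdc) (hrn r hr hrp d hdM)
        (hfree _ (D.orderOf_outside hd hdc))
      rw [show D.i * d * r * (D.i * d)⁻¹ = D.i * (d * r * d⁻¹) * D.i⁻¹ by group, e2,
        show D.i * r⁻¹ * D.i⁻¹ = (D.i * r * D.i⁻¹)⁻¹ by group, e1, inv_inv]
    simp only [Free, not_forall, not_not] at hfree
    obtain ⟨a, ha, har⟩ := hfree
    obtain ⟨g, hg⟩ := isConj_iff.1 (D.isConj_four hperf ha)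
    have hgr : g * r * g⁻¹ ∈ D.U := D.mem_U.2 ⟨by rwa [orderOf_conj'], hg ▸ (commute_conj_conj har).symm⟩
    -- a conjugate of `x` commuting with `r` and `a`
    set x' := g⁻¹ * x * g⁻¹⁻¹
    have hx'r : Commute x' r := by
      have := commute_conj_conj (g := g⁻¹)
        (commute_prime_of_odd h D.odd_U hxU hgr hx (by rwa [orderOf_conj']))
      rwa [show g⁻¹ * (g * r * g⁻¹) * g⁻¹⁻¹ = r by group] at this
    have hx'a : Commute a x' := by
      have := commute_conj_conj (g := g⁻¹) (D.mem_U.1 hxU).2.symm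
      rwa [← hg, show g⁻¹ * (g * a * g⁻¹) * g⁻¹⁻¹ = a by group] at this
    obtain ⟨Or', -, -, -, -, hOr, hOrmem, -, -, -, -⟩ := exists_odd_complement _ (hcyc r hrp hr2)
    have hxr : Commute x r := (show Commute r x from mem_centralizer_singleton_iff.1 (hO hr)).symm
    have hxodd : Odd (orderOf x) := (D.mem_U.1 hxU).1
    have hcxx : Commute x x' := commute_prime_of_odd h hOr
      (hOrmem x (mem_centralizer_singleton_iff.2 hxr.eq) hxodd)
      (hOrmem x' (mem_centralizer_singleton_iff.2 hx'r.eq) (by rwa [orderOf_conj']))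
      hx (by rw [orderOf_conj']; exact hx)
    have hz := zpowers_eq_of_commute h hx rfl (orderOf_conj' g⁻¹ x) hcxx
    obtain ⟨m, hm⟩ := mem_zpowers_iff.1 (hz ▸ mem_zpowers x : x ∈ zpowers x')
    have haK : a ∈ K := mem_centralizer_singleton_iff.2 (hm ▸ hx'a.zpow_right m).eq
    have hmax : ∀ P : Subgroup G, P ≤ K → IsPGroup 2 P → Nat.card P ≤ Nat.card T := by
      intro P hP hPp
      obtain ⟨k, hk⟩ := IsPGroup.iff_card.1 hPp
      have hd' := card_dvd_of_le hP
      rw [hcard, hk] at hd'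
      exact Nat.le_of_dvd Nat.card_pos
        (hk ▸ ((Nat.coprime_two_left.2 hOodd).pow_left k).dvd_of_dvd_mul_left hd')
    have hp4 : ∀ {v : G}, orderOf v = 4 → IsPGroup 2 (zpowers v) := fun {v} hv =>
      IsPGroup.of_card (n := 2) (by rw [Nat.card_zpowers, hv]; norm_num)
    obtain ⟨k1, hk1, hk1T⟩ := exists_conj_in hT hTp hmax (zpowers_le.2 haK) (hp4 ha)
    obtain ⟨k2, hk2, hk2T⟩ := exists_conj_in hT hTp hmax (zpowers_le.2 hiK) (hp4 D.ord_i)
    have hcT : Commute (k1 * a * k1⁻¹) (k2 * D.i * k2⁻¹) := congrArg Subtype.val (mul_comm'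
      (⟨_, hk1T a (mem_zpowers a)⟩ : T) ⟨_, hk2T _ (mem_zpowers _)⟩)
    have hkM : k2⁻¹ * k1 ∈ normalizer (zpowers r : Set G) :=
      hrn r hr hrp _ (centralizer_le_normalizer_zpowers x (mul_mem (inv_mem hk2) hk1))
    have h1 : Commute (k2⁻¹ * k1 * a * (k2⁻¹ * k1)⁻¹) r := commute_conj_of_mem_normalizer hkM har
    rcases D.eq_of_commute_four ((orderOf_conj' k1 a).trans ha) ((orderOf_conj' k2 D.i).trans D.ord_i) hcT with e | e
    · rwa [show k2⁻¹ * k1 * a * (k2⁻¹ * k1)⁻¹ = k2⁻¹ * (k1 * a * k1⁻¹) * k2 by group, e,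
        show k2⁻¹ * (k2 * D.i * k2⁻¹) * k2 = D.i by group] at h1
    · rw [show k2⁻¹ * k1 * a * (k2⁻¹ * k1)⁻¹ = k2⁻¹ * (k1 * a * k1⁻¹) * k2 by group, e,
        show k2⁻¹ * (k2 * D.i * k2⁻¹)⁻¹ * k2 = D.i⁻¹ by group] at h1
      exact inv_inv D.i ▸ h1.inv_left
  have hOi : O ≤ centralizer ({D.i} : Set G) :=
    le_centralizer_of_prime_fixed h hOodd (hON hiK)
      (by rw [D.ord_i]; exact (Nat.coprime_two_left.2 hOodd).pow_left 2) hprime
  obtain ⟨o0, ho0, t0, ht0, he0⟩ := hdec D.i hiK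
  have hiT : D.i ∈ T := by
    have hc : Commute o0 t0 := by
      have h1 : Commute o0 (o0⁻¹ * D.i) :=
        ((Commute.refl o0).inv_right).mul_right (mem_centralizer_singleton_iff.1 (hOi ho0))
      rwa [← he0, inv_mul_cancel_left] at h1
    have h4 : o0 ^ 4 * t0 ^ 4 = 1 := by
      rw [← hc.mul_pow, he0, ← D.ord_i, pow_orderOf_eq_one]
    obtain ⟨k, hk⟩ := orderOf_isPGroup hTp (pow_mem ht0 4)
    have h1 : o0 ^ 4 = 1 := eq_one_of_odd_two
      (Odd.of_dvd_nat hOodd (O.orderOf_dvd_natCard (pow_mem ho0 4)))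
      ⟨k, by rw [mul_eq_one_iff_eq_inv.1 h4, orderOf_inv, hk]⟩
    have ho1 : o0 = 1 := mem_bot.1 (mem_of_coprime_pows ⊥ (a := 4) (b := orderOf o0)
      ((Nat.coprime_two_left.2 (Odd.of_dvd_nat hOodd (O.orderOf_dvd_natCard ho0))).pow_left 2)
      (mem_bot.2 h1) (mem_bot.2 (pow_orderOf_eq_one _)))
    rw [← he0, ho1, one_mul]
    exact ht0
  intro g hg
  obtain ⟨o, ho, t, ht, rfl⟩ := hdec g hg
  exact mul_mem (hOi ho) (mem_centralizer_singleton_iff.2
    (congrArg Subtype.val (mul_comm' (⟨t, ht⟩ : T) ⟨D.i, hiT⟩)))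

include D in
theorem exists_four_conj_mem_U (hperf : commutator G = ⊤) {y : G} (ho : Odd (orderOf y))
    (hy : ¬ Free y) : ∃ g : G, g * y * g⁻¹ ∈ D.U := by
  simp only [Free, not_forall, not_not] at hy
  obtain ⟨a, ha, hay⟩ := hy
  exact D.exists_conj_mem_U hperf ho ha hay

include D in
theorem freeClosed (h : FPFGroup G) (hperf : commutator G = ⊤) (hnb : ∀ x : G, ¬ Bad x) {y : G}
    (hy : (orderOf y).Prime) (hy2 : orderOf y ≠ 2) (hf : Free y) : FreeClosed y := by
  refine ⟨hy, hy2, hf, fun w hw hw2 hwy => ?_⟩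
  by_contra hwf
  obtain ⟨g, hg⟩ := D.exists_four_conj_mem_U hperf (odd_of_prime_ne_two hw hw2) hwf
  have hi : Commute (g * y * g⁻¹) D.i := mem_centralizer_singleton_iff.1
    (D.centralizer_U h hperf hnb hg (by rw [orderOf_conj']; exact hw)
      (mem_centralizer_singleton_iff.2 (commute_conj_conj hwy.symm).eq))
  have h1 := commute_conj_conj (g := g⁻¹) hi.symm
  rw [show g⁻¹ * (g * y * g⁻¹) * g⁻¹⁻¹ = y by group] at h1
  exact hf _ ((orderOf_conj' g⁻¹ D.i).trans D.ord_i) h1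

include D in
theorem comm_centralizer (h : FPFGroup G) (hperf : commutator G = ⊤) (hnb : ∀ x : G, ¬ Bad x) {g : G}
    (hg1 : g ≠ 1) (hgz : g ≠ D.z) : Comm (centralizer ({g} : Set G)) := by
  by_cases h4 : 4 ∣ orderOf g
  · exact (D.comm_four hperf hnb (orderOf_pow_orderOf_div (orderOf_pos g).ne' h4)).of_pow
  have hg2 : g ^ 2 ≠ 1 := fun e => by rcases D.sq_eq_one_mem e with e' | e' <;> contradiction
  have ho : Odd (orderOf (g ^ 2)) := by
    rw [orderOf_pow' _ (by norm_num), ← Nat.not_even_iff_odd]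
    rintro ⟨a, ha⟩
    rcases (Nat.dvd_prime Nat.prime_two).1 (Nat.gcd_dvd_right (orderOf g) 2) with e | e <;> rw [e] at ha
    · have := Nat.gcd_dvd_left (orderOf g) 2
      rw [Nat.div_one] at ha
      have : 2 ∣ Nat.gcd (orderOf g) 2 := Nat.dvd_gcd ⟨a, by omega⟩ dvd_rfl
      rw [e] at this
      norm_num at this
    · have := Nat.gcd_dvd_left (orderOf g) 2
      rw [e] at this
      exact h4 ⟨a, by omega⟩
  obtain ⟨m, hp, h2⟩ := exists_prime_pow hg2 ho
  rw [← pow_mul] at hp h2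
  set y := g ^ (2 * m)
  have hyodd := odd_of_prime_ne_two hp h2
  refine Comm.of_pow (m := 2 * m) ?_
  show Comm (centralizer ({y} : Set G))
  by_cases hf : Free y
  · obtain ⟨A, hAc, -, -, -, hdec, -, -⟩ := (D.freeClosed h hperf hnb hp h2 hf).spec h hperf D
    intro a ha b hb
    have hA : ∀ v ∈ A, ∀ w ∈ A, Commute v w := fun v hv w hw =>
      congrArg Subtype.val (mul_comm' (⟨v, hv⟩ : A) ⟨w, hw⟩)
    have hz : ∀ v, Commute v D.z := fun v => D.z_comm v
    obtain ⟨o, ho, e⟩ := hdec a ha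
    obtain ⟨o', ho', e'⟩ := hdec b hb
    rcases e with rfl | rfl <;> rcases e' with rfl | rfl
    · exact hA _ ho _ ho'
    · exact (hA _ ho _ ho').mul_right (hz _)
    · exact (hA _ ho _ ho').mul_left (hz _).symm
    · exact ((hA _ ho _ ho').mul_right (hz _)).mul_left ((hz _).symm.mul_right (Commute.refl _))
  · obtain ⟨k, hk⟩ := D.exists_four_conj_mem_U hperf hyodd hf
    have hle := D.centralizer_U h hperf hnb hk (by rw [orderOf_conj']; exact hp)
    have hcomm : Comm (centralizer ({k * y * k⁻¹} : Set G)) := fun a ha b hb =>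
      D.comm_centralizer_i hnb a (hle ha) b (hle hb)
    have := hcomm.conj k⁻¹
    rwa [show k⁻¹ * (k * y * k⁻¹) * k⁻¹⁻¹ = y by group] at this

end QData

end Cfsg.Agent.Lib.ZassSL25
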