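import Mathlib
import Cfsg.Agent.Lib.ZassSL25.Lift
import Cfsg.Agent.Lib.Char.Ito

/-!
The restriction of a fixed-point-free character to a cyclic subgroup.
-/

set_option autoImplicit false

namespace Cfsg.Agent.Lib.ZassSL25

open scoped ComplexConjugate

universe u

variable {G : Type u} [Group G] [Finite G]

/-- Irreducible characters of commutative groups are linear. -/
theorem degree_one_of_comm [IsMulCommutative G] (μ : Cfsg.IrrCharacter G) : (μ : G → ℂ) 1 = 1 := by
  obtain ⟨m, τ, hτ, hτ'⟩ := μ.2
  rw [← hτ', Representation.char_one,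
    Representation.IsIrreducible.finrank_eq_one_of_isMulCommutative τ, Nat.cast_one]

/-- The norm of the restriction to a cyclic subgroup is at least the degree, and equality bounds the degree. -/
theorem cyclic_res {χ : G → ℂ} (hχ : IsFPFChar χ) {d : ℕ} (hd : χ 1 = d) (B : Subgroup G) [IsCyclic B]
    [Fintype B] :
    ∃ s : ℕ, ∑ v : B, χ v * conj (χ v) = (Nat.card B : ℂ) * s ∧ d ≤ s ∧
      (s ≤ d → d ≤ (Nat.card B).totient) := by
  classical
  have hψ := Char.isCharacter_restrict (Char.isCharacter_of_isIrr hχ.1) B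
  set ψ : B → ℂ := fun v => χ v
  choose n hn using fun μ : Cfsg.IrrCharacter B => Char.classInner_natCast hψ (Char.isCharacter_of_isIrr μ.2)
  have hψc := Char.isClassFunction_of_isCharacter hψ
  have hsq : Cfsg.classInner ψ ψ = ((∑ μ, n μ * n μ : ℕ) : ℂ) := by
    rw [Char.classInner_eq_sum hψc]
    push_cast
    exact Finset.sum_congr rfl fun μ _ => by rw [hn μ, map_natCast]
  have hdeg : d = ∑ μ, n μ := by
    have h := congrFun (Char.eq_sum_classInner_smul hψc) 1
    simp only [Finset.sum_apply, Pi.smul_apply, smul_eq_mul, hn, degree_one_of_comm, mul_one] at h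
    rw [show ψ 1 = (d : ℂ) from hd] at h
    exact_mod_cast h
  refine ⟨∑ μ, n μ * n μ, ?_, ?_, fun hle => ?_⟩
  · rw [← hsq, Cfsg.classInner, ← mul_assoc, mul_inv_cancel₀ (Char.card_ne_zero_complex B), one_mul]
  · rw [hdeg]
    exact Finset.sum_le_sum fun μ _ => Nat.le_mul_self _
  have h01 : ∀ μ, n μ ≤ 1 := by
    intro μ
    by_contra hlt
    have : ∑ ν, n ν < ∑ ν, n ν * n ν :=
      Finset.sum_lt_sum (fun ν _ => Nat.le_mul_self _) ⟨μ, Finset.mem_univ _, by nlinarith⟩
    omega
  choose l hl using fun μ : Cfsg.IrrCharacter B =>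
    Char.exists_hom_of_degree_one (Char.isCharacter_of_isIrr μ.2) (degree_one_of_comm μ)
  have hfaith : ∀ μ, n μ ≠ 0 → Function.Injective (l μ) := by
    intro μ hμ
    rw [← MonoidHom.ker_eq_bot_iff]
    by_contra hker
    set H := (l μ).ker
    have hres : ∀ φ : B → ℂ, Cfsg.IsCharacter B φ →
        ∃ a : ℕ, Cfsg.classInner (fun v : H => φ v) (fun _ => (1 : ℂ)) = a := fun φ hφ =>
      Char.classInner_natCast (Char.isCharacter_restrict hφ H) Char.isCharacter_one
    choose a ha using fun ν : Cfsg.IrrCharacter B => hres _ (Char.isCharacter_of_isIrr ν.2)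
    have hμ1 : a μ = 1 := by
      have hone : (fun v : H => (μ : B → ℂ) v) = fun _ => (1 : ℂ) := funext fun v => by
        rw [hl μ, show l μ (v : B) = 1 from v.2]; rfl
      have := ha μ
      rw [hone, Char.classInner_irr_self Char.isIrrCharacter_one] at this
      exact_mod_cast this.symm
    have h0 : Cfsg.classInner (fun v : H => ψ v) (fun _ => (1 : ℂ)) = 0 := by
      have hne : H.map B.subtype ≠ ⊥ := by
        rw [Ne, Subgroup.map_eq_bot_iff_of_injective _ B.subtype_injective]; exact hker
      haveI := Fintype.ofFinite (H.map B.subtype)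
      have hs := hχ.2 (H.map B.subtype) hne
      rw [Cfsg.classInner]
      simp only [map_one, mul_one]
      rw [show ∑ v : H, ψ (v : B) = ∑ v : H.map B.subtype, χ v from
        Fintype.sum_equiv (H.equivMapOfInjective _ B.subtype_injective).toEquiv _ _ fun v => rfl, hs, mul_zero]
    have hexp : (fun v : H => ψ v) =
        ∑ ν : Cfsg.IrrCharacter B, (n ν : ℂ) • fun v : H => (ν : B → ℂ) v := by
      funext v
      have := congrFun (Char.eq_sum_classInner_smul hψc) (v : B)
      simp only [Finset.sum_apply, Pi.smul_apply, smul_eq_mul, hn] at this ⊢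
      exact this
    rw [hexp, Char.classInner_sum_left] at h0
    simp only [Char.classInner_smul_left, ha] at h0
    have h0' : ∑ ν, n ν * a ν = 0 := by exact_mod_cast h0
    have := Finset.sum_eq_zero_iff.1 h0' μ (Finset.mem_univ _)
    rw [hμ1, mul_one] at this
    exact hμ this
  obtain ⟨c, hc⟩ := IsCyclic.exists_ofOrder_eq_natCard (α := B)
  calc d = ∑ μ, n μ := hdeg
    _ = ∑ μ ∈ Finset.univ.filter (fun μ => n μ ≠ 0), n μ := (Finset.sum_filter_ne_zero _).symm
    _ ≤ (Finset.univ.filter (fun μ => n μ ≠ 0)).card := by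
      rw [Finset.card_eq_sum_ones]
      exact Finset.sum_le_sum fun μ _ => h01 μ
    _ ≤ (primitiveRoots (Nat.card B) ℂ).card := by
      refine Finset.card_le_card_of_injOn (fun μ => (l μ c : ℂ)) (fun μ hμ => ?_) fun μ hμ ν hν e => ?_
      · simp only [Finset.coe_filter, Finset.mem_univ, true_and, Set.mem_setOf_eq] at hμ
        refine (mem_primitiveRoots Nat.card_pos).2 ?_
        rw [← hc, ← orderOf_injective (l μ) (hfaith μ hμ) c, ← orderOf_units]
        exact IsPrimitiveRoot.orderOf _
      · refine Subtype.ext (funext fun v => ?_)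
        rw [hl μ, hl ν]
        obtain ⟨j, rfl⟩ : v ∈ Subgroup.zpowers c := by
          have : Subgroup.zpowers c = ⊤ := Subgroup.eq_top_of_card_eq _ (by rw [Nat.card_zpowers, hc])
          exact this ▸ Subgroup.mem_top v
        simp only [map_zpow, Units.val_zpow_eq_zpow_val]
        dsimp only at e
        rw [e]
    _ = (Nat.card B).totient := Complex.card_primitiveRoots _

end Cfsg.Agent.Lib.ZassSL25
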