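import Mathlib
import Cfsg.Agent.Lib.ZassSL25.Eight
import Cfsg.Agent.Lib.ZassSL25.Count

/-!
The order of a perfect group with a fixed-point-free character is divisible by three.
-/

set_option autoImplicit false

namespace Cfsg.Agent.Lib.ZassSL25

open Subgroup

universe u

variable {G : Type u} [Group G] [Finite G]

namespace QData

variable (D : QData G)

include D in
theorem three_dvd (hperf : commutator G = ⊤) : 3 ∣ Nat.card G := by
  by_contra h3
  obtain ⟨d, hd, hdc⟩ := D.exists_outside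
  obtain ⟨y, hy1, hy2⟩ := D.exists_rotation hperf hd hdc
  set N := normalizer (zpowers D.i : Set G)
  have hN : ∀ t : G, t * D.i * t⁻¹ = D.i ∨ t * D.i * t⁻¹ = D.i⁻¹ → t ∈ N := by
    intro t e
    rw [mem_normalizer_zpowers_iff]
    rcases e with e | e <;> rw [e]
    · exact mem_zpowers _
    · exact inv_mem (mem_zpowers _)
  have hcyc : ∀ t : G, t ^ 3 ∈ N → t ∈ N := by
    intro t ht
    refine mem_of_coprime_pows N (a := 3) (b := Nat.card G)
      ((Nat.prime_three.coprime_iff_not_dvd).2 h3) ht ?_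
    rw [pow_card_eq_one']
    exact one_mem _
  have hd4 := D.orderOf_outside hd hdc
  have hdi : ¬ Commute d D.i := fun hc => by
    have := D.outside_conj_zpowers hd hdc D.i_mem
    rw [conj_eq_iff_commute.2 hc] at this
    exact ne_inv_of_four D.ord_i this.symm
  have hdN : ∀ t : G, t * D.i * t⁻¹ = d → t ∉ N := by
    intro t ht htN
    obtain ⟨a, ha⟩ := mem_zpowers_iff.1 (mem_normalizer_zpowers_iff.1 htN)
    rw [ht] at ha
    exact hdi (ha ▸ (Commute.refl D.i).zpow_left a)
  have hidc : D.i * d ∉ zpowers D.c := fun e => hdc ((Subgroup.mul_mem_cancel_left _ D.i_mem).1 e)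
  have hid4 := D.orderOf_outside (mul_mem (D.zpowers_c_le D.i_mem) hd) hidc
  have hdid : d * (D.i * d) * d⁻¹ = (D.i * d)⁻¹ := by
    rw [show d * (D.i * d) * d⁻¹ = d * D.i * d⁻¹ * d by group, D.outside_conj_zpowers hd hdc D.i_mem,
      D.inv_eq_mul_z hid4, D.inv_eq_mul_z D.ord_i, mul_assoc, mul_assoc, D.z_comm d]
  set e := y * d * y⁻¹
  have he4 : orderOf e = 4 := by rw [orderOf_conj', hd4]
  have hde : e * d * e⁻¹ = d⁻¹ := by
    calc y * d * y⁻¹ * d * (y * d * y⁻¹)⁻¹ = y * (d * D.i * d⁻¹) * y⁻¹ := by rw [← hy1]; group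
      _ = _ := by rw [D.outside_conj_zpowers hd hdc D.i_mem, ← hy1]; group
  -- `i` lies in the quaternion group generated by `d` and `e`
  have hcases : Commute e D.i ∨ Commute e (D.i * d) := by
    have hen : zpowers e ≤ normalizer (zpowers d : Set G) :=
      zpowers_le.2 (mem_normalizer_zpowers_iff.2 (hde ▸ inv_mem (mem_zpowers d)))
    have hi : D.i ∈ zpowers e ⊔ zpowers d := by
      refine (closure_le _).2 ?_ hy2
      rintro _ (rfl | rfl)
      · exact (le_sup_right : zpowers _ ≤ _) (mem_zpowers _)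
      · exact (le_sup_left : zpowers _ ≤ _) (mem_zpowers _)
    rw [Lib.Coprime.mem_sup_of_le_normalizer hen] at hi
    obtain ⟨a', ha', b', hb', hab⟩ := hi
    obtain ⟨a, rfl⟩ := mem_zpowers_iff.1 ha'
    obtain ⟨b, rfl⟩ := mem_zpowers_iff.1 hb'
    have hsq : ∀ {v : G}, orderOf v = 4 → ∀ q : ℤ, v ^ (2 * q) = D.z ^ q := fun hv q => by
      rw [zpow_mul, zpow_two, ← pow_two, D.sq_eq_z_of_orderOf_four hv]
    have hz : ∀ (q : ℤ) (v : G), Commute (D.z ^ q) v := fun q v =>
      (show Commute D.z v from (D.z_comm v).symm).zpow_left q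
    rcases Int.even_or_odd a with ⟨q, hq⟩ | ⟨q, hq⟩
    · exfalso
      rw [hq, ← two_mul, hsq he4] at hab
      refine hdi ?_
      rw [← hab]
      exact ((hz q d).symm).mul_right ((Commute.refl d).zpow_right b)
    rcases Int.even_or_odd b with ⟨r, hr⟩ | ⟨r, hr⟩
    · refine Or.inl ?_
      rw [← hab]
      refine ((Commute.refl e).zpow_right a).mul_right ?_
      rw [hr, ← two_mul, hsq hd4]
      exact (hz r e).symm
    · refine Or.inr ?_
      have : D.i * d = e ^ a * D.z ^ (r + 1) := by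
        rw [← hab, mul_assoc, ← zpow_add_one, hr, show 2 * r + 1 + 1 = 2 * (r + 1) by ring, hsq hd4]
      rw [this]
      exact ((Commute.refl e).zpow_right a).mul_right (hz _ e).symm
  rcases hcases with hc | hc
  swap
  · refine hdN y hy1 (hcyc y (hN _ (Or.inl ?_)))
    have e2 : y ^ 2 * D.i * (y ^ 2)⁻¹ = e := by
      show _ = y * d * y⁻¹
      rw [← hy1, pow_two]; group
    have e3 : y ^ 3 * D.i * (y ^ 3)⁻¹ = y * (y ^ 2 * D.i * (y ^ 2)⁻¹) * y⁻¹ := by
      rw [pow_succ' y 2]; group
    have hyid : y * (D.i * d) * y⁻¹ = d * e := by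
      show _ = d * (y * d * y⁻¹)
      rw [← hy1]; group
    rcases D.eq_of_commute_four he4 hid4 hc with ee | ee
    · rw [e3, e2, ee, hyid, ee]
      rw [show d * (D.i * d) = d * D.i * d⁻¹ * (d * d) by group, D.outside_conj_zpowers hd hdc D.i_mem,
        ← pow_two, (D.outside d hd hdc).1, ← D.inv_eq_mul_z (by rw [orderOf_inv, D.ord_i]), inv_inv]
    · rw [e3, e2, ee, show y * (D.i * d)⁻¹ * y⁻¹ = (y * (D.i * d) * y⁻¹)⁻¹ by group, hyid, ee]
      group
  · by_cases hn : 3 ≤ D.n
    · set k := D.c ^ 2 ^ (D.n - 3)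
      have hk2 : k * k = D.i := by
        rw [← pow_add, ← two_mul, ← pow_succ', show D.n - 3 + 1 = D.n - 2 by omega]; rfl
      have hki : k * D.i * k⁻¹ = D.i := by rw [← hk2]; group
      have hkd : k * d * k⁻¹ = D.i * d := by
        show D.c ^ 2 ^ (D.n - 3) * d * (D.c ^ 2 ^ (D.n - 3))⁻¹ = _
        rw [← zpow_natCast D.c (2 ^ (D.n - 3)), D.zpow_conj_outside hd hdc, two_mul, zpow_add, zpow_natCast]
        exact congrArg (· * d) hk2
      set t := k * y with ht
      have t1 : t * D.i * t⁻¹ = D.i * d := by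
        rw [show t * D.i * t⁻¹ = k * (y * D.i * y⁻¹) * k⁻¹ by rw [ht]; group, hy1, hkd]
      have t2 : t * d * t⁻¹ = k * e * k⁻¹ := by
        rw [ht]; show _ = k * (y * d * y⁻¹) * k⁻¹
        group
      have hte : t * d * t⁻¹ = D.i ∨ t * d * t⁻¹ = D.i⁻¹ := by
        rcases D.eq_of_commute_four he4 D.ord_i hc with ee | ee <;> rw [t2, ee]
        · exact Or.inl hki
        · exact Or.inr (by rw [show k * D.i⁻¹ * k⁻¹ = (k * D.i * k⁻¹)⁻¹ by group, hki])
      have htN : t ∈ N := by
        refine hcyc t (hN _ ?_)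
        have t3 : t ^ 2 * D.i * (t ^ 2)⁻¹ = D.i * d * (t * d * t⁻¹) := by
          rw [pow_two, show t * t * D.i * (t * t)⁻¹ = t * (t * D.i * t⁻¹) * t⁻¹ by group, t1,
            show t * (D.i * d) * t⁻¹ = t * D.i * t⁻¹ * (t * d * t⁻¹) by group, t1]
        rw [pow_succ' t 2, show t * t ^ 2 * D.i * (t * t ^ 2)⁻¹ = t * (t ^ 2 * D.i * (t ^ 2)⁻¹) * t⁻¹ by group, t3]
        have hidi : D.i * d * D.i = d := by
          rw [show D.i * d * D.i = D.i * (d * D.i * d⁻¹) * d by group, D.outside_conj_zpowers hd hdc D.i_mem,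
            mul_inv_cancel, one_mul]
        rcases hte with te | te
        · rw [te, hidi, te]; exact Or.inl rfl
        · rw [te, show D.i * d * D.i⁻¹ = D.i * d * D.i * (D.i ^ 2)⁻¹ by group, hidi, D.i_sq, D.z_inv,
            ← D.inv_eq_mul_z hd4, show t * d⁻¹ * t⁻¹ = (t * d * t⁻¹)⁻¹ by group, te, inv_inv]
          exact Or.inl rfl
      obtain ⟨a, ha⟩ := mem_zpowers_iff.1 (mem_normalizer_zpowers_iff.1 htN)
      rw [t1] at ha
      exact hidc (ha ▸ zpow_mem D.i_mem a)
    · have hn2 : D.n = 2 := by have := D.two_le; omega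
      have hci : D.c = D.i := by rw [show D.i = D.c ^ 2 ^ (D.n - 2) from rfl, hn2]; simp
      refine hdN y hy1 ?_
      have hy2N : y ^ 2 ∈ N := by
        refine hN _ ?_
        rw [show y ^ 2 * D.i * (y ^ 2)⁻¹ = e by show _ = y * d * y⁻¹; rw [← hy1, pow_two]; group]
        exact D.eq_of_commute_four he4 D.ord_i hc
      have hyS : y ∈ normalizer ((D.S : Subgroup G) : Set G) := by
        refine mem_normalizer_of_forall_conj_mem fun s hs => ?_
        have hle : (D.S : Subgroup G) ≤ (D.S : Subgroup G).comap (MulAut.conj y).toMonoidHom := by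
          refine D.S_le_of_mem hd hdc ?_ ?_
          · rw [hci]; show y * D.i * y⁻¹ ∈ (D.S : Subgroup G); rw [hy1]; exact hd
          · show e ∈ (D.S : Subgroup G)
            rcases D.eq_of_commute_four he4 D.ord_i hc with ee | ee <;> rw [ee]
            · exact D.zpowers_c_le D.i_mem
            · exact inv_mem (D.zpowers_c_le D.i_mem)
        exact hle hs
      refine mem_of_primePow_powers (g := y) fun q j m hq hvo => ?_
      rcases eq_or_ne q 2 with rfl | hq2
      · haveI : Fact (Nat.Prime 2) := ⟨Nat.prime_two⟩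
        have hP : IsPGroup 2 (zpowers (y ^ m) ⊔ D.S : Subgroup G) :=
          (IsPGroup.of_card (n := j) (by rw [Nat.card_zpowers, hvo])).to_sup_of_normal_right' D.S.2
            (zpowers_le.2 (pow_mem hyS m))
        have hm := (D.S.3 hP le_sup_right) ▸ (le_sup_left : zpowers (y ^ m) ≤ _) (mem_zpowers _)
        exact hN _ (D.S_conj_i hm)
      · refine mem_of_coprime_pows N (a := 2) (b := orderOf (y ^ m))
          (Nat.coprime_two_left.2 (odd_orderOf_primePow hq hq2 hvo)) ?_ (by rw [pow_orderOf_eq_one]; exact one_mem _)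
        rw [← pow_mul, mul_comm, pow_mul]
        exact pow_mem hy2N m

end QData

end Cfsg.Agent.Lib.ZassSL25
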