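import Mathlib
import Cfsg.Agent.Lib.ZassSL25.GoodStruct
import Cfsg.Agent.Lib.ZassSL25.Restrict
import Cfsg.Agent.Lib.ZassSL25.Three
import Cfsg.Agent.Lib.Char.FrobSchur

/-!
The counting argument identifying the order of the group.
-/

set_option autoImplicit false

namespace Cfsg.Agent.Lib.ZassSL25

open Subgroup
open scoped ComplexConjugate

universe u

variable {G : Type u} [Group G] [Finite G]

theorem totient_mul_le {p n : ℕ} (hp : p.Prime) (hpn : p ∣ n) : p * n.totient ≤ (p - 1) * n := by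
  rcases Nat.eq_zero_or_pos n with rfl | hn
  · simp
  obtain ⟨k, m, hm, rfl⟩ := Nat.exists_eq_pow_mul_and_not_dvd hn.ne' p hp.ne_one
  obtain ⟨k, rfl⟩ : ∃ j, k = j + 1 := by
    rcases k with _ | j
    · rw [pow_zero, one_mul] at hpn; exact absurd hpn hm
    · exact ⟨j, rfl⟩
  rw [Nat.totient_mul ((hp.coprime_iff_not_dvd.2 hm).pow_left _), Nat.totient_prime_pow hp k.succ_pos,
    Nat.succ_sub_one]
  calc p * (p ^ k * (p - 1) * m.totient) = (p - 1) * (p ^ (k + 1) * m.totient) := by rw [pow_succ]; ring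
    _ ≤ _ := Nat.mul_le_mul_left _ (Nat.mul_le_mul_left _ (Nat.totient_le m))

theorem arith_degree {g d b0 b3 c4 c3 r SR : ℕ} (hg : 0 < g) (hd : 2 ≤ d)
    (hfs : g + d = d * (c4 + (c3 + r))) (hS : d * (b0 * c4 + (b3 * c3 + SR)) = g * (d + 1))
    (hc0 : 2 * b0 * c4 = g) (hc3 : 2 * b3 * c3 = g) (hb0 : d ≤ b0) (h3d : 3 * d ≤ 2 * b3)
    (h9 : 3 ≤ d → 9 ≤ b3) (hR : (d + 1) * r ≤ SR) : d = 2 := by
  have hSR : d * SR = g := by
    have h1 : b0 * c4 + b3 * c3 = g := by linarith
    have h2 : d * (g + SR) = g * (d + 1) := by rw [← hS, ← h1]; ring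
    linarith [mul_add d g SR, mul_add g d 1, mul_comm g d]
  have e1 : 2 * d * c4 ≤ g := by
    rw [← hc0]
    exact Nat.mul_le_mul_right _ (Nat.mul_le_mul_left _ hb0)
  have e2 : 3 * d * c3 ≤ g := by
    rw [← hc3]
    exact Nat.mul_le_mul_right _ h3d
  have e3 : d * ((d + 1) * r) ≤ g := by
    rw [← hSR]
    exact Nat.mul_le_mul_left _ hR
  by_contra hne
  have h3 : 3 ≤ d := by omega
  have hb9 := h9 h3
  have e4 : 18 * c3 ≤ g := by
    rw [← hc3]
    exact Nat.mul_le_mul_right _ (by omega)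
  rcases le_or_gt 5 d with h5 | h5
  · have m1 : (d + 1) * (2 * d * c4) ≤ (d + 1) * g := Nat.mul_le_mul_left _ e1
    have m2 : (d + 1) * (3 * d * c3) ≤ (d + 1) * g := Nat.mul_le_mul_left _ e2
    have m3 : 6 * (d + 1) * (g + d) = 3 * ((d + 1) * (2 * d * c4)) + 2 * ((d + 1) * (3 * d * c3)) +
        6 * (d * ((d + 1) * r)) := by rw [hfs]; ring
    have m4 : 6 * g ≤ (d + 1) * g := Nat.mul_le_mul_right _ (by omega)
    have m5 : 0 < (d + 1) * d := Nat.mul_pos (by omega) (by omega)
    linarith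
  · interval_cases d <;> omega

theorem arith_small {g b0 b3 c4 c3 r SR : ℕ} (hg : 0 < g)
    (hfs : g + 2 = 2 * (c4 + (c3 + r))) (hS : 2 * (b0 * c4 + (b3 * c3 + SR)) = g * (2 + 1))
    (hc0 : 2 * b0 * c4 = g) (hc3 : 2 * b3 * c3 = g) (hb0 : 2 ≤ b0) (he : 2 ∣ b0) (hb3 : 3 ≤ b3)
    (ho : Odd b3) (h33 : 3 ∣ b3) (hR : 5 * r ≤ SR) : b0 = 2 ∧ b3 = 3 := by
  have h1 : 2 * (b0 * c4) = g := by rw [← mul_assoc, hc0]
  have h2 : 2 * (b3 * c3) = g := by rw [← mul_assoc, hc3]
  have e1 : 6 * c3 ≤ g := by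
    rw [← hc3]
    exact Nat.mul_le_mul_right _ (by omega)
  have e2 : 4 * c4 ≤ g := by
    rw [← hc0]
    exact Nat.mul_le_mul_right _ (by omega)
  have hb : b0 = 2 := by
    by_contra hne
    have e3 : 8 * c4 ≤ g := by
      rw [← hc0]
      exact Nat.mul_le_mul_right _ (by omega)
    omega
  refine ⟨hb, ?_⟩
  by_contra hne
  obtain ⟨a, ha⟩ := h33
  obtain ⟨a', ha'⟩ := ho
  have e4 : 18 * c3 ≤ g := by
    rw [← hc3]
    exact Nat.mul_le_mul_right _ (by omega)
  omega

theorem totient_two_mul_odd {b : ℕ} (hb : Odd b) : (2 * b).totient = b.totient := by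
  rw [Nat.totient_mul (Nat.coprime_two_left.2 hb), Nat.totient_two, one_mul]

omit [Finite G] in
theorem centralizer_eq_of_comm {v w : G} (hv : Comm (centralizer ({v} : Set G)))
    (hw : Comm (centralizer ({w} : Set G))) (hvw : v ∈ centralizer ({w} : Set G)) :
    centralizer ({v} : Set G) = centralizer ({w} : Set G) := by
  have hwv : w ∈ centralizer ({v} : Set G) :=
    mem_centralizer_singleton_iff.2 (mem_centralizer_singleton_iff.1 hvw).symm
  refine le_antisymm (fun a ha => mem_centralizer_singleton_iff.2 (hv a ha w hwv).eq)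
    fun a ha => mem_centralizer_singleton_iff.2 (hw a ha v hvw).eq

/-- Elements of prime order are conjugate into any subgroup of that order. -/
theorem exists_conj_mem_zpowers (h : FPFGroup G) {p : ℕ} [Fact p.Prime] (hp2 : p ≠ 2) {v w : G}
    (hv : orderOf v = p) (hw : orderOf w = p) : ∃ g : G, g * v * g⁻¹ ∈ zpowers w := by
  obtain ⟨P, hP⟩ := (IsPGroup.of_card (p := p) (n := 1) (G := zpowers v)
    (by rw [Nat.card_zpowers, hv, pow_one])).exists_le_sylow
  obtain ⟨Q, hQ⟩ := (IsPGroup.of_card (p := p) (n := 1) (G := zpowers w)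
    (by rw [Nat.card_zpowers, hw, pow_one])).exists_le_sylow
  obtain ⟨g, hg⟩ := MulAction.exists_smul_eq G P Q
  have hmem : g * v * g⁻¹ ∈ (Q : Subgroup G) := by
    rw [← hg]
    exact Subgroup.smul_mem_pointwise_smul _ (MulAut.conj g) _ (hP (mem_zpowers v))
  haveI := isCyclic_of_isPGroup h hp2 Q.2
  refine ⟨g, ?_⟩
  rw [← zpowers_eq_of_commute h (Fact.out : p.Prime) ((orderOf_conj' g v).trans hv) hw
    (congrArg Subtype.val (mul_comm' (⟨_, hmem⟩ : (Q : Subgroup G)) ⟨w, hQ (mem_zpowers w)⟩))]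
  exact mem_zpowers _

omit [Finite G] in
/-- The size of a conjugacy class times that of a centralizer. -/
theorem card_class_mul [Finite G] (w : G) :
    Nat.card {y : G | IsConj y w} * Nat.card (centralizer ({w} : Set G)) = Nat.card G := by
  have h := card_conjHull (K := (⊤ : Subgroup G)) (N := centralizer ({w} : Set G)) le_top {w}
    (fun n hn v hv => by
      rw [Set.mem_singleton_iff] at hv ⊢
      subst hv
      exact conj_eq_iff_commute.2 (mem_centralizer_singleton_iff.1 hn))
    (fun v hv k _ hk => by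
      rw [Set.mem_singleton_iff] at hv hk
      subst hv
      exact mem_centralizer_singleton_iff.2 (conj_eq_iff_commute.1 hk).eq)
  rw [card_top] at h
  have hset : {y : G | IsConj y w} = {y : G | ∃ k ∈ (⊤ : Subgroup G), k * y * k⁻¹ ∈ ({w} : Set G)} := by
    ext y
    simp [isConj_iff]
  rw [hset]
  simpa using h

/-- A character value at an element of order five cannot be constant on all its powers. -/
theorem not_isConj_sq {χ : G → ℂ} [Fintype G] (hχ : IsFPFChar χ) (hd : χ 1 = 2) {w : G}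
    (hw : orderOf w = 5) (hinv : IsConj w⁻¹ w) : ¬ IsConj (w ^ 2) w := by
  intro hsq
  classical
  have hcl := Char.isClassFunction_of_isIrr hχ.1
  have hval : ∀ {a b : G}, IsConj a b → χ a = χ b := fun {a b} hab => by
    obtain ⟨g, rfl⟩ := isConj_iff.1 hab
    exact (hcl a g).symm
  have hw1 : zpowers w ≠ ⊥ := by
    rw [Ne, zpowers_eq_bot]
    intro e; rw [e, orderOf_one] at hw; norm_num at hw
  have hs := hχ.2 (zpowers w) hw1
  have hs' : ∑ j : Fin (orderOf w), χ (w ^ (j : ℕ)) = 0 := by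
    rw [← hs]
    exact Fintype.sum_equiv (finEquivZPowers (isOfFinOrder_of_finite w)) _ _ fun j => rfl
  have h2 : χ (w ^ 2) = χ w := hval hsq
  have h4 : χ (w ^ 4) = χ w := by
    rw [show w ^ 4 = w⁻¹ from eq_inv_of_mul_eq_one_left
      (by rw [← pow_succ, show 4 + 1 = orderOf w by rw [hw], pow_orderOf_eq_one])]
    exact hval hinv
  have h3 : χ (w ^ 3) = χ w := by
    have e3 : w ^ 3 = (w ^ 2)⁻¹ := eq_inv_of_mul_eq_one_left
      (by rw [← pow_add, show 3 + 2 = orderOf w by rw [hw], pow_orderOf_eq_one])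
    obtain ⟨g, hg⟩ := isConj_iff.1 hsq
    rw [e3]
    refine hval ((isConj_iff.2 ⟨g, ?_⟩ : IsConj (w ^ 2)⁻¹ w⁻¹).trans hinv)
    rw [show g * (w ^ 2)⁻¹ * g⁻¹ = (g * w ^ 2 * g⁻¹)⁻¹ by group, hg]
  have hval5 : (4 : ℂ) * χ w = -2 := by
    have : ∑ j ∈ Finset.range 5, χ (w ^ j) = 0 := by
      rw [← hw, ← Fin.sum_univ_eq_sum_range (fun j => χ (w ^ j)) (orderOf w)]
      exact hs'
    simp only [Finset.sum_range_succ, Finset.sum_range_zero, pow_zero, pow_one, hd, h2, h3, h4, zero_add] at this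
    linear_combination this
  obtain ⟨n, hn⟩ : ∃ n : ℤ, χ w = n := by
    have hint := Char.char_isIntegral (Char.isCharacter_of_isIrr hχ.1) w
    have he : χ w = algebraMap ℚ ℂ (-1 / 2) := by
      rw [eq_ratCast]; push_cast; linear_combination hval5 / 4
    rw [he] at hint
    obtain ⟨n, hn⟩ := IsIntegrallyClosed.isIntegral_iff.1
      ((isIntegral_algebraMap_iff (algebraMap ℚ ℂ).injective).1 hint)
    exact ⟨n, by rw [he, ← hn]; simp⟩
  rw [hn] at hval5
  have : (4 : ℤ) * n = -2 := by exact_mod_cast hval5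
  omega

section Count

variable [Fintype G] (D : QData G)

open scoped Classical in
/-- The maximal cyclic subgroups. -/
noncomputable def QData.parts : Finset (Subgroup G) :=
  (Finset.univ.filter fun v : G => v ≠ 1 ∧ v ≠ D.z).image fun v => centralizer ({v} : Set G)

variable {D}

omit [Finite G] in
theorem QData.mem_parts {B : Subgroup G} :
    B ∈ D.parts ↔ ∃ w : G, w ≠ 1 ∧ w ≠ D.z ∧ centralizer ({w} : Set G) = B := by
  classical
  simp [QData.parts, and_assoc]

open scoped Classical in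
theorem QData.sum_parts (hcomm : ∀ v : G, v ≠ 1 → v ≠ D.z → Comm (centralizer ({v} : Set G)))
    (f : G → ℂ) :
    ∑ v, f v = f 1 + f D.z +
      ∑ B ∈ D.parts, (∑ v ∈ Finset.univ.filter (· ∈ B), f v - f 1 - f D.z) := by
  set N := Finset.univ.filter fun v : G => v ≠ 1 ∧ v ≠ D.z
  have hsplit : ∀ s : Finset G, (1 : G) ∈ s → D.z ∈ s →
      ∑ v ∈ s, f v = f 1 + f D.z + ∑ v ∈ s.filter (fun v => v ≠ 1 ∧ v ≠ D.z), f v := by
    intro s h1 hz
    rw [← Finset.add_sum_erase s f h1,
      ← Finset.add_sum_erase (s.erase 1) f (Finset.mem_erase.2 ⟨D.z_ne_one, hz⟩), add_assoc]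
    congr 2
    refine Finset.sum_congr (Finset.ext fun v => ?_) fun _ _ => rfl
    simp only [Finset.mem_erase, Finset.mem_filter]
    tauto
  rw [hsplit Finset.univ (Finset.mem_univ _) (Finset.mem_univ _)]
  congr 1
  rw [← Finset.sum_fiberwise_of_maps_to (g := fun v => centralizer ({v} : Set G)) (t := D.parts)
    (fun v hv => D.mem_parts.2 ⟨v, (Finset.mem_filter.1 hv).2.1, (Finset.mem_filter.1 hv).2.2, rfl⟩)]
  refine Finset.sum_congr rfl fun B hB => ?_
  obtain ⟨w, hw1, hwz, rfl⟩ := D.mem_parts.1 hB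
  have hz : D.z ∈ centralizer ({w} : Set G) := mem_centralizer_singleton_iff.2 (D.z_comm w).symm
  rw [hsplit (Finset.univ.filter (· ∈ centralizer ({w} : Set G))) (by simp [one_mem]) (by simpa using hz)]
  rw [show ∀ a b c : ℂ, a + b + c - a - b = c from fun a b c => by ring]
  refine Finset.sum_congr (Finset.ext fun v => ?_) fun _ _ => rfl
  simp only [Finset.mem_filter, Finset.mem_univ, true_and, N]
  constructor
  · rintro ⟨⟨h1, h2⟩, he⟩
    exact ⟨he ▸ mem_centralizer_singleton_iff.2 rfl, h1, h2⟩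
  · rintro ⟨hv, h1, h2⟩
    exact ⟨⟨h1, h2⟩, centralizer_eq_of_comm (hcomm v h1 h2) (hcomm w hw1 hwz) hv⟩

end Count

open scoped Classical in
set_option maxHeartbeats 1600000 in
/-- A perfect group with a fixed-point-free character and without elements centralising quaternion
groups has order 120. -/
theorem QData.good_card (D : QData G) (h : FPFGroup G) (hperf : commutator G = ⊤)
    (hnb : ∀ x : G, ¬ Bad x) :
    Nat.card G = 120 ∧ ∀ a : G, orderOf a = 4 → Nat.card (centralizer ({a} : Set G)) = 4 := by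
  haveI := Fintype.ofFinite G
  obtain ⟨χ, hχ⟩ := h.exists_irr
  have hcomm : ∀ v : G, v ≠ 1 → v ≠ D.z → Comm (centralizer ({v} : Set G)) :=
    fun v h1 h2 => D.comm_centralizer h hperf hnb h1 h2
  have hz1 := D.z_ne_one
  have hχch := Char.isCharacter_of_isIrr hχ.1
  obtain ⟨d, hd⟩ := Char.exists_natDegree hχch
  have hd0 : d ≠ 0 := fun e => Char.irr_degree_ne_zero hχ.1 (by rw [hd, e, Nat.cast_zero])
  have hzH : ∀ v : zpowers D.z, (v : G) = 1 ∨ (v : G) = D.z := fun v => D.sq_eq_one_mem (by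
    obtain ⟨j, hj⟩ := mem_zpowers_iff.1 v.2
    rw [← hj, ← zpow_natCast, ← zpow_mul, mul_comm, zpow_mul, zpow_natCast, D.z_sq, one_zpow])
  have hχz : χ D.z = -(d : ℂ) := by
    have hs := hχ.2 (zpowers D.z) (by rw [Ne, zpowers_eq_bot]; exact hz1)
    rw [Fintype.sum_eq_add (⟨1, one_mem _⟩ : zpowers D.z) ⟨D.z, mem_zpowers _⟩
      (fun e => hz1 (congrArg Subtype.val e).symm) fun v hv => ?_] at hs
    · simp only [hd] at hs
      linear_combination hs
    · rcases hzH v with e | e
      · exact absurd (Subtype.ext e) hv.1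
      · exact absurd (Subtype.ext e) hv.2
  have hd2 : 2 ≤ d := by
    by_contra hlt
    have hd1 : d = 1 := by omega
    obtain ⟨l, hl⟩ := Char.exists_hom_of_degree_one hχch (by rw [hd, hd1, Nat.cast_one])
    have : l D.z = 1 := MonoidHom.mem_ker.1 (Abelianization.commutator_subset_ker l (hperf.symm ▸ mem_top _))
    rw [hl, this, hd1] at hχz
    norm_num at hχz
  -- facts about the parts
  have hpart : ∀ B ∈ D.parts, IsCyclic B ∧ D.z ∈ B ∧ 2 * (Nat.card B / 2) = Nat.card B ∧
      2 ≤ Nat.card B / 2 ∧ (∃ w ∈ B, w ^ 2 ≠ 1) ∧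
      ∀ v ∈ B, v ≠ 1 → v ≠ D.z → centralizer ({v} : Set G) = B := by
    intro B hB
    obtain ⟨w, hw1, hwz, rfl⟩ := D.mem_parts.1 hB
    have hc := hcomm w hw1 hwz
    haveI := hc.isMulCommutative
    have hzB : D.z ∈ centralizer ({w} : Set G) := mem_centralizer_singleton_iff.2 (D.z_comm w).symm
    have hwB : w ∈ centralizer ({w} : Set G) := mem_centralizer_singleton_iff.2 rfl
    have h2 : 2 ∣ Nat.card (centralizer ({w} : Set G)) := D.ord_z ▸ Subgroup.orderOf_dvd_natCard _ hzB
    have hw2 : w ^ 2 ≠ 1 := fun e => by rcases D.sq_eq_one_mem e with e' | e' <;> contradiction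
    refine ⟨isCyclic_of_isMulCommutative h _, hzB, Nat.mul_div_cancel' h2, ?_, ⟨w, hwB, hw2⟩,
      fun v hv h1 hvz => centralizer_eq_of_comm (hcomm v h1 hvz) hc hv⟩
    by_contra hlt
    obtain ⟨a, ha⟩ := h2
    have h0 : 0 < Nat.card (centralizer ({w} : Set G)) := Nat.card_pos
    have he : Nat.card (centralizer ({w} : Set G)) = 2 := by omega
    refine hw2 (orderOf_dvd_iff_pow_eq_one.1 ?_)
    exact he ▸ Subgroup.orderOf_dvd_natCard _ hwB
  have hsumB : ∀ (B : Subgroup G) (f : G → ℂ), ∑ v ∈ Finset.univ.filter (· ∈ B), f v = ∑ v : B, f v :=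
    fun B f => Finset.sum_subtype _ (by simp) _
  set g := Nat.card G / 2
  have hg : 2 * g = Nat.card G := Nat.mul_div_cancel' (D.ord_z ▸ orderOf_dvd_natCard D.z)
  set Sb := ∑ B ∈ D.parts, Nat.card B / 2
  set c := D.parts.card
  have hSb : g + c = 1 + Sb := by
    have h1 := D.sum_parts hcomm (fun _ => (1 : ℂ))
    simp only [Finset.sum_const, Finset.card_univ, nsmul_eq_mul, mul_one] at h1
    rw [Finset.sum_congr rfl fun B hB => by
      rw [← Fintype.card_subtype, ← Nat.card_eq_fintype_card, show Nat.card {v // v ∈ B} = Nat.card B from rfl,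
        ← (hpart B hB).2.2.1], ← Nat.card_eq_fintype_card, ← hg] at h1
    push_cast at h1
    rw [Finset.sum_sub_distrib, Finset.sum_sub_distrib, ← Finset.mul_sum] at h1
    simp only [Finset.sum_const, nsmul_eq_mul, mul_one] at h1
    have : ((g + c : ℕ) : ℂ) = ((1 + Sb : ℕ) : ℂ) := by push_cast [Sb, c]; linear_combination h1 / 2
    exact_mod_cast this
  -- Frobenius--Schur
  have hfs : g + d = d * c := by
    have hsq : ∀ B ∈ D.parts, ∑ v : B, χ ((v : G) * v) = 0 := by
      intro B hB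
      obtain ⟨hBc, -, -, -, ⟨w, hw, hw2⟩, -⟩ := hpart B hB
      letI : CommGroup B := IsCyclic.commGroup
      let φ : B →* B := powMonoidHom 2
      set H := φ.range.map B.subtype
      have hne : H ≠ ⊥ := fun e => hw2 (mem_bot.1 (e ▸ ⟨⟨w, hw⟩ ^ 2, ⟨⟨w, hw⟩, rfl⟩, rfl⟩))
      have hs := hχ.2 H hne
      have hfib : ∀ r : φ.range, (Finset.univ.filter fun v : B => φ v = r).card =
          (Finset.univ.filter fun v : B => φ v = 1).card := fun r =>
        MonoidHom.card_fiber_eq_of_mem_range φ r.2 ⟨1, map_one φ⟩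
      calc ∑ v : B, χ ((v : G) * v) = ∑ v : B, χ (φ v : G) := by simp [φ, pow_two]
        _ = ∑ r : φ.range, ((Finset.univ.filter fun v : B => φ v = 1).card : ℂ) * χ ((r : B) : G) := by
          rw [← Finset.sum_fiberwise Finset.univ φ.rangeRestrict fun v => χ (φ v : G)]
          refine Finset.sum_congr rfl fun r _ => ?_
          rw [← hfib r, show (Finset.univ.filter fun v : B => φ.rangeRestrict v = r) =
            Finset.univ.filter fun v : B => φ v = r from Finset.filter_congr fun v _ => Subtype.ext_iff]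
          rw [Finset.sum_congr rfl fun v hv => by rw [(Finset.mem_filter.1 hv).2], Finset.sum_const,
            nsmul_eq_mul]
        _ = 0 := by
          rw [← Finset.mul_sum, show ∑ r : φ.range, χ ((r : B) : G) = ∑ v : H, χ v from
            Fintype.sum_equiv (φ.range.equivMapOfInjective _ B.subtype_injective).toEquiv _ _ fun v => rfl,
            hs, mul_zero]
    have h1 := D.sum_parts hcomm (fun v => χ (v * v))
    rw [Finset.sum_congr (s₁ := D.parts) rfl fun B hB => by rw [hsumB B, hsq B hB]] at h1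
    simp only [mul_one, ← pow_two D.z, D.z_sq, hd, Finset.sum_const, nsmul_eq_mul] at h1
    have hν := (Char.fsInd_irr hχ.1).1
    have hGc : (Nat.card G : ℂ) ≠ 0 := Char.card_ne_zero_complex G
    have hgc : (Nat.card G : ℂ) = 2 * (g : ℂ) := by rw [← hg]; push_cast; ring
    have hS : ∑ v, χ (v * v) = Char.fsInd χ * (Nat.card G : ℂ) := by
      rw [Char.fsInd]; field_simp
    rw [hS, hgc] at h1
    have hc2 : 2 ≤ c := by
      by_contra hlt
      have hab : ∀ a b : G, Commute a b := by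
        intro a b
        by_cases ha : a = 1 ∨ a = D.z
        · rcases ha with rfl | rfl
          · exact Commute.one_left b
          · exact (D.z_comm b).symm
        by_cases hb : b = 1 ∨ b = D.z
        · rcases hb with rfl | rfl
          · exact Commute.one_right a
          · exact D.z_comm a
        push Not at ha hb
        have he : centralizer ({a} : Set G) = centralizer ({b} : Set G) :=
          Finset.card_le_one.1 (by omega : D.parts.card ≤ 1) _ (D.mem_parts.2 ⟨a, ha.1, ha.2, rfl⟩)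
            _ (D.mem_parts.2 ⟨b, hb.1, hb.2, rfl⟩)
        exact mem_centralizer_singleton_iff.1 (he ▸ mem_centralizer_singleton_iff.2 rfl)
      have : commutator G = ⊥ := by
        rw [_root_.commutator_def, eq_bot_iff, commutator_le]
        intro a _ b _
        rw [mem_bot, commutatorElement_eq_one_iff_commute]
        exact hab a b
      rw [hperf] at this
      exact hz1 (mem_bot.1 (this ▸ mem_top D.z))
    rcases hν with e | e | e <;> rw [e] at h1
    · exfalso
      have : ((2 * d * c : ℕ) : ℂ) = ((2 * d : ℕ) : ℂ) := by push_cast [c]; linear_combination h1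
      have : 2 * d * c = 2 * d := by exact_mod_cast this
      nlinarith
    · exfalso
      have : ((g + d * c : ℕ) : ℂ) = ((d : ℕ) : ℂ) := by push_cast [c]; linear_combination h1 / 2
      have : g + d * c = d := by exact_mod_cast this
      nlinarith
    · have : ((g + d : ℕ) : ℂ) = ((d * c : ℕ) : ℂ) := by push_cast [c]; linear_combination -h1 / 2
      exact_mod_cast this
  -- the norm of the character
  have hres : ∀ B ∈ D.parts, ∃ s : ℕ, ∑ v : B, χ v * conj (χ v) = (Nat.card B : ℂ) * s ∧ d ≤ s ∧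
      (s ≤ d → d ≤ (Nat.card B).totient) := fun B hB =>
    haveI := (hpart B hB).1
    cyclic_res hχ hd B
  choose! s hs1 hs2 hs3 using hres
  have hphi : ∀ B ∈ D.parts, d ≤ (Nat.card B).totient := by
    have h1 := D.sum_parts hcomm (fun v => χ v * conj (χ v))
    rw [Finset.sum_congr (s₁ := D.parts) rfl fun B hB => by rw [hsumB B, hs1 B hB, ← (hpart B hB).2.2.1]] at h1
    have hnorm : ∑ v, χ v * conj (χ v) = (Nat.card G : ℂ) := by
      have := Char.classInner_irr_self hχ.1
      rw [Cfsg.classInner, inv_mul_eq_iff_eq_mul₀ (Char.card_ne_zero_complex G), mul_one] at this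
      exact this
    rw [hnorm, ← hg] at h1
    simp only [hd, hχz, map_neg, map_natCast] at h1
    push_cast at h1
    rw [Finset.sum_sub_distrib, Finset.sum_sub_distrib] at h1
    simp only [Finset.sum_const, nsmul_eq_mul, mul_assoc, ← Finset.mul_sum] at h1
    set T := ∑ B ∈ D.parts, Nat.card B / 2 * s B
    have h2 : ((g + d * d * c : ℕ) : ℂ) = ((d * d + T : ℕ) : ℂ) := by
      push_cast [c, T]; linear_combination h1 / 2
    have h2' : g + d * d * c = d * d + T := by exact_mod_cast h2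
    have hdS : ∑ B ∈ D.parts, Nat.card B / 2 * d = d * Sb := by
      rw [Finset.mul_sum]; exact Finset.sum_congr rfl fun B _ => mul_comm _ _
    intro B hB
    refine hs3 B hB (Nat.le_of_not_lt fun hlt => ?_)
    have : ∑ B ∈ D.parts, Nat.card B / 2 * d < T :=
      Finset.sum_lt_sum (fun B' hB' => Nat.mul_le_mul_left _ (hs2 B' hB'))
        ⟨B, hB, Nat.mul_lt_mul_of_pos_left hlt (by have := (hpart B hB).2.2.2.1; omega)⟩
    nlinarith [congrArg (d * ·) hSb, congrArg (d * ·) hfs]
  -- the parts containing elements of a given order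
  let P : ℕ → Finset (Subgroup G) := fun m => D.parts.filter fun B : Subgroup G => m ∣ Nat.card B
  have hPcount : ∀ m, 3 ≤ m → (P m).card * m.totient = Nat.card {v : G | orderOf v = m} := by
    intro m hm
    have h1 := D.sum_parts hcomm (fun v => if orderOf v = m then (1 : ℂ) else 0)
    rw [if_neg (by rw [orderOf_one]; omega), if_neg (by rw [D.ord_z]; omega)] at h1
    simp only [zero_add, sub_zero, Finset.sum_boole] at h1
    rw [Finset.sum_congr (s₁ := D.parts) rfl fun B hB => show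
      (((Finset.univ.filter (· ∈ B)).filter fun v : G => orderOf v = m).card : ℂ) =
        if m ∣ Nat.card B then (m.totient : ℂ) else 0 by
      haveI := (hpart B hB).1
      split_ifs with hdv
      · rw [← IsCyclic.card_orderOf_eq_totient (α := B) (d := m) (by rwa [← Nat.card_eq_fintype_card])]
        congr 1
        refine Finset.card_bij (fun v hv => ⟨v, by simp at hv; exact hv.1⟩) (fun v hv => ?_)
          (fun a _ b _ e => congrArg Subtype.val e) fun v hv => ⟨v, ?_, rfl⟩
        · simp at hv ⊢; exact hv.2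
        · simp at hv ⊢; exact hv
      · rw [Nat.cast_eq_zero, Finset.card_eq_zero, Finset.filter_eq_empty_iff]
        intro v hv hvm
        simp at hv
        exact hdv (hvm ▸ B.orderOf_dvd_natCard hv)] at h1
    rw [← Finset.sum_filter, Finset.sum_const, nsmul_eq_mul] at h1
    rw [Nat.card_eq_fintype_card, Fintype.card_ofFinset]
    exact_mod_cast h1.symm
  have hcardC : ∀ (k v : G), Nat.card (centralizer ({k * v * k⁻¹} : Set G)) =
      Nat.card (centralizer ({v} : Set G)) := by
    intro k v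
    refine Nat.card_congr (Equiv.subtypeEquiv (MulAut.conj k⁻¹).toEquiv fun a => ?_)
    show a ∈ centralizer ({k * v * k⁻¹} : Set G) ↔ k⁻¹ * a * k⁻¹⁻¹ ∈ centralizer ({v} : Set G)
    rw [mem_centralizer_singleton_iff, mem_centralizer_singleton_iff]
    constructor
    · intro e
      calc k⁻¹ * a * k⁻¹⁻¹ * v = k⁻¹ * (a * (k * v * k⁻¹)) * k := by group
        _ = _ := by rw [e]; group
    · intro e
      calc a * (k * v * k⁻¹) = k * (k⁻¹ * a * k⁻¹⁻¹ * v) * k⁻¹ := by group
        _ = _ := by rw [e]; group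
  -- elements of order four
  set b0 := Nat.card (centralizer ({D.i} : Set G)) / 2
  have hiparts : centralizer ({D.i} : Set G) ∈ D.parts := D.mem_parts.2 ⟨D.i,
    fun e => by have := D.ord_i; rw [e, orderOf_one] at this; norm_num at this,
    fun e => by have := D.ord_i; rw [e, D.ord_z] at this; norm_num at this, rfl⟩
  have hb0 : 2 * b0 = Nat.card (centralizer ({D.i} : Set G)) := (hpart _ hiparts).2.2.1
  have hP4 : ∀ B ∈ P 4, Nat.card B / 2 = b0 := by
    intro B hB
    obtain ⟨hB, h4⟩ := Finset.mem_filter.1 hB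
    haveI := (hpart B hB).1
    obtain ⟨v, hv⟩ := IsCyclic.exists_ofOrder_eq_natCard (α := B)
    have hv4 : orderOf ((v : G) ^ (Nat.card B / 4)) = 4 := by
      rw [← hv, ← Subgroup.orderOf_coe]
      exact orderOf_pow_orderOf_div (orderOf_pos _).ne' (by rw [Subgroup.orderOf_coe, hv]; exact h4)
    obtain ⟨k, hk⟩ := isConj_iff.1 (D.isConj_four hperf hv4).symm
    rw [← (hpart B hB).2.2.2.2.2 _ (pow_mem v.2 _) (fun e => by rw [e, orderOf_one] at hv4; norm_num at hv4)
      (fun e => by rw [e, D.ord_z] at hv4; norm_num at hv4), ← hk, hcardC]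
  have hc0 : 2 * b0 * (P 4).card = g := by
    have h1 := hPcount 4 (by norm_num)
    rw [show Nat.totient 4 = 2 by decide] at h1
    have h2 := card_class_mul D.i
    rw [show {y : G | IsConj y D.i} = {v : G | orderOf v = 4} from Set.ext fun y => ⟨fun e => by
      obtain ⟨k, hk⟩ := isConj_iff.1 e
      show orderOf y = 4
      rw [← orderOf_conj' k y, hk, D.ord_i], fun e => D.isConj_four hperf e⟩, ← h1, ← hb0, ← hg] at h2
    linarith
  -- elements of prime order that are not fused with their squares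
  have hfree : ∀ p : ℕ, p.Prime → p ≠ 2 → ¬ p ∣ b0 → ∀ w : G, orderOf w = p →
      IsConj w⁻¹ w ∧ ¬ 4 ∣ Nat.card (centralizer ({w} : Set G)) ∧
        p ∣ Nat.card (centralizer ({w} : Set G)) / 2 := by
    intro p hp hp2 hpb w hw
    have hf : Free w := by
      by_contra hnf
      obtain ⟨k, hk⟩ := D.exists_four_conj_mem_U hperf (hw ▸ odd_of_prime_ne_two hp hp2) hnf
      refine hpb ?_
      have hd' : p ∣ 2 * b0 := by
        rw [hb0, ← hw, ← orderOf_conj' k w]
        exact Subgroup.orderOf_dvd_natCard _ (mem_centralizer_singleton_iff.2 (D.mem_U.1 hk).2.eq)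
      exact (hp.dvd_mul.1 hd').resolve_left fun e => hp2 ((Nat.prime_dvd_prime_iff_eq hp Nat.prime_two).1 e)
    obtain ⟨A, -, -, -, -, -, ⟨b, -, -, hb, -⟩, -⟩ :=
      (D.freeClosed h hperf hnb (hw ▸ hp) (hw ▸ hp2) hf).spec h hperf D
    have hw1 : w ≠ 1 := fun e => hp.ne_one (by rw [← hw, e, orderOf_one])
    have hwz : w ≠ D.z := fun e => hp2 (by rw [← hw, e, D.ord_z])
    have hB : centralizer ({w} : Set G) ∈ D.parts := D.mem_parts.2 ⟨w, hw1, hwz, rfl⟩
    refine ⟨(isConj_iff.2 ⟨b, hb⟩).symm, fun h4 => ?_, ?_⟩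
    · haveI := (hpart _ hB).1
      obtain ⟨v, hv⟩ := IsCyclic.exists_ofOrder_eq_natCard (α := centralizer ({w} : Set G))
      refine hf ((v : G) ^ (Nat.card (centralizer ({w} : Set G)) / 4)) ?_
        ((show Commute (v : G) w from mem_centralizer_singleton_iff.1 v.2).pow_left _)
      rw [← hv, ← Subgroup.orderOf_coe]
      exact orderOf_pow_orderOf_div (orderOf_pos _).ne' (by rw [Subgroup.orderOf_coe, hv]; exact h4)
    · have hd' : p ∣ 2 * (Nat.card (centralizer ({w} : Set G)) / 2) := by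
        rw [(hpart _ hB).2.2.1, ← hw]
        exact Subgroup.orderOf_dvd_natCard _ (mem_centralizer_singleton_iff.2 rfl)
      exact (hp.dvd_mul.1 hd').resolve_left fun e => hp2 ((Nat.prime_dvd_prime_iff_eq hp Nat.prime_two).1 e)
  -- numerical facts about the parts
  have hb0phi : d ≤ b0 := by
    refine (hphi _ hiparts).trans ?_
    rw [← hb0]
    have := totient_mul_le Nat.prime_two (dvd_mul_right 2 b0)
    omega
  have hb0even : 2 ∣ b0 := by
    have h4 : 4 ∣ Nat.card (centralizer ({D.i} : Set G)) :=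
      D.ord_i ▸ Subgroup.orderOf_dvd_natCard _ (mem_centralizer_singleton_iff.2 rfl)
    omega
  have hbodd : ∀ B ∈ D.parts, ¬ 4 ∣ Nat.card B → 3 ≤ Nat.card B / 2 ∧ d + 1 ≤ Nat.card B / 2 ∧
      Odd (Nat.card B / 2) ∧ (Nat.card B).totient = (Nat.card B / 2).totient := by
    intro B hB h4
    obtain ⟨-, -, h2b, hb2, -, -⟩ := hpart B hB
    have hodd : Odd (Nat.card B / 2) := by
      rw [← Nat.not_even_iff_odd]; rintro ⟨a, ha⟩; exact h4 ⟨a, by omega⟩
    have htot : (Nat.card B).totient = (Nat.card B / 2).totient := by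
      conv_lhs => rw [← h2b]
      exact totient_two_mul_odd hodd
    have h3 : 3 ≤ Nat.card B / 2 := by obtain ⟨a, ha⟩ := hodd; omega
    refine ⟨h3, ?_, hodd, htot⟩
    have := hphi B hB
    rw [htot] at this
    have := Nat.totient_lt (Nat.card B / 2) (by omega)
    omega
  -- split off the parts with an element of order four
  set R := D.parts.filter fun B : Subgroup G => ¬ 4 ∣ Nat.card B
  have hcs : c = (P 4).card + R.card := (Finset.card_filter_add_card_filter_not _).symm
  have hSs : Sb = b0 * (P 4).card + ∑ B ∈ R, Nat.card B / 2 := by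
    rw [show Sb = _ from (Finset.sum_filter_add_sum_filter_not D.parts (fun B : Subgroup G => 4 ∣ Nat.card B) _).symm]
    congr 1
    show ∑ B ∈ P 4, Nat.card B / 2 = _
    rw [Finset.sum_const_nat hP4, mul_comm]
  have hdSb : d * Sb = g * (d + 1) := by nlinarith [congrArg (d * ·) hSb]
  have hg0 : 0 < g := by
    have : 0 < Nat.card G := Nat.card_pos
    omega
  have hlow : ∀ {Q : Finset (Subgroup G)} {l : ℕ}, (∀ B ∈ Q, l ≤ Nat.card B / 2) →
      l * Q.card ≤ ∑ B ∈ Q, Nat.card B / 2 := fun {Q l} hQ => by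
    rw [mul_comm, ← smul_eq_mul]
    exact Finset.card_nsmul_le_sum _ _ _ hQ
  by_cases h3b : 3 ∣ b0
  · exfalso
    have hR := hlow (Q := R) (l := d + 1) fun B hB =>
      (hbodd B (Finset.mem_filter.1 hB).1 (Finset.mem_filter.1 hB).2).2.1
    have h3d : 3 * d ≤ 2 * b0 := by
      obtain ⟨k, m, hm, hbk⟩ := Nat.exists_eq_pow_mul_and_not_dvd (show b0 ≠ 0 by omega) 2 (by norm_num)
      have hm3 : 3 ∣ m := (Nat.Coprime.pow_right k (by norm_num : Nat.Coprime 3 2)).dvd_of_dvd_mul_left (hbk ▸ h3b)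
      have h1 := hphi _ hiparts
      rw [← hb0, hbk, ← mul_assoc, ← pow_succ', Nat.totient_mul ((Nat.prime_two.coprime_iff_not_dvd.2 hm).pow_left _),
        Nat.totient_prime_pow Nat.prime_two k.succ_pos, Nat.succ_sub_one, Nat.add_one_sub_one, mul_one] at h1
      have h2 := totient_mul_le Nat.prime_three hm3
      rw [hbk]
      calc 3 * d ≤ 3 * (2 ^ k * m.totient) := Nat.mul_le_mul_left _ h1
        _ = 2 ^ k * (3 * m.totient) := by ring
        _ ≤ 2 ^ k * ((3 - 1) * m) := Nat.mul_le_mul_left _ h2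
        _ = _ := by ring
    generalize hc4 : (P 4).card = c4 at hc0 hcs hSs
    generalize hSR : ∑ B ∈ R, Nat.card B / 2 = SR at hR hSs
    nlinarith
  -- elements of order three
  haveI : Fact (Nat.Prime 3) := ⟨Nat.prime_three⟩
  obtain ⟨w3, hw3⟩ := exists_prime_orderOf_dvd_card' (G := G) 3 (D.three_dvd hperf)
  obtain ⟨hinv3, hw34, hw3b⟩ := hfree 3 Nat.prime_three (by norm_num) h3b w3 hw3
  set b3 := Nat.card (centralizer ({w3} : Set G)) / 2
  have hB3 : centralizer ({w3} : Set G) ∈ D.parts := D.mem_parts.2 ⟨w3,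
    fun e => by rw [e, orderOf_one] at hw3; norm_num at hw3,
    fun e => by rw [e, D.ord_z] at hw3; norm_num at hw3, rfl⟩
  have h2b3 : 2 * b3 = Nat.card (centralizer ({w3} : Set G)) := (hpart _ hB3).2.2.1
  have hconj3 : ∀ v : G, orderOf v = 3 → IsConj v w3 := by
    intro v hv
    obtain ⟨k, hk⟩ := exists_conj_mem_zpowers h (by norm_num : (3 : ℕ) ≠ 2) hv hw3
    have h1 := hk
    rw [mem_zpowers_iff_mem_range_orderOf, Finset.mem_image] at h1
    obtain ⟨j, hj, he⟩ := h1
    rw [Finset.mem_range, hw3] at hj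
    have hv' : IsConj v (k * v * k⁻¹) := isConj_iff.2 ⟨k, rfl⟩
    interval_cases j
    · have := orderOf_conj' k v
      rw [← he, hv, pow_zero, orderOf_one] at this
      norm_num at this
    · exact hv'.trans (by rw [← he, pow_one])
    · refine hv'.trans ?_
      rw [← he, show w3 ^ 2 = w3⁻¹ from eq_inv_of_mul_eq_one_left
        (by rw [← pow_succ, show 2 + 1 = orderOf w3 by rw [hw3], pow_orderOf_eq_one])]
      exact hinv3
  have hP3 : ∀ B ∈ P 3, Nat.card B / 2 = b3 ∧ ¬ 4 ∣ Nat.card B := by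
    intro B hB
    obtain ⟨hB, h3⟩ := Finset.mem_filter.1 hB
    obtain ⟨v, hv⟩ := exists_prime_orderOf_dvd_card' (G := B) 3 h3
    rw [← Subgroup.orderOf_coe] at hv
    obtain ⟨k, hk⟩ := isConj_iff.1 (hconj3 _ hv).symm
    have he : Nat.card B = Nat.card (centralizer ({w3} : Set G)) := by
      rw [← (hpart B hB).2.2.2.2.2 v v.2 (fun e => by rw [e, orderOf_one] at hv; norm_num at hv)
        (fun e => by rw [e, D.ord_z] at hv; norm_num at hv), ← hk, hcardC]
    rw [he]
    exact ⟨rfl, hw34⟩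
  have hc3 : 2 * b3 * (P 3).card = g := by
    have h1 := hPcount 3 (by norm_num)
    rw [show Nat.totient 3 = 2 by decide] at h1
    have h2 := card_class_mul w3
    rw [show {y : G | IsConj y w3} = {v : G | orderOf v = 3} from Set.ext fun y => ⟨fun e => by
      obtain ⟨k, hk⟩ := isConj_iff.1 e
      show orderOf y = 3
      rw [← orderOf_conj' k y, hk, hw3], fun e => hconj3 y e⟩, ← h1, ← h2b3, ← hg] at h2
    linarith
  obtain ⟨hb3ge, -, hb3odd, hb3tot⟩ := hbodd _ hB3 hw34
  change 3 ≤ b3 at hb3ge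
  change Odd b3 at hb3odd
  change _ = b3.totient at hb3tot
  have h3d : 3 * d ≤ 2 * b3 := by
    have h1 := hphi _ hB3
    rw [hb3tot] at h1
    have := totient_mul_le Nat.prime_three hw3b
    omega
  have hd9 : 3 ≤ d → 9 ≤ b3 := by
    intro hd3
    by_contra hlt
    obtain ⟨a, ha⟩ := hw3b
    obtain ⟨a', ha'⟩ := hb3odd
    have he : b3 = 3 := by
      change b3 = 3 * a at ha
      omega
    have h1 := hphi _ hB3
    rw [hb3tot, he, show Nat.totient 3 = 2 by decide] at h1
    omega
  set R' := R.filter fun B : Subgroup G => ¬ 3 ∣ Nat.card B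
  have hR3 : R.filter (fun B : Subgroup G => 3 ∣ Nat.card B) = P 3 := by
    ext B
    simp only [R, P, Finset.mem_filter]
    exact ⟨fun e => ⟨e.1.1, e.2⟩, fun e => ⟨⟨e.1, (hP3 B (Finset.mem_filter.2 e)).2⟩, e.2⟩⟩
  have hcr : R.card = (P 3).card + R'.card := by
    rw [← hR3]; exact (Finset.card_filter_add_card_filter_not _).symm
  have hSr : ∑ B ∈ R, Nat.card B / 2 = b3 * (P 3).card + ∑ B ∈ R', Nat.card B / 2 := by
    rw [← Finset.sum_filter_add_sum_filter_not R (fun B : Subgroup G => 3 ∣ Nat.card B), hR3,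
      Finset.sum_const_nat (fun B hB => (hP3 B hB).1), mul_comm]
  have hR'mem : ∀ B ∈ R', B ∈ D.parts ∧ ¬ 4 ∣ Nat.card B ∧ ¬ 3 ∣ Nat.card B := fun B hB => by
    obtain ⟨hB, h3⟩ := Finset.mem_filter.1 hB
    exact ⟨(Finset.mem_filter.1 hB).1, (Finset.mem_filter.1 hB).2, h3⟩
  have hd3 : d = 2 :=
    arith_degree hg0 hd2 (hfs.trans (by rw [hcs, hcr])) (by rw [← hdSb, hSs, hSr]) hc0 hc3 hb0phi h3d hd9
      (hlow (Q := R') fun B hB => (hbodd B (hR'mem B hB).1 (hR'mem B hB).2.1).2.1)
  subst hd3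
  have hR'5 : ∀ B ∈ R', 5 ≤ Nat.card B / 2 := fun B hB => by
    obtain ⟨hB1, h4, h3⟩ := hR'mem B hB
    obtain ⟨h3le, -, ⟨a, ha⟩, -⟩ := hbodd B hB1 h4
    have := (hpart B hB1).2.2.1
    by_contra hlt
    exact h3 ⟨2, by omega⟩
  have hR'' := hlow hR'5
  generalize hc4 : (P 4).card = c4 at hc0 hcs hSs
  generalize hcp3 : (P 3).card = c3 at hc3 hcr hSr
  obtain ⟨hb02, hb33⟩ := arith_small hg0 (hfs.trans (by rw [hcs, hcr])) (by rw [← hdSb, hSs, hSr]) hc0 hc3
    hb0phi hb0even hb3ge hb3odd hw3b hR''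
  rw [hb02] at hc0 hSs
  rw [hb33] at hc3 hSr
  -- some part has order ten
  obtain ⟨B5, hB5R, hB5⟩ : ∃ B ∈ R', Nat.card B / 2 = 5 := by
    by_contra hno
    push Not at hno
    have h7 := hlow (Q := R') (l := 7) fun B hB => by
      obtain ⟨hB1, h4, -⟩ := hR'mem B hB
      obtain ⟨-, -, ⟨a, ha⟩, -⟩ := hbodd B hB1 h4
      have := hR'5 B hB
      have := hno B hB
      omega
    omega
  have hB5card : Nat.card B5 = 10 := by
    have := (hpart B5 (hR'mem B5 hB5R).1).2.2.1
    omega
  haveI : Fact (Nat.Prime 5) := ⟨by norm_num⟩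
  obtain ⟨w', hw'⟩ := exists_prime_orderOf_dvd_card' (G := B5) 5 (by rw [hB5card]; norm_num)
  set w := (w' : G)
  have hw5 : orderOf w = 5 := by rw [Subgroup.orderOf_coe, hw']
  have hC5 : centralizer ({w} : Set G) = B5 := (hpart B5 (hR'mem B5 hB5R).1).2.2.2.2.2 w w'.2
    (fun e => by rw [e, orderOf_one] at hw5; norm_num at hw5)
    (fun e => by rw [e, D.ord_z] at hw5; norm_num at hw5)
  obtain ⟨hinv5, -, -⟩ := hfree 5 (by norm_num) (by norm_num) (by rw [hb02]; norm_num) w hw5
  have hns := not_isConj_sq hχ hd hw5 hinv5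
  have hconj5 : ∀ v : G, orderOf v = 5 → IsConj v w ∨ IsConj v (w ^ 2) := by
    intro v hv
    obtain ⟨k, hk⟩ := exists_conj_mem_zpowers h (by norm_num : (5 : ℕ) ≠ 2) hv hw5
    have h1 := hk
    rw [mem_zpowers_iff_mem_range_orderOf, Finset.mem_image] at h1
    obtain ⟨j, hj, he⟩ := h1
    rw [Finset.mem_range, hw5] at hj
    have hv' : IsConj v (k * v * k⁻¹) := isConj_iff.2 ⟨k, rfl⟩
    rw [← he] at hv'
    interval_cases j
    · have := orderOf_conj' k v
      rw [← he, hv, pow_zero, orderOf_one] at this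
      norm_num at this
    · exact Or.inl (by rwa [pow_one] at hv')
    · exact Or.inr hv'
    · refine Or.inr (hv'.trans ?_)
      rw [show w ^ 3 = (w ^ 2)⁻¹ from eq_inv_of_mul_eq_one_left
        (by rw [← pow_add, show 3 + 2 = orderOf w by rw [hw5], pow_orderOf_eq_one])]
      obtain ⟨b, hb⟩ := isConj_iff.1 hinv5
      exact isConj_iff.2 ⟨b, by rw [← inv_pow, ← conj_pow, hb]⟩
    · refine Or.inl (hv'.trans ?_)
      rw [show w ^ 4 = w⁻¹ from eq_inv_of_mul_eq_one_left
        (by rw [← pow_succ, show 4 + 1 = orderOf w by rw [hw5], pow_orderOf_eq_one])]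
      exact hinv5
  have hw25 : orderOf (w ^ 2) = 5 := by
    rw [orderOf_pow' _ (by norm_num), hw5]; rfl
  have hC25 : centralizer ({w ^ 2} : Set G) = B5 := (hpart B5 (hR'mem B5 hB5R).1).2.2.2.2.2 _ (pow_mem w'.2 2)
    (fun e => by rw [e, orderOf_one] at hw25; norm_num at hw25)
    (fun e => by rw [e, D.ord_z] at hw25; norm_num at hw25)
  have hP5card : ∀ B ∈ P 5, Nat.card B / 2 = 5 ∧ B ∈ R' := by
    intro B hB
    obtain ⟨hB, h5⟩ := Finset.mem_filter.1 hB
    obtain ⟨v, hv⟩ := exists_prime_orderOf_dvd_card' (G := B) 5 h5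
    rw [← Subgroup.orderOf_coe] at hv
    have hBv := (hpart B hB).2.2.2.2.2 v v.2 (fun e => by rw [e, orderOf_one] at hv; norm_num at hv)
      (fun e => by rw [e, D.ord_z] at hv; norm_num at hv)
    have he : Nat.card B = 10 := by
      rw [← hBv]
      rcases hconj5 _ hv with e | e <;> obtain ⟨k, hk⟩ := isConj_iff.1 e.symm <;> rw [← hk, hcardC]
      · rw [hC5, hB5card]
      · rw [hC25, hB5card]
    refine ⟨by omega, Finset.mem_filter.2 ⟨Finset.mem_filter.2 ⟨hB, ?_⟩, ?_⟩⟩ <;> rw [he] <;> norm_num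
  have hc5 : 10 * (P 5).card = g := by
    have h1 := hPcount 5 (by norm_num)
    rw [show Nat.totient 5 = 4 by decide] at h1
    have ha := card_class_mul w
    have hb := card_class_mul (w ^ 2)
    rw [hC5, hB5card] at ha
    rw [hC25, hB5card] at hb
    have hset : {v : G | orderOf v = 5} = {y : G | IsConj y w} ∪ {y : G | IsConj y (w ^ 2)} :=
      Set.ext fun y => ⟨fun e => hconj5 y e, fun e => by
        show orderOf y = 5
        rcases e with e | e <;> obtain ⟨k, hk⟩ := isConj_iff.1 e <;> rw [← orderOf_conj' k y, hk] <;>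
          assumption⟩
    have hdis : Disjoint {y : G | IsConj y w} {y : G | IsConj y (w ^ 2)} :=
      Set.disjoint_left.2 fun y e1 e2 => hns (e2.symm.trans e1)
    rw [hset, Nat.card_coe_set_eq, Set.ncard_union_eq hdis, ← Nat.card_coe_set_eq, ← Nat.card_coe_set_eq] at h1
    omega
  have hle5 : 5 * (P 5).card + 5 * (R'.card - (P 5).card) ≤ ∑ B ∈ R', Nat.card B / 2 ∧
      (∑ B ∈ P 5, Nat.card B / 2 ≤ ∑ B ∈ R', Nat.card B / 2) := by
    refine ⟨?_, Finset.sum_le_sum_of_subset fun B hB => (hP5card B hB).2⟩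
    have : (P 5).card ≤ R'.card := Finset.card_le_card fun B hB => (hP5card B hB).2
    omega
  have hsub : (P 5).card ≤ R'.card := Finset.card_le_card fun B hB => (hP5card B hB).2
  have heq : R'.card = (P 5).card := by omega
  have hg60 : g = 60 := by omega
  refine ⟨by omega, fun a ha => ?_⟩
  obtain ⟨k, hk⟩ := isConj_iff.1 (D.isConj_four hperf ha).symm
  rw [← hk, hcardC, ← hb0, hb02]

end Cfsg.Agent.Lib.ZassSL25
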