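import Mathlib
import Cfsg.Agent.Lib.ZassSL25.GoodChar
import Cfsg.Agent.Lib.ZassSL25.Cover

/-!
Zassenhaus: a perfect nontrivial group with a fixed-point-free character is `SL(2,5)`.
-/

set_option autoImplicit false

namespace Cfsg.Agent.Lib.ZassSL25

open Subgroup
open scoped commutatorElement

universe u v

/-- A homomorphism from a perfect group to a solvable one is trivial. -/
theorem map_eq_one_of_perfect {G : Type u} {H : Type v} [Group G] [Group H] [Group.IsSolvable H]
    (hperf : commutator G = ⊤) (f : G →* H) (g : G) : f g = 1 := by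
  have hr : ⁅f.range, f.range⁆ = f.range := by
    rw [MonoidHom.range_eq_map, ← map_commutator, ← _root_.commutator_def, hperf]
  obtain ⟨n, hn⟩ := Group.IsSolvable.solvable (G := H)
  have : ∀ k, f.range ≤ derivedSeries H k := by
    intro k
    induction k with
    | zero => exact le_top
    | succ k ih => rw [derivedSeries_succ, ← hr]; exact commutator_mono ih ih
  exact mem_bot.1 (hn ▸ this n ⟨g, rfl⟩)

theorem perfect_not_solvable {G : Type u} [Group G] [Nontrivial G] (hperf : commutator G = ⊤) :
    ¬ Group.IsSolvable G := fun _ => by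
  obtain ⟨g, hg⟩ := exists_ne (1 : G)
  exact hg (map_eq_one_of_perfect hperf (MonoidHom.id G) g)

/-- A perfect group of small order dividing 120 is trivial. -/
theorem perfect_small {G : Type u} [Group G] [Finite G] (hperf : commutator G = ⊤)
    (hd : Nat.card G ∣ 120) : Nat.card G = 1 ∨ Nat.card G = 60 ∨ Nat.card G = 120 := by
  by_contra hno
  push Not at hno
  obtain ⟨h1, h60, h120⟩ := hno
  haveI : Nontrivial G := Finite.one_lt_card_iff_nontrivial.1 (by have := Nat.card_pos (α := G); omega)
  have hns := perfect_not_solvable hperf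
  have hsf : ¬ Squarefree (Nat.card G) := fun h => by
    haveI := IsZGroup.of_squarefree h
    exact (IsZGroup.commutator_lt G).ne hperf
  have hpow : ∀ p k : ℕ, p.Prime → Nat.card G = p ^ k → False := fun p k hp hk => by
    haveI := Fact.mk hp
    haveI := (IsPGroup.of_card hk).isNilpotent
    exact hns inferInstance
  have hsyl : ∀ p m : ℕ, p.Prime → (p = 2 ∧ Nat.card G ∣ 2 ^ 3 * 3) ∨ (p = 5 ∧ Nat.card G ∣ 2 ^ 3 * 5) →
      p ∣ Nat.card G → m = Nat.card G → False := by
    intro p m hp hp25 hpd hm
    haveI := Fact.mk hp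
    obtain ⟨P⟩ := (inferInstance : Nonempty (Sylow p G))
    have hdn := P.card_dvd_index
    have hmod := card_sylow_modEq_one p G
    by_cases h : Nat.card (Sylow p G) = 1
    · haveI : Subsingleton (Sylow p G) := (Nat.card_eq_one_iff_unique.1 h).1
      have hPn : (P : Subgroup G).Normal := Sylow.normal_of_subsingleton P
      obtain ⟨a, ha⟩ := IsPGroup.iff_card.1 P.2
      have hsolv : Group.IsSolvable (G ⧸ (P : Subgroup G)) := by
        have hq : Nat.card (G ⧸ (P : Subgroup G)) = (P : Subgroup G).index := rfl
        have hi : (P : Subgroup G).index ∣ Nat.card G := index_dvd_card _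
        have hnd := P.not_dvd_index
        have hcases : (P : Subgroup G).index ∣ 2 ^ 3 ∨ (P : Subgroup G).index ∣ 3 ∨ (P : Subgroup G).index ∣ 5 := by
          have hcop : ((P : Subgroup G).index).Coprime (p ^ 3) :=
            ((hp.coprime_iff_not_dvd.2 hnd).symm).pow_right 3
          rcases hp25 with ⟨rfl, hdv⟩ | ⟨rfl, hdv⟩
          · exact Or.inr (Or.inl (hcop.dvd_of_dvd_mul_left (hi.trans hdv)))
          · exact Or.inl ((((Nat.prime_five).coprime_iff_not_dvd.2 hnd).symm).dvd_of_dvd_mul_right (hi.trans hdv))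
        have hpg : ∃ q k, q.Prime ∧ (P : Subgroup G).index = q ^ k := by
          rcases hcases with e | e | e
          · obtain ⟨k, -, hk⟩ := (Nat.dvd_prime_pow Nat.prime_two).1 e
            exact ⟨2, k, Nat.prime_two, hk⟩
          · rcases (Nat.dvd_prime Nat.prime_three).1 e with e' | e'
            · exact ⟨3, 0, Nat.prime_three, by rw [e', pow_zero]⟩
            · exact ⟨3, 1, Nat.prime_three, by rw [e', pow_one]⟩
          · rcases (Nat.dvd_prime Nat.prime_five).1 e with e' | e'
            · exact ⟨5, 0, Nat.prime_five, by rw [e', pow_zero]⟩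
            · exact ⟨5, 1, Nat.prime_five, by rw [e', pow_one]⟩
        obtain ⟨q, k, hqp, hk⟩ := hpg
        haveI := Fact.mk hqp
        haveI := (IsPGroup.of_card (hq.trans hk)).isNilpotent
        infer_instance
      haveI := hsolv
      have htop : (P : Subgroup G) = ⊤ := eq_top_iff.2 fun g _ =>
        (QuotientGroup.eq_one_iff g).1 (map_eq_one_of_perfect hperf (QuotientGroup.mk' _) g)
      exact hpow p a hp (by rw [← ha, htop, card_top])
    · have hn3 : Nat.card (Sylow p G) = 3 := by
        have hi : (P : Subgroup G).index ∣ Nat.card G := index_dvd_card _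
        have hnd := P.not_dvd_index
        rw [Nat.ModEq] at hmod
        rcases hp25 with ⟨rfl, hdv⟩ | ⟨rfl, hdv⟩
        · have hcop : ((P : Subgroup G).index).Coprime (2 ^ 3) :=
            ((hp.coprime_iff_not_dvd.2 hnd).symm).pow_right 3
          rcases (Nat.dvd_prime Nat.prime_three).1 (hdn.trans (hcop.dvd_of_dvd_mul_left (hi.trans hdv))) with e | e
          · exact absurd e h
          · exact e
        · exfalso
          have h8 : (P : Subgroup G).index ∣ 2 ^ 3 :=
            (((Nat.prime_five).coprime_iff_not_dvd.2 hnd).symm).dvd_of_dvd_mul_right (hi.trans hdv)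
          have hle := Nat.le_of_dvd (by norm_num) (hdn.trans h8)
          have hd8 := hdn.trans h8
          generalize Nat.card (Sylow 5 G) = n at *
          norm_num at hle hd8
          interval_cases n <;> first | omega | (norm_num at hd8) | (norm_num at hmod)
      haveI : Fintype (Sylow p G) := Fintype.ofFinite _
      haveI : IsZGroup (Equiv.Perm (Sylow p G)) := IsZGroup.of_squarefree (by
        rw [Nat.card_perm, hn3]; norm_num [Nat.factorial]
        rw [show (6 : ℕ) = 2 * 3 from rfl, Nat.squarefree_mul (by norm_num)]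
        exact ⟨Nat.prime_two.squarefree, Nat.prime_three.squarefree⟩)
      have htriv : ∀ g : G, g • P = P := fun g => by
        have := map_eq_one_of_perfect hperf (MulAction.toPermHom G (Sylow p G)) g
        exact Equiv.congr_fun this P
      haveI : Subsingleton (Sylow p G) := ⟨fun A B => by
        obtain ⟨g, hg⟩ := MulAction.exists_smul_eq G P A
        obtain ⟨g', hg'⟩ := MulAction.exists_smul_eq G P B
        rw [← hg, ← hg', htriv, htriv]⟩
      have : Nat.card (Sylow p G) = 1 := Nat.card_eq_one_iff_unique.2 ⟨inferInstance, ⟨P⟩⟩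
      omega
  have hmem : Nat.card G ∈ (120 : ℕ).divisors := Nat.mem_divisors.2 ⟨hd, by norm_num⟩
  rw [show (120 : ℕ).divisors = {1, 2, 3, 4, 5, 6, 8, 10, 12, 15, 20, 24, 30, 40, 60, 120} by decide +kernel] at hmem
  simp only [Finset.mem_insert, Finset.mem_singleton] at hmem
  rcases hmem with e | e | e | e | e | e | e | e | e | e | e | e | e | e | e | e
  · exact h1 e
  · exact hpow 2 1 Nat.prime_two (by omega)
  · exact hpow 3 1 Nat.prime_three (by omega)
  · exact hpow 2 2 Nat.prime_two (by omega)
  · exact hpow 5 1 Nat.prime_five (by omega)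
  · exact hsf (by rw [e, show (6 : ℕ) = 2 * 3 from rfl, Nat.squarefree_mul (by norm_num)]; exact ⟨Nat.prime_two.squarefree, Nat.prime_three.squarefree⟩)
  · exact hpow 2 3 Nat.prime_two (by omega)
  · exact hsf (by rw [e, show (10 : ℕ) = 2 * 5 from rfl, Nat.squarefree_mul (by norm_num)]; exact ⟨Nat.prime_two.squarefree, Nat.prime_five.squarefree⟩)
  · exact hsyl 2 _ Nat.prime_two (Or.inl ⟨rfl, by rw [e]; norm_num⟩) (by rw [e]; norm_num) rfl
  · exact hsf (by rw [e, show (15 : ℕ) = 3 * 5 from rfl, Nat.squarefree_mul (by norm_num)]; exact ⟨Nat.prime_three.squarefree, Nat.prime_five.squarefree⟩)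
  · exact hsyl 5 _ Nat.prime_five (Or.inr ⟨rfl, by rw [e]; norm_num⟩) (by rw [e]; norm_num) rfl
  · exact hsyl 2 _ Nat.prime_two (Or.inl ⟨rfl, by rw [e]; norm_num⟩) (by rw [e]; norm_num) rfl
  · refine hsf (e ▸ ?_)
    rw [show (30 : ℕ) = 2 * 15 from rfl, Nat.squarefree_mul (by norm_num), show (15 : ℕ) = 3 * 5 from rfl,
      Nat.squarefree_mul (by norm_num)]
    exact ⟨Nat.prime_two.squarefree, Nat.prime_three.squarefree, Nat.prime_five.squarefree⟩
  · exact hsyl 5 _ Nat.prime_five (Or.inr ⟨rfl, by rw [e]; norm_num⟩) (by rw [e]; norm_num) rfl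
  · exact h60 e
  · exact h120 e

/-- A perfect group of order 120 with a unique involution is a double cover of `A₅`. -/
theorem nonempty_icoCover {G : Type u} [Group G] [Finite G] (hc : Nat.card G = 120)
    (hperf : commutator G = ⊤) {z : G} (hz : orderOf z = 2) (huniq : ∀ t : G, orderOf t = 2 → t = z) :
    Nonempty (IcoCover G) := by
  set Z := zpowers z
  haveI hZn : Z.Normal := ⟨fun v hv g => by
    obtain ⟨k, rfl⟩ := mem_zpowers_iff.1 hv
    rw [← conj_zpow, huniq (g * z * g⁻¹) ((orderOf_injective (MulAut.conj g).toMonoidHom (MulAut.conj g).injective z).trans hz)]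
    exact zpow_mem (mem_zpowers z) k⟩
  let q := QuotientGroup.mk' Z
  have hQc : Nat.card (G ⧸ Z) = 60 := by
    have := Z.card_mul_index
    rw [Nat.card_zpowers, hz, hc] at this
    show Z.index = 60
    omega
  have hQp : commutator (G ⧸ Z) = ⊤ := by
    rw [_root_.commutator_def, ← MonoidHom.range_eq_top.2 (QuotientGroup.mk'_surjective Z),
      MonoidHom.range_eq_map, ← map_commutator, ← _root_.commutator_def, hperf]
  haveI : Nontrivial (G ⧸ Z) := Finite.one_lt_card_iff_nontrivial.1 (by omega)
  haveI : IsSimpleGroup (G ⧸ Z) := by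
    refine ⟨fun N hN => ?_⟩
    by_contra hno
    push Not at hno
    have hp : commutator ((G ⧸ Z) ⧸ N) = ⊤ := by
      rw [_root_.commutator_def, ← MonoidHom.range_eq_top.2 (QuotientGroup.mk'_surjective N),
        MonoidHom.range_eq_map, ← map_commutator, ← _root_.commutator_def, hQp]
    have hi : Nat.card N * N.index = 60 := hQc ▸ N.card_mul_index
    rcases perfect_small hp (show N.index ∣ 120 from (Dvd.intro_left _ hi).trans (by norm_num)) with e | e | e
    · exact hno.2 (index_eq_one.1 e)
    · exact hno.1 (eq_bot_of_card_eq N (by rw [show N.index = 60 from e] at hi; omega))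
    · rw [show N.index = 120 from e] at hi; omega
  obtain ⟨e⟩ := Lib.SmallSimple.nonempty_mulEquiv_alternatingFive hQc
  refine ⟨⟨z, hz, fun t ht => ?_, e.toMonoidHom.comp q, e.surjective.comp (QuotientGroup.mk'_surjective Z),
    fun g => ?_⟩⟩
  · rcases eq_or_ne t 1 with rfl | h1
    · exact Or.inl rfl
    · exact Or.inr (huniq t (orderOf_eq_prime ht h1))
  · show e (q g) = 1 ↔ _
    rw [MulEquiv.map_eq_one_iff, QuotientGroup.mk'_apply, QuotientGroup.eq_one_iff]
    constructor
    · intro hg
      classical
      rw [mem_zpowers_iff_mem_range_orderOf, Finset.mem_image, hz] at hg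
      obtain ⟨m, hm, rfl⟩ := hg
      rw [Finset.mem_range] at hm
      interval_cases m
      · exact Or.inl (pow_zero z)
      · exact Or.inr (pow_one z)
    · rintro (rfl | rfl)
      · exact one_mem _
      · exact mem_zpowers _

variable {G : Type u} [Group G] [Finite G]

/-- The main theorem on the order. -/
theorem fpf_perfect_card (n : ℕ) :
    ∀ (G : Type u) [Group G] [Finite G], Nat.card G = n → FPFGroup G → commutator G = ⊤ → Nontrivial G →
      Nat.card G = 120 ∧ ∀ a : G, orderOf a = 4 → Nat.card (centralizer ({a} : Set G)) = 4 := by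
  induction n using Nat.strong_induction_on with
  | _ n ih =>
    intro G _ _ hn h hperf hnt
    haveI := hnt
    obtain ⟨D⟩ := exists_qData h hperf
    have hIH : SmallPerfect G := by
      intro L hL hL1 hLp
      have hlt : Nat.card L < n := hn ▸ lt_of_le_of_ne (card_le_card_group L) fun e => hL (eq_top_of_card_eq L e)
      haveI : Nontrivial L := L.nontrivial_iff_ne_bot.2 hL1
      have hc : commutator L = ⊤ := by
        refine Subgroup.map_injective L.subtype_injective ?_
        rw [_root_.commutator_def, map_commutator, ← MonoidHom.range_eq_map, range_subtype, hLp]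
      obtain ⟨h120, h4⟩ := ih _ hlt L rfl (h.subgroup L) hc inferInstance
      refine ⟨h120, fun a ha ha4 v hv hva => ?_⟩
      have hd : orderOf (⟨v, hv⟩ : L) ∣ 4 := h4 ⟨a, ha⟩ (by rwa [orderOf_mk]) ▸
        Subgroup.orderOf_dvd_natCard _ (mem_centralizer_singleton_iff.2 (Subtype.ext hva.eq))
      rw [orderOf_mk] at hd
      exact orderOf_dvd_iff_pow_eq_one.1 hd
    exact D.good_card h hperf (D.not_bad h hperf hIH)

/-- Zassenhaus: a perfect nontrivial group with a fixed-point-free character is `SL(2,5)`. -/
theorem FPFGroup.nonempty_mulEquiv_sl [Nontrivial G] (h : FPFGroup G) (hperf : commutator G = ⊤) :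
    Nonempty (G ≃* Matrix.SpecialLinearGroup (Fin 2) (ZMod 5)) := by
  obtain ⟨hc, -⟩ := fpf_perfect_card _ G rfl h hperf inferInstance
  obtain ⟨D⟩ := exists_qData h hperf
  obtain ⟨C⟩ := nonempty_icoCover hc hperf D.ord_z D.uniq
  obtain ⟨C'⟩ := nonempty_icoCover_sl
  exact C.nonempty_mulEquiv C'

end Cfsg.Agent.Lib.ZassSL25
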