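import Mathlib
import Cfsg.Agent.Lib.ZassSL25.Main
import Cfsg.Agent.Lib.Icosa.AutFive
import Cfsg.Agent.Lib.Struct4.FCModule

/-!
The structure of nonsolvable groups with a fixed-point-free character.
-/

set_option autoImplicit false

namespace Cfsg.Agent.Lib.ZassSL25

open Subgroup

universe u v

/-- A Frobenius complement has a fixed-point-free character. -/
theorem fpfGroup_of_isFC {G : Type u} [Group G] [Finite G] (hG : Struct4.IsFC G) : FPFGroup G := by
  obtain ⟨q, hq, hqp⟩ := Nat.exists_infinite_primes (Nat.card G + 1)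
  haveI := Fact.mk hqp
  have hcard : 0 < Nat.card G := Nat.card_pos
  obtain ⟨T, _, _, _, ρ, -, hfix⟩ := Struct4.exists_module_of_fc hG (q := q)
    (fun hd => by have := Nat.le_of_dvd hcard hd; omega)
  have hinv : ∀ (g : G) (t : T), ρ g⁻¹ (ρ g t) = t := fun g t => by
    show (ρ g⁻¹ * ρ g) t = t
    rw [← map_mul, inv_mul_cancel, map_one]; rfl
  let e : G → (T ≃+ T) := fun g =>
    { toFun := ρ g
      invFun := ρ g⁻¹
      left_inv := hinv g
      right_inv := fun t => by simpa using hinv g⁻¹ t
      map_add' := map_add (ρ g) }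
  let a : G →* MulAut (Multiplicative T) :=
    { toFun := fun g => AddEquiv.toMultiplicative (e g)
      map_one' := MulEquiv.ext fun t => by
        show Multiplicative.ofAdd (ρ 1 t.toAdd) = t
        rw [map_one]; rfl
      map_mul' := fun g h => MulEquiv.ext fun t => by
        show Multiplicative.ofAdd (ρ (g * h) t.toAdd) = Multiplicative.ofAdd (ρ g (ρ h t.toAdd))
        rw [map_mul]; rfl }
  haveI := Fintype.ofFinite G
  obtain ⟨χ, hχ⟩ := exists_fpfChar a fun g hg t ht => by
    have h := hfix g hg t.toAdd (congrArg Multiplicative.toAdd ht)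
    exact Multiplicative.toAdd.injective h
  exact hχ.fpfGroup

variable {G : Type u} [Group G] [Finite G]

/-- A nonsolvable group has a nontrivial perfect characteristic term in its derived series. -/
theorem exists_perfect_normal (hns : ¬ Group.IsSolvable G) :
    ∃ L : Subgroup G, L.Normal ∧ L ≠ ⊥ ∧ commutator L = ⊤ := by
  have hmono : ∀ k, derivedSeries G (k + 1) ≤ derivedSeries G k := fun k => derivedSeries_antitone G k.le_succ
  obtain ⟨n, hn⟩ : ∃ n, derivedSeries G (n + 1) = derivedSeries G n := by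
    by_contra hno
    push Not at hno
    have hlt : ∀ k, Nat.card (derivedSeries G (k + 1)) < Nat.card (derivedSeries G k) := fun k =>
      lt_of_le_of_ne (card_le_of_le (hmono k)) fun e => hno k (eq_of_le_of_card_ge (hmono k) e.ge)
    have hbound : ∀ k, Nat.card (derivedSeries G k) + k ≤ Nat.card G := by
      intro k
      induction k with
      | zero => simp
      | succ k ih => have := hlt k; omega
    have := hbound (Nat.card G)
    have := Nat.card_pos (α := derivedSeries G (Nat.card G))
    omega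
  refine ⟨derivedSeries G n, derivedSeries_normal G n, fun e => hns ⟨⟨n, e⟩⟩, ?_⟩
  refine Subgroup.map_injective (derivedSeries G n).subtype_injective ?_
  rw [_root_.commutator_def, map_commutator, ← MonoidHom.range_eq_map, range_subtype,
    ← derivedSeries_succ, hn]

/-- The pieces of a nonsolvable group with a fixed-point-free character. -/
structure NonsolvData (G : Type u) [Group G] where
  /-- The perfect residual. -/
  S : Subgroup G
  S_normal : S.Normal
  iso : Nonempty (S ≃* Matrix.SpecialLinearGroup (Fin 2) (ZMod 5))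
  /-- The action on `S` modulo its centre. -/
  act : G →* MulAut (alternatingGroup (Fin 5))
  /-- The odd part of the centralizer of `S`. -/
  M : Subgroup G
  M_normal : M.Normal
  M_odd : Odd (Nat.card M)
  M_coprime : (Nat.card M).Coprime 30
  M_isZ : IsZGroup M
  /-- The involution. -/
  z : G
  z_sq : z * z = 1
  z_mem : z ∈ S
  z_comm : ∀ g : G, Commute g z
  disjoint : S ⊓ M = ⊥
  commutes : ∀ s ∈ S, ∀ x ∈ M, Commute s x
  mem_ker : ∀ g : G, act g = 1 ↔ ∃ m ∈ M, g = m ∨ g = m * z
  inner : ∀ g : G, act g ∈ (MulAut.conj : alternatingGroup (Fin 5) →* _).range ↔ g ∈ S ⊔ M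
  inner_le : (MulAut.conj : alternatingGroup (Fin 5) →* _).range ≤ act.range

theorem exists_nonsolvData (h : FPFGroup G) (hns : ¬ Group.IsSolvable G) : Nonempty (NonsolvData G) := by
  classical
  obtain ⟨S, hSn, hS1, hSp⟩ := exists_perfect_normal hns
  haveI := hSn
  haveI : Nontrivial S := S.nontrivial_iff_ne_bot.2 hS1
  obtain ⟨hc, -⟩ := fpf_perfect_card _ S rfl (h.subgroup S) hSp inferInstance
  have hiso := (h.subgroup S).nonempty_mulEquiv_sl hSp
  obtain ⟨D⟩ := exists_qData (h.subgroup S) hSp
  obtain ⟨C⟩ := nonempty_icoCover hc hSp D.ord_z D.uniq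
  set z : G := ((C.z : S) : G)
  have hz : orderOf z = 2 := by rw [Subgroup.orderOf_coe, C.ord_z]
  have hzz : z * z = 1 := by rw [← pow_two, ← hz, pow_orderOf_eq_one]
  have huniq : ∀ t : G, t ^ 2 = 1 → t = 1 ∨ t = z := fun t ht => by
    rcases eq_or_ne t 1 with h1 | h1
    · exact Or.inl h1
    · exact Or.inr (involution_unique h (orderOf_eq_prime ht h1) hz)
  have hzc : ∀ g : G, Commute g z := fun g => by
    have h1 : orderOf (g * z * g⁻¹) = 2 := (orderOf_conj' g z).trans hz
    exact mul_inv_eq_iff_eq_mul.1 (involution_unique h h1 hz)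
  -- conjugation descends to the quotient
  set cj : G →* MulAut S := MulAut.conjNormal
  have hcj : ∀ g (s : S), ((cj g s : S) : G) = g * s * g⁻¹ := fun g s => MulAut.conjNormal_apply g s
  have hwd : ∀ g (s t : S), C.π s = C.π t → C.π (cj g s) = C.π (cj g t) := by
    intro g s t hst
    have hker := (C.ker_eq (s⁻¹ * t)).1 (by rw [map_mul, map_inv, hst, inv_mul_cancel])
    have h2 : C.π (cj g (s⁻¹ * t)) = 1 := by
      refine (C.ker_eq _).2 ?_
      rcases hker with e | e <;> rw [e]
      · exact Or.inl (map_one _)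
      · refine Or.inr (Subtype.ext ?_)
        rw [hcj, (hzc g).eq, mul_inv_cancel_right]
    rwa [map_mul, map_inv, map_mul, map_inv, inv_mul_eq_one] at h2
  let sinv := Function.surjInv C.surj
  have hsinv : ∀ a, C.π (sinv a) = a := Function.surjInv_eq C.surj
  have happ : ∀ g (s : S), C.π (cj g (sinv (C.π s))) = C.π (cj g s) := fun g s => hwd g _ _ (hsinv _)
  let actFun : G → alternatingGroup (Fin 5) → alternatingGroup (Fin 5) := fun g a => C.π (cj g (sinv a))
  have hfun : ∀ g (s : S), actFun g (C.π s) = C.π (cj g s) := happ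
  have hmul : ∀ g g' a, actFun g (actFun g' a) = actFun (g * g') a := fun g g' a => by
    obtain ⟨s, rfl⟩ := C.surj a
    show actFun g (actFun g' (C.π s)) = actFun (g * g') (C.π s)
    rw [hfun g' s, hfun g (cj g' s), hfun (g * g') s, map_mul]; rfl
  have hone : ∀ a, actFun 1 a = a := fun a => by
    obtain ⟨s, rfl⟩ := C.surj a
    rw [hfun, map_one]; rfl
  let act : G →* MulAut (alternatingGroup (Fin 5)) :=
    { toFun := fun g =>
        { toFun := actFun g
          invFun := actFun g⁻¹
          left_inv := fun a => by rw [hmul, inv_mul_cancel, hone]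
          right_inv := fun a => by rw [hmul, mul_inv_cancel, hone]
          map_mul' := fun a b => by
            obtain ⟨s, rfl⟩ := C.surj a
            obtain ⟨t, rfl⟩ := C.surj b
            rw [← map_mul, hfun, hfun, hfun, map_mul, map_mul] }
      map_one' := MulEquiv.ext hone
      map_mul' := fun g g' => MulEquiv.ext fun a => (hmul g g' a).symm }
  have hact : ∀ g (s : S), act g (C.π s) = C.π (cj g s) := hfun
  -- the kernel is the centralizer of `S`
  set K := centralizer (S : Set G)
  haveI hKn : K.Normal := inferInstance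
  have hker : ∀ g, act g = 1 ↔ g ∈ K := by
    intro g
    constructor
    · intro hg
      have hd : ∀ s : S, s⁻¹ * cj g s ∈ zpowers C.z := fun s => by
        have h1 : C.π (cj g s) = C.π s := by rw [← hact, hg]; rfl
        rcases (C.ker_eq (s⁻¹ * cj g s)).1 (by rw [map_mul, map_inv, h1, inv_mul_cancel]) with e | e <;> rw [e]
        · exact one_mem _
        · exact mem_zpowers _
      let δ : S →* zpowers C.z :=
        { toFun := fun s => ⟨s⁻¹ * cj g s, hd s⟩
          map_one' := Subtype.ext (by show (1 : S)⁻¹ * cj g 1 = 1; simp)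
          map_mul' := fun s t => Subtype.ext (by
            show (s * t)⁻¹ * cj g (s * t) = s⁻¹ * cj g s * (t⁻¹ * cj g t)
            obtain ⟨k, hk⟩ := mem_zpowers_iff.1 (hd s)
            rw [map_mul, mul_inv_rev, show t⁻¹ * s⁻¹ * (cj g s * cj g t) = t⁻¹ * (s⁻¹ * cj g s) * cj g t by group,
              ← hk, ((C.z_comm t⁻¹).zpow_right k).eq]
            group) }
      haveI : Fact (Nat.Prime 2) := ⟨Nat.prime_two⟩
      haveI := (IsPGroup.of_card (n := 1) (by rw [Nat.card_zpowers, C.ord_z, pow_one]) :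
        IsPGroup 2 (zpowers C.z)).isNilpotent
      rw [mem_centralizer_iff]
      intro s hs
      have h1 : (⟨s, hs⟩ : S)⁻¹ * cj g ⟨s, hs⟩ = 1 := congrArg Subtype.val (map_eq_one_of_perfect hSp δ ⟨s, hs⟩)
      have h2 := congrArg Subtype.val (inv_mul_eq_one.1 h1)
      rw [hcj] at h2
      exact eq_mul_inv_iff_mul_eq.1 h2
    · intro hg
      refine MulEquiv.ext fun a => ?_
      obtain ⟨s, rfl⟩ := C.surj a
      rw [hact, MulAut.one_apply]
      congr 1
      apply Subtype.ext
      rw [hcj, ← mem_centralizer_iff.1 hg s s.2, mul_inv_cancel_right]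
  have hinner : ∀ s : S, act s = MulAut.conj (C.π s) := fun s => MulEquiv.ext fun a => by
    obtain ⟨t, rfl⟩ := C.surj a
    rw [hact, MulAut.conj_apply, ← map_inv, ← map_mul, ← map_mul]
    congr 1
  have hKS : ∀ v ∈ K, v ∈ S → v = 1 ∨ v = z := by
    intro v hvK hvS
    have h1 : C.π ⟨v, hvS⟩ = 1 := by
      refine mem_bot.1 (Icosa.center_alt ▸ mem_center_iff.2 fun a => ?_)
      obtain ⟨t, rfl⟩ := C.surj a
      rw [← map_mul, ← map_mul]
      congr 1
      exact Subtype.ext (mem_centralizer_iff.1 hvK t t.2)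
    rcases (C.ker_eq _).1 h1 with e | e
    · exact Or.inl (congrArg Subtype.val e)
    · exact Or.inr (congrArg Subtype.val e)
  have hi4 : orderOf ((D.i : S) : G) = 4 := by rw [Subgroup.orderOf_coe, D.ord_i]
  have h2sq : ∀ {v : G}, orderOf v = 4 → v ^ 2 = z := fun {v} hv => by
    refine involution_unique h ?_ hz
    rw [orderOf_pow' _ (by norm_num), hv]; rfl
  have hno4 : ∀ a ∈ K, orderOf a ≠ 4 := by
    intro a ha h4
    have hca : Commute a ((D.i : S) : G) := (mem_centralizer_iff.1 ha _ (D.i : S).2).symm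
    have hsq : (a * ((D.i : S) : G)) ^ 2 = 1 := by rw [hca.mul_pow, h2sq h4, h2sq hi4, hzz]
    have hS' : a ∈ S := by
      rw [← mul_inv_cancel_right a ((D.i : S) : G)]
      refine mul_mem ?_ (inv_mem (D.i : S).2)
      rcases huniq _ hsq with e | e <;> rw [e]
      · exact one_mem _
      · exact (C.z : S).2
    rcases hKS a ha hS' with e | e
    · rw [e, orderOf_one] at h4; norm_num at h4
    · rw [e, hz] at h4; norm_num at h4
  have hT2 : ∀ T : Subgroup G, T ≤ K → IsPGroup 2 T → T ≤ zpowers z := by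
    intro T hT hTp t ht
    obtain ⟨k, hk⟩ := orderOf_isPGroup hTp ht
    have h2 : t ^ 2 = 1 := by
      by_contra h2
      have hk2 : 2 ≤ k := by
        by_contra hlt
        exact h2 (orderOf_dvd_iff_pow_eq_one.1 (hk ▸ (pow_dvd_pow 2 (show k ≤ 1 by omega)).trans (by norm_num)))
      refine hno4 _ (pow_mem (hT ht) (2 ^ (k - 2))) ?_
      rw [orderOf_pow' _ (by positivity), hk, Nat.gcd_eq_right (pow_dvd_pow 2 (by omega)),
        Nat.pow_div (by omega) (by norm_num), show k - (k - 2) = 2 by omega]
    rcases huniq t h2 with e | e <;> rw [e]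
    · exact one_mem _
    · exact mem_zpowers _
  obtain ⟨M, T, hMK, hTK, -, hModd, hMmem, hTp, -, -, hdec⟩ := exists_odd_complement K fun T hT hTp =>
    isCyclic_of_injective (inclusion (hT2 T hT hTp)) (inclusion_injective _)
  have hMn : M.Normal := ⟨fun v hv g => hMmem _ (hKn.conj_mem v (hMK hv) g)
    (by rw [orderOf_conj']; exact Odd.of_dvd_nat hModd (M.orderOf_dvd_natCard hv))⟩
  have hdisj : S ⊓ M = ⊥ := (eq_bot_iff_forall _).2 fun v hv => by
    rcases hKS v (hMK hv.2) hv.1 with e | e
    · exact e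
    · exfalso
      have := M.orderOf_dvd_natCard hv.2
      rw [e, hz] at this
      exact Nat.not_even_iff_odd.2 hModd (even_iff_two_dvd.2 this)
  have hcomm : ∀ s ∈ S, ∀ x ∈ M, Commute s x := fun s hs x hx => mem_centralizer_iff.1 (hMK hx) s hs
  have hcop : (Nat.card M).Coprime 30 := by
    have hr : ∀ r : ℕ, r.Prime → r ∣ 120 → r ≠ 2 → ¬ r ∣ Nat.card M := by
      intro r hr hr120 hr2 hd
      haveI := Fact.mk hr
      obtain ⟨v, hv⟩ := exists_prime_orderOf_dvd_card' (G := M) r hd
      obtain ⟨w, hw⟩ := exists_prime_orderOf_dvd_card' (G := S) r (hc.symm ▸ hr120)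
      rw [← Subgroup.orderOf_coe] at hv hw
      have he := zpowers_eq_of_commute h hr hv hw (hcomm w w.2 v v.2).symm
      have hvS : (v : G) ∈ S := zpowers_le.2 w.2 (he ▸ mem_zpowers (v : G))
      have h1 : (v : G) = 1 := mem_bot.1 (hdisj ▸ ⟨hvS, v.2⟩ : (v : G) ∈ (⊥ : Subgroup G))
      rw [h1, orderOf_one] at hv
      exact hr.ne_one hv.symm
    have h2 : ¬ 2 ∣ Nat.card M := fun e => Nat.not_even_iff_odd.2 hModd (even_iff_two_dvd.2 e)
    rw [show (30 : ℕ) = 2 * 3 * 5 from rfl]
    exact ((Nat.prime_two.coprime_iff_not_dvd.2 h2).symm.mul_right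
      (Nat.prime_three.coprime_iff_not_dvd.2 (hr 3 Nat.prime_three (by norm_num) (by norm_num))).symm).mul_right
      (Nat.prime_five.coprime_iff_not_dvd.2 (hr 5 Nat.prime_five (by norm_num) (by norm_num))).symm
  have hK : ∀ g, g ∈ K ↔ ∃ m ∈ M, g = m ∨ g = m * z := by
    intro g
    constructor
    · intro hg
      obtain ⟨m, hm, t, ht, rfl⟩ := hdec g hg
      refine ⟨m, hm, ?_⟩
      have htz := hT2 T hTK hTp ht
      rw [mem_zpowers_iff_mem_range_orderOf, hz, Finset.mem_image] at htz
      obtain ⟨k, hk, rfl⟩ := htz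
      rw [Finset.mem_range] at hk
      interval_cases k
      · exact Or.inl (by rw [pow_zero, mul_one])
      · exact Or.inr (by rw [pow_one])
    · rintro ⟨m, hm, rfl | rfl⟩
      · exact hMK hm
      · exact mul_mem (hMK hm) (mem_centralizer_iff.2 fun s _ => (hzc s).eq)
  refine ⟨⟨S, hSn, hiso, act, M, hMn, hModd, hcop, isZGroup_of_odd h hModd, z, hzz, (C.z : S).2, hzc,
    hdisj, hcomm, fun g => (hker g).trans (hK g), fun g => ?_, ?_⟩⟩
  · constructor
    · rintro ⟨a, ha⟩
      obtain ⟨s, rfl⟩ := C.surj a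
      have h1 : g = (s : G) * ((s : G)⁻¹ * g) := (mul_inv_cancel_left _ _).symm
      obtain ⟨m, hm, e⟩ := (hK _).1 ((hker ((s : G)⁻¹ * g)).1 (by
        rw [map_mul, map_inv, hinner, ha, inv_mul_cancel]))
      rw [h1]
      refine mul_mem ((le_sup_left : S ≤ S ⊔ M) s.2) ?_
      rcases e with e | e <;> rw [e]
      · exact (le_sup_right : M ≤ S ⊔ M) hm
      · exact mul_mem ((le_sup_right : M ≤ S ⊔ M) hm) ((le_sup_left : S ≤ S ⊔ M) (C.z : S).2)
    · intro hg
      have : S ⊔ M ≤ (MulAut.conj : alternatingGroup (Fin 5) →* _).range.comap act := by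
        refine sup_le (fun s hs => ?_) fun m hm => ?_
        · exact ⟨C.π ⟨s, hs⟩, (hinner ⟨s, hs⟩).symm⟩
        · rw [Subgroup.mem_comap, (hker m).2 (hMK hm)]; exact one_mem _
      exact this hg
  · rintro _ ⟨a, rfl⟩
    obtain ⟨s, rfl⟩ := C.surj a
    exact ⟨s, hinner s⟩

end Cfsg.Agent.Lib.ZassSL25
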