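import Mathlib
import Cfsg.Agent.Lib.ZassSL25.Structure
import Cfsg.Agent.Lib.ZassSL25.CoreFree

/-!
The six possible quotients of a group with a fixed-point-free character by a normal Z-subgroup.
-/

set_option autoImplicit false

namespace Cfsg.Agent.Lib.ZassSL25

open Subgroup

universe u v

/-- The properties of the five noncyclic quotients that are needed. -/
structure GoodQuot (L : Type v) [Group L] : Prop where
  odd_free : ∀ N : Subgroup L, N.Normal → Odd (Nat.card N) → N = ⊥
  klein : ∃ a b : L, a ≠ 1 ∧ b ≠ 1 ∧ a ≠ b ∧ a * a = 1 ∧ b * b = 1 ∧ a * b = b * a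
  card_mem : Nat.card L = 4 ∨ Nat.card L = 12 ∨ Nat.card L = 24 ∨ Nat.card L = 60 ∨ Nat.card L = 120
  four : Nat.card L = 4 → ∀ x : L, x * x = 1
  center : Nat.card L = 120 → ∀ x : L, (∀ y, x * y = y * x) → x = 1

/-- A test for the absence of odd normal subgroups. -/
theorem odd_free_of_commutators {L : Type v} [Group L] [Finite L] (hcard : Nat.card L ∣ 120)
    (h : ∀ x : L, x ≠ 1 → x ^ 15 = 1 →
      (∃ g, (g * x * g⁻¹ * x⁻¹) * (g * x * g⁻¹ * x⁻¹) = 1 ∧ g * x * g⁻¹ * x⁻¹ ≠ 1) ∨
      (∃ g, (g * x * g⁻¹ * x⁻¹) ^ 3 = 1 ∧ g * x * g⁻¹ * x⁻¹ ≠ 1 ∧ ∃ k,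
        (k * (g * x * g⁻¹ * x⁻¹) * k⁻¹ * (g * x * g⁻¹ * x⁻¹)⁻¹) *
          (k * (g * x * g⁻¹ * x⁻¹) * k⁻¹ * (g * x * g⁻¹ * x⁻¹)⁻¹) = 1 ∧
        k * (g * x * g⁻¹ * x⁻¹) * k⁻¹ * (g * x * g⁻¹ * x⁻¹)⁻¹ ≠ 1))
    (N : Subgroup L) (hN : N.Normal) (hodd : Odd (Nat.card N)) : N = ⊥ := by
  refine (eq_bot_iff_forall _).2 fun x hx => ?_
  by_contra hx1
  have hinv : ∀ c ∈ N, c * c = 1 → c = 1 := fun c hc h2 => by
    by_contra hc1
    have hd := N.orderOf_dvd_natCard hc
    rw [orderOf_eq_prime (hp := ⟨Nat.prime_two⟩) (by rw [pow_two]; exact h2) hc1] at hd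
    exact Nat.not_even_iff_odd.2 hodd (even_iff_two_dvd.2 hd)
  have hxo : Odd (orderOf x) := Odd.of_dvd_nat hodd (N.orderOf_dvd_natCard hx)
  have h15 : x ^ 15 = 1 := orderOf_dvd_iff_pow_eq_one.1
    (((Nat.coprime_two_right.2 hxo).pow_right 3).dvd_of_dvd_mul_left
      (show orderOf x ∣ 2 ^ 3 * 15 from (orderOf_dvd_natCard x).trans hcard))
  have hmem : ∀ g, ∀ v ∈ N, g * v * g⁻¹ * v⁻¹ ∈ N := fun g v hv => mul_mem (hN.conj_mem v hv g) (inv_mem hv)
  rcases h x hx1 h15 with ⟨g, hg2, hg1⟩ | ⟨g, -, -, k, hk2, hk1⟩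
  · exact hg1 (hinv _ (hmem g x hx) hg2)
  · exact hk1 (hinv _ (hmem k _ (hmem g x hx)) hk2)

theorem good_klein : GoodQuot (DihedralGroup 2) where
  odd_free := odd_free_of_commutators (by rw [Nat.card_eq_fintype_card, DihedralGroup.card]; norm_num) (by decide)
  klein := ⟨.r 1, .sr 0, by decide, by decide, by decide, by decide, by decide, by decide⟩
  card_mem := Or.inl (by rw [Nat.card_eq_fintype_card, DihedralGroup.card])
  four := fun _ => by decide
  center := fun h => by rw [Nat.card_eq_fintype_card, DihedralGroup.card] at h; norm_num at h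

theorem card_alt_four : Nat.card (alternatingGroup (Fin 4)) = 12 := by
  rw [Nat.card_eq_fintype_card]; decide +kernel

theorem good_alt_four : GoodQuot (alternatingGroup (Fin 4)) where
  odd_free := odd_free_of_commutators (by rw [card_alt_four]; norm_num) (by decide +kernel)
  klein := by decide +kernel
  card_mem := Or.inr (Or.inl card_alt_four)
  four := fun h => by rw [card_alt_four] at h; norm_num at h
  center := fun h => by rw [card_alt_four] at h; norm_num at h

theorem card_perm_four : Nat.card (Equiv.Perm (Fin 4)) = 24 := by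
  rw [Nat.card_eq_fintype_card, Fintype.card_perm, Fintype.card_fin]; rfl

theorem good_perm_four : GoodQuot (Equiv.Perm (Fin 4)) where
  odd_free := odd_free_of_commutators (by rw [card_perm_four]; norm_num) (by decide +kernel)
  klein := by decide +kernel
  card_mem := Or.inr (Or.inr (Or.inl card_perm_four))
  four := fun h => by rw [card_perm_four] at h; norm_num at h
  center := fun h => by rw [card_perm_four] at h; norm_num at h

theorem good_alt_five : GoodQuot (alternatingGroup (Fin 5)) where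
  odd_free := odd_free_of_commutators (by rw [Icosa.card_alt]; norm_num) (by decide +kernel)
  klein := by decide +kernel
  card_mem := Or.inr (Or.inr (Or.inr (Or.inl Icosa.card_alt)))
  four := fun h => by rw [Icosa.card_alt] at h; norm_num at h
  center := fun h => by rw [Icosa.card_alt] at h; norm_num at h

theorem card_perm_five : Nat.card (Equiv.Perm (Fin 5)) = 120 := by
  rw [Nat.card_eq_fintype_card, Fintype.card_perm, Fintype.card_fin]; rfl

theorem good_perm_five : GoodQuot (Equiv.Perm (Fin 5)) where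
  odd_free := odd_free_of_commutators (by rw [card_perm_five]) (by decide +kernel)
  klein := by decide +kernel
  card_mem := Or.inr (Or.inr (Or.inr (Or.inr card_perm_five)))
  four := fun h => by rw [card_perm_five] at h; norm_num at h
  center := fun _ => by decide +kernel

variable {G : Type u} [Group G] [Finite G]

/-- The kernel of a map onto one of the five quotients. -/
structure GoodKer (N : Subgroup G) : Prop where
  odd_le : ∀ O : Subgroup G, O.Normal → Odd (Nat.card O) → O ≤ N
  notZ : ¬ IsZGroup G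
  two : ∃ a b : G, a ∉ N ∧ b ∉ N ∧ a * b⁻¹ ∉ N ∧ a * a ∈ N ∧ b * b ∈ N
  index_mem : N.index = 4 ∨ N.index = 12 ∨ N.index = 24 ∨ N.index = 60 ∨ N.index = 120
  four : N.index = 4 → ∀ g : G, g ^ 2 ∈ N
  center : N.index = 120 → ∀ x : G, (∀ g : G, g * x * g⁻¹ * x⁻¹ ∈ N) → x ∈ N

omit [Finite G] in
theorem not_isZGroup_of_klein {L : Type v} [Group L] [Finite L] {a b : L} (ha : a ≠ 1) (hb : b ≠ 1) (hab : a ≠ b)
    (ha2 : a * a = 1) (hb2 : b * b = 1) (hc : a * b = b * a) : ¬ IsZGroup L := by
  intro hZ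
  haveI : Fact (Nat.Prime 2) := ⟨Nat.prime_two⟩
  set T := closure ({a, b} : Set L)
  have hT : IsPGroup 2 T := fun t => by
    refine ⟨1, Subtype.ext ?_⟩
    push_cast
    rw [pow_two]
    have : (t : L) = 1 ∨ (t : L) = a ∨ (t : L) = b ∨ (t : L) = a * b := by
      refine closure_induction (p := fun x _ => x = 1 ∨ x = a ∨ x = b ∨ x = a * b) ?_ (Or.inl rfl) ?_ ?_ t.2
      · rintro x (rfl | rfl)
        · exact Or.inr (Or.inl rfl)
        · exact Or.inr (Or.inr (Or.inl rfl))
      · have e1 : ∀ y, a * (a * y) = y := fun y => by rw [← mul_assoc, ha2, one_mul]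
        have e2 : ∀ y, b * (b * y) = y := fun y => by rw [← mul_assoc, hb2, one_mul]
        have e3 : ∀ y, b * (a * y) = a * (b * y) := fun y => by rw [← mul_assoc, ← hc, mul_assoc]
        intro x y _ _ hx hy
        rcases hx with rfl | rfl | rfl | rfl <;> rcases hy with rfl | rfl | rfl | rfl <;>
          simp [mul_assoc, ha2, hb2, e1, e2, e3, ← hc]
      · intro x _ hx
        have ea : a⁻¹ = a := inv_eq_of_mul_eq_one_right ha2
        have eb : b⁻¹ = b := inv_eq_of_mul_eq_one_right hb2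
        rcases hx with rfl | rfl | rfl | rfl <;> simp [ea, eb, ← hc]
    rcases this with e | e | e | e <;> rw [e]
    · exact one_mul 1
    · exact ha2
    · exact hb2
    · rw [show a * b * (a * b) = a * (b * a) * b by group, ← hc, ← mul_assoc, ha2, one_mul, hb2]
  haveI := hZ
  haveI : IsCyclic T := hT.isCyclic_of_isZGroup
  have hcl : ∀ w : L, w * w = 1 → w ≠ 1 → orderOf w = 2 := fun w h h' => orderOf_eq_prime (by rw [pow_two, h]) h'
  haveI := Fintype.ofFinite T
  have huniq : ∀ {w w' : T}, orderOf w = 2 → orderOf w' = 2 → w = w' := by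
    intro w w' hw hw'
    have h1 := IsCyclic.card_orderOf_eq_totient (α := T) (d := 2) (hw ▸ orderOf_dvd_card)
    rw [Nat.totient_two, Finset.card_eq_one] at h1
    obtain ⟨u, hu⟩ := h1
    have e1 : w ∈ ({u} : Finset T) := hu ▸ Finset.mem_filter.2 ⟨Finset.mem_univ _, hw⟩
    have e2 : w' ∈ ({u} : Finset T) := hu ▸ Finset.mem_filter.2 ⟨Finset.mem_univ _, hw'⟩
    rw [Finset.mem_singleton] at e1 e2
    rw [e1, e2]
  refine hab (congrArg Subtype.val (huniq (w := (⟨a, subset_closure (Or.inl rfl)⟩ : T))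
    (w' := (⟨b, subset_closure (Or.inr rfl)⟩ : T)) ?_ ?_))
  · rw [orderOf_mk]; exact hcl a ha2 ha
  · rw [orderOf_mk]; exact hcl b hb2 hb

theorem GoodKer.of_surjective {L : Type v} [Group L] [Finite L] (hL : GoodQuot L) {f : G →* L}
    (hf : Function.Surjective f) {N : Subgroup G} (hN : f.ker = N) : GoodKer N := by
  subst hN
  have hidx : f.ker.index = Nat.card L := by
    rw [Subgroup.index_ker, MonoidHom.range_eq_top.2 hf, card_top]
  obtain ⟨a, b, ha, hb, hab, ha2, hb2, hc⟩ := hL.klein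
  refine ⟨fun O hO hodd => ?_, fun hZ => ?_, ?_, ?_, fun h g => ?_, fun h x hx => ?_⟩
  · rw [← Subgroup.map_eq_bot_iff]
    exact hL.odd_free _ (Normal.map hO f hf) (Odd.of_dvd_nat hodd (card_map_dvd O f))
  · exact not_isZGroup_of_klein ha hb hab ha2 hb2 hc (@IsZGroup.of_surjective _ _ _ _ f _ hZ hf)
  · obtain ⟨a', rfl⟩ := hf a
    obtain ⟨b', rfl⟩ := hf b
    refine ⟨a', b', ha, hb, fun e => hab ?_, ?_, ?_⟩
    · rw [MonoidHom.mem_ker, map_mul, map_inv, mul_inv_eq_one] at e; exact e
    · rw [MonoidHom.mem_ker, map_mul, ha2]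
    · rw [MonoidHom.mem_ker, map_mul, hb2]
  · rw [hidx]; exact hL.card_mem
  · rw [MonoidHom.mem_ker, map_pow, pow_two]; exact hL.four (hidx ▸ h) _
  · refine hL.center (hidx ▸ h) _ fun y => ?_
    obtain ⟨g, rfl⟩ := hf y
    have := hx g
    rw [MonoidHom.mem_ker, map_mul, map_mul, map_mul, map_inv, map_inv, mul_inv_eq_one,
      mul_inv_eq_iff_eq_mul] at this
    exact this.symm

/-- A subgroup with cyclic 2-subgroups is a Z-group. -/
theorem isZGroup_of_two_cyclic (h : FPFGroup G) (K : Subgroup G)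
    (hcyc : ∀ T : Subgroup G, T ≤ K → IsPGroup 2 T → IsCyclic T) : IsZGroup K := by
  refine ⟨fun p hp P => ?_⟩
  haveI := Fact.mk hp
  set T := (P : Subgroup K).map K.subtype
  haveI hT : IsCyclic T := by
    rcases eq_or_ne p 2 with rfl | hp2
    · exact hcyc T (map_subtype_le _) (P.2.map _)
    · exact isCyclic_of_isPGroup h hp2 (P.2.map _)
  exact isCyclic_of_surjective _ ((P : Subgroup K).equivMapOfInjective _ K.subtype_injective).symm.surjective

theorem isZGroup_top_iff : IsZGroup (⊤ : Subgroup G) ↔ IsZGroup G :=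
  ⟨fun hZ => @IsZGroup.of_surjective _ _ _ _ (topEquiv (G := G)).toMonoidHom _ hZ (topEquiv (G := G)).surjective,
    fun hZ => @IsZGroup.of_surjective _ _ _ _ (topEquiv (G := G)).symm.toMonoidHom _ hZ
      (topEquiv (G := G)).symm.surjective⟩

omit [Finite G] in
theorem isCyclic_two_of_isZGroup [Finite G] {K T : Subgroup G} (hK : IsZGroup K) (hTK : T ≤ K) (hT : IsPGroup 2 T) :
    IsCyclic T := by
  haveI : Fact (Nat.Prime 2) := ⟨Nat.prime_two⟩
  haveI := hK
  haveI : IsCyclic (T.subgroupOf K) := (hT.of_equiv (subgroupOfEquivOfLe hTK).symm).isCyclic_of_isZGroup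
  exact isCyclic_of_surjective _ (subgroupOfEquivOfLe hTK).surjective

/-- The statement of the six types, without the list of quotients. -/
def SixTypes (N : Subgroup G) : Prop :=
  N.Normal ∧ IsZGroup N ∧ (N = ⊤ ∨
    (∃ f : G →* DihedralGroup 2, Function.Surjective f ∧ f.ker = N) ∨
    (∃ f : G →* alternatingGroup (Fin 4), Function.Surjective f ∧ f.ker = N) ∨
    (∃ f : G →* Equiv.Perm (Fin 4), Function.Surjective f ∧ f.ker = N) ∨
    (∃ f : G →* alternatingGroup (Fin 5), Function.Surjective f ∧ f.ker = N) ∨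
    (∃ f : G →* Equiv.Perm (Fin 5), Function.Surjective f ∧ f.ker = N))

theorem SixTypes.cases {N : Subgroup G} (hN : SixTypes N) : (N = ⊤ ∧ IsZGroup G) ∨ GoodKer N := by
  obtain ⟨-, hZ, rfl | ⟨f, hf, hk⟩ | ⟨f, hf, hk⟩ | ⟨f, hf, hk⟩ | ⟨f, hf, hk⟩ | ⟨f, hf, hk⟩⟩ := hN
  · exact Or.inl ⟨rfl, isZGroup_top_iff.1 hZ⟩
  · exact Or.inr (.of_surjective good_klein hf hk)
  · exact Or.inr (.of_surjective good_alt_four hf hk)
  · exact Or.inr (.of_surjective good_perm_four hf hk)
  · exact Or.inr (.of_surjective good_alt_five hf hk)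
  · exact Or.inr (.of_surjective good_perm_five hf hk)

theorem sixTypes_solvable (h : FPFGroup G) [Group.IsSolvable G] (hZ : ¬ IsZGroup G) : ∃! N : Subgroup G, SixTypes N := by
  classical
  haveI : Fact (Nat.Prime 2) := ⟨Nat.prime_two⟩
  -- the odd core
  obtain ⟨O, ⟨hOn, hOodd⟩, hmax⟩ := (Set.toFinite {N : Subgroup G | N.Normal ∧ Odd (Nat.card N)}).exists_maximal
    ⟨⊥, inferInstance, by simp⟩
  haveI := hOn
  have hle : ∀ W : Subgroup G, W.Normal → Odd (Nat.card W) → W ≤ O := fun W hW hWo => by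
    haveI := hW
    have hodd : Odd (Nat.card ↥(W ⊔ O)) := by
      have e := relIndex_mul_relIndex ⊥ O (W ⊔ O) bot_le le_sup_right
      rw [relIndex_bot_left, relIndex_bot_left, Subgroup.relIndex_sup_right] at e
      rw [← e]
      exact hOodd.mul (Odd.of_dvd_nat hWo (Subgroup.relIndex_dvd_card O W))
    exact le_sup_left.trans (hmax ⟨Subgroup.sup_normal W O, hodd⟩ le_sup_right)
  have h2 : 2 ∣ Nat.card G := by
    by_contra hodd
    rw [← even_iff_two_dvd, Nat.not_even_iff_odd] at hodd
    exact hZ (isZGroup_top_iff.1 (isZGroup_of_odd h (O := (⊤ : Subgroup G)) (by rwa [card_top])))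
  obtain ⟨z, hz⟩ := exists_prime_orderOf_dvd_card' (G := G) 2 h2
  let π := QuotientGroup.mk' O
  have hπ : Function.Surjective π := QuotientGroup.mk'_surjective O
  have hkerπ : π.ker = O := QuotientGroup.ker_mk' O
  have hinjT : ∀ T : Subgroup G, IsPGroup 2 T → ∀ t ∈ T, π t = 1 → t = 1 := fun T hT t ht e =>
    eq_one_of_odd_two (Odd.of_dvd_nat hOodd (O.orderOf_dvd_natCard (hkerπ ▸ e))) (orderOf_isPGroup hT ht)
  have hzb : orderOf (π z) = 2 := by
    refine orderOf_eq_prime (by rw [← map_pow, ← hz, pow_orderOf_eq_one, map_one]) fun e => ?_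
    have := hinjT (zpowers z) (IsPGroup.of_card (n := 1) (by rw [Nat.card_zpowers, hz, pow_one])) z (mem_zpowers z) e
    rw [this, orderOf_one] at hz
    norm_num at hz
  have huniq : ∀ t : G ⧸ O, orderOf t = 2 → t = π z := by
    intro t ht
    obtain ⟨g, rfl⟩ := hπ t
    have hg2 : g ^ 2 ∈ O := by
      rw [← hkerπ, MonoidHom.mem_ker, map_pow, ← ht, pow_orderOf_eq_one]
    have h1 : π g ^ Nat.card O = π g := by
      obtain ⟨j, hj⟩ := hOodd
      rw [hj, pow_succ, pow_mul, show π g ^ 2 = 1 by rw [← ht, pow_orderOf_eq_one], one_pow, one_mul]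
    have h2' : (g ^ Nat.card O) ^ 2 = 1 := by
      rw [← pow_mul, mul_comm, pow_mul]
      exact congrArg Subtype.val (pow_card_eq_one' (x := (⟨g ^ 2, hg2⟩ : O)))
    rw [← h1, ← map_pow]
    rcases eq_or_ne (g ^ Nat.card O) 1 with e | e
    · exfalso
      rw [← h1, ← map_pow, e, map_one, orderOf_one] at ht
      norm_num at ht
    · rw [involution_unique h (orderOf_eq_prime h2' e) hz]
  have hcore : ∀ N : Subgroup (G ⧸ O), N.Normal → Odd (Nat.card N) → N = ⊥ := by
    intro N hN hodd
    have hOle : O ≤ N.comap π := hkerπ.ge.trans (MonoidHom.ker_le_comap π N)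
    have hsur : (N.comap π).map π = N := map_comap_eq_self_of_surjective hπ N
    have : N.comap π ≤ O := by
      refine hle _ (Normal.comap hN π) ?_
      have e := relIndex_mul_relIndex ⊥ O (N.comap π) bot_le hOle
      rw [relIndex_bot_left, relIndex_bot_left] at e
      rw [← e]
      refine hOodd.mul (Odd.of_dvd_nat hodd ?_)
      have e' := relIndex_comap (⊥ : Subgroup (G ⧸ O)) π (N.comap π)
      rw [MonoidHom.comap_bot, hkerπ, hsur, relIndex_bot_left] at e'
      rw [e']
    rw [← hsur, Subgroup.map_eq_bot_iff, hkerπ]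
    exact this
  have hnc : ∀ P : Sylow 2 (G ⧸ O), ¬ IsCyclic P := by
    intro P hP
    refine hZ (isZGroup_top_iff.1 (isZGroup_of_two_cyclic h ⊤ fun T _ hT => ?_))
    obtain ⟨R, hR⟩ := (hT.map π).exists_le_sylow
    obtain ⟨g, hg⟩ := MulAction.exists_smul_eq (G ⧸ O) P R
    haveI : IsCyclic (R : Subgroup (G ⧸ O)) :=
      isCyclic_of_surjective _ (Sylow.equiv P R).surjective
    exact isCyclic_of_injective ((π.comp T.subtype).codRestrict (R : Subgroup (G ⧸ O))
      fun t => hR (mem_map_of_mem π t.2)) ((injective_iff_map_eq_one _).2 fun t e =>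
        Subtype.ext (hinjT T hT t t.2 (congrArg Subtype.val e)))
  obtain ⟨Nb, hNbn, hNbc, hNbp, hquot, huniqN⟩ := coreFree_spec hzb huniq hcore hnc
  refine ⟨Nb.comap π, ⟨Normal.comap hNbn π, isZGroup_of_two_cyclic h _ fun T hT hTp => ?_, Or.inr ?_⟩, ?_⟩
  · haveI := hNbc
    exact isCyclic_of_injective ((π.comp T.subtype).codRestrict Nb fun t => hT t.2)
      ((injective_iff_map_eq_one _).2 fun t e => Subtype.ext (hinjT T hTp t t.2 (congrArg Subtype.val e)))
  · rcases hquot with ⟨f, hf, hk⟩ | ⟨f, hf, hk⟩ | ⟨f, hf, hk⟩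
    · exact Or.inl ⟨f.comp π, hf.comp hπ, by rw [← MonoidHom.comap_ker, hk]⟩
    · exact Or.inr (Or.inl ⟨f.comp π, hf.comp hπ, by rw [← MonoidHom.comap_ker, hk]⟩)
    · exact Or.inr (Or.inr (Or.inl ⟨f.comp π, hf.comp hπ, by rw [← MonoidHom.comap_ker, hk]⟩))
  · intro N' hN'
    obtain ⟨-, hG⟩ | hgk := hN'.cases
    · exact absurd hG hZ
    obtain ⟨hN'n, hN'Z, -⟩ := hN'
    have hON : O ≤ N' := hgk.odd_le O hOn hOodd
    have hback : (N'.map π).comap π = N' := by
      rw [comap_map_eq, hkerπ, sup_eq_left.2 hON]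
    haveI hMn : (N'.map π).Normal := Normal.map hN'n π hπ
    haveI := hN'Z
    have hMZ : IsZGroup (N'.map π) := IsZGroup.of_surjective (f := π.subgroupMap N') (π.subgroupMap_surjective N')
    obtain ⟨O', T, hO', hT, -, hO'odd, hO'mem, hTp, hTc, hcard, -⟩ :=
      exists_odd_complement (N'.map π) fun T hT hTp => isCyclic_two_of_isZGroup hMZ hT hTp
    have hO'n : O'.Normal := ⟨fun v hv g => hO'mem _ (hMn.conj_mem v (hO' hv) g)
      (by rw [orderOf_conj']; exact Odd.of_dvd_nat hO'odd (O'.orderOf_dvd_natCard hv))⟩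
    rw [hcore O' hO'n hO'odd, card_bot, one_mul] at hcard
    obtain rfl : T = N'.map π := eq_of_le_of_card_ge hT hcard.le
    have hidx : (N'.map π).index = N'.index := by
      conv_rhs => rw [← hback]
      exact (index_comap_of_surjective _ hπ).symm
    rw [← hback]
    congr 1
    refine huniqN _ hMn hTp hTc (fun e => ?_) fun hp => ?_
    · obtain ⟨a, b, ha, hb, hab, ha2, hb2⟩ := hgk.two
      rw [e, MonoidHom.comap_bot] at hback
      have hinv : ∀ x, x ∉ N' → x * x ∈ N' → π x = π z := fun x hx hx2 => by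
        refine huniq _ (orderOf_eq_prime ?_ ?_)
        · rw [← hback, MonoidHom.mem_ker, map_mul] at hx2
          rw [pow_two, hx2]
        · intro e; exact hx (hback ▸ e)
      refine hab (hback ▸ ?_)
      rw [MonoidHom.mem_ker, map_mul, map_inv, hinv a ha ha2, hinv b hb hb2, mul_inv_cancel]
    · have h4 : N'.index = 4 := by
        obtain ⟨i, hi⟩ : ∃ i, (N'.map π).index = 2 ^ i := hp.index _
        rw [hidx] at hi
        have hn3 : ¬ 3 ∣ N'.index := fun h3 => by
          rw [hi] at h3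
          exact absurd (Nat.prime_three.dvd_of_dvd_pow h3) (by norm_num)
        rcases hgk.index_mem with h | h | h | h | h <;> first | exact h | omega
      refine ⟨hidx.trans h4, fun g => ?_⟩
      obtain ⟨x, rfl⟩ := hπ g
      exact ⟨x ^ 2, hgk.four h4 x, map_pow π x 2⟩

theorem sixTypes_nonsolvable (h : FPFGroup G) (hns : ¬ Group.IsSolvable G) : ∃! N : Subgroup G, SixTypes N := by
  classical
  haveI : Fact (Nat.Prime 2) := ⟨Nat.prime_two⟩
  obtain ⟨D⟩ := exists_nonsolvData h hns
  haveI := Icosa.finite_mulAut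
  set cj : alternatingGroup (Fin 5) →* MulAut (alternatingGroup (Fin 5)) := MulAut.conj
  have hcjinj : Function.Injective cj := by
    rw [← MonoidHom.ker_eq_bot_iff]
    refine eq_bot_iff.2 fun a ha => ?_
    rw [← Icosa.center_alt, mem_center_iff]
    intro b
    have := DFunLike.congr_fun (MonoidHom.mem_ker.1 ha) b
    rw [MulAut.conj_apply, MulAut.one_apply, mul_inv_eq_iff_eq_mul] at this
    exact this.symm
  set K := D.act.ker
  have hrange : Nat.card D.act.range = 60 ∨ Nat.card D.act.range = 120 := by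
    have h1 := card_dvd_of_le D.inner_le
    rw [Icosa.card_inner] at h1
    have h2 : Nat.card D.act.range ≤ 120 :=
      (Nat.card_le_card_of_injective _ Subtype.val_injective).trans Icosa.card_mulAut_le
    have := Nat.card_pos (α := D.act.range)
    omega
  have hKidx : K.index = Nat.card D.act.range := Subgroup.index_ker _
  refine ⟨K, ⟨MonoidHom.normal_ker _, isZGroup_of_two_cyclic h K fun T hT hTp => ?_, Or.inr ?_⟩, ?_⟩
  · refine isCyclic_of_injective (inclusion (K := zpowers D.z) fun t ht => ?_) (inclusion_injective _)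
    obtain ⟨m, hm, rfl | rfl⟩ := (D.mem_ker t).1 (hT ht)
    · rw [eq_one_of_odd_two (Odd.of_dvd_nat D.M_odd (D.M.orderOf_dvd_natCard hm)) (orderOf_isPGroup hTp ht)]
      exact one_mem _
    · have hmm : (m * D.z) * (m * D.z) = m * m := by
        rw [mul_assoc, ← mul_assoc D.z m, ← (D.z_comm m).eq, mul_assoc, D.z_sq, mul_one]
      have hm2 : m * m = 1 := eq_one_of_odd_two (Odd.of_dvd_nat D.M_odd (D.M.orderOf_dvd_natCard (mul_mem hm hm)))
        (orderOf_isPGroup hTp (hmm ▸ mul_mem ht ht))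
      have hm1 : m = 1 := by
        refine eq_one_of_odd_two (Odd.of_dvd_nat D.M_odd (D.M.orderOf_dvd_natCard hm)) ?_
        obtain ⟨i, -, hi⟩ := (Nat.dvd_prime_pow Nat.prime_two).1
          (show orderOf m ∣ 2 ^ 1 from orderOf_dvd_of_pow_eq_one (by rw [pow_one, pow_two, hm2]))
        exact ⟨i, hi⟩
      rw [hm1, one_mul]
      exact mem_zpowers _
  · rcases hrange with h60 | h120
    · have hr : D.act.range = cj.range := (eq_of_le_of_card_ge D.inner_le (by rw [h60, Icosa.card_inner])).symm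
      let e : D.act.range ≃* alternatingGroup (Fin 5) :=
        (MulEquiv.subgroupCongr hr).trans (MonoidHom.ofInjective hcjinj).symm
      exact Or.inr (Or.inr (Or.inr (Or.inl ⟨e.toMonoidHom.comp D.act.rangeRestrict,
        e.surjective.comp D.act.rangeRestrict_surjective,
        (ker_equiv_comp _ _).trans (MonoidHom.ker_rangeRestrict _)⟩)))
    · obtain ⟨e⟩ := Icosa.nonempty_perm_equiv
      have hsur : Function.Surjective D.act := by
        rw [← MonoidHom.range_eq_top]
        refine eq_top_of_le_card _ ?_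
        rw [h120]; exact Icosa.card_mulAut_le
      exact Or.inr (Or.inr (Or.inr (Or.inr ⟨e.symm.toMonoidHom.comp D.act, e.symm.surjective.comp hsur,
        ker_equiv_comp _ _⟩)))
  · intro N' hN'
    obtain ⟨-, hG⟩ | hgk := hN'.cases
    · exact absurd (inferInstance : Group.IsSolvable G) hns
    obtain ⟨hN'n, hN'Z, -⟩ := hN'
    haveI := hN'Z
    have hle : N' ≤ K := by
      set X := N'.map D.act
      have hconj : ∀ a, ∀ x ∈ X, cj a * x * (cj a)⁻¹ ∈ X := by
        rintro a _ ⟨n, hn, rfl⟩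
        obtain ⟨g, hg⟩ := D.inner_le ⟨a, rfl⟩
        exact ⟨g * n * g⁻¹, hN'n.conj_mem n hn g, by rw [map_mul, map_mul, map_inv, hg]⟩
      haveI hY : (X.comap cj).Normal := ⟨fun y hy a => by
        rw [mem_comap, map_mul, map_mul, map_inv]; exact hconj a _ hy⟩
      rcases hY.eq_bot_or_eq_top with hbot | htop
      · intro n hn
        rw [MonoidHom.mem_ker]
        refine MulEquiv.ext fun a => ?_
        have h1 : D.act n * cj a * (D.act n)⁻¹ * (cj a)⁻¹ = cj (D.act n a * a⁻¹) := by
          rw [map_mul, map_inv]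
          congr 1
          refine MulEquiv.ext fun b => ?_
          simp [cj, MulAut.mul_apply, MulAut.conj_apply, MulAut.inv_apply_self]
        have h2 : cj (D.act n a * a⁻¹) ∈ X := by
          rw [← h1, mul_assoc, mul_assoc, ← mul_assoc (cj a)]
          exact mul_mem (mem_map_of_mem _ hn) (hconj a _ (inv_mem (mem_map_of_mem _ hn)))
        have h3 : D.act n a * a⁻¹ ∈ X.comap cj := h2
        rw [hbot, mem_bot, mul_inv_eq_one] at h3
        exact h3
      · exfalso
        have hXZ : IsZGroup X := IsZGroup.of_surjective (f := D.act.subgroupMap N') (D.act.subgroupMap_surjective N')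
        haveI := hXZ
        let e : alternatingGroup (Fin 5) →* X := cj.codRestrict X fun a => mem_comap.1 (htop ▸ mem_top a)
        have he : Function.Injective e := fun a b hab => hcjinj (congrArg Subtype.val hab)
        haveI : IsZGroup (alternatingGroup (Fin 5)) := IsZGroup.of_injective he
        obtain ⟨a, b, h1, h2, h3, h4, h5, h6⟩ := good_alt_five.klein
        exact not_isZGroup_of_klein h1 h2 h3 h4 h5 h6 inferInstance
    refine eq_of_le_of_card_ge hle ?_
    by_contra hlt
    push Not at hlt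
    have e1 := relIndex_mul_index hle
    have hne : N'.relIndex K ≠ 1 := fun e => hlt.ne (by rw [le_antisymm hle (relIndex_eq_one.1 e)])
    have hr2 : N'.relIndex K = 2 ∧ N'.index = 120 := by
      rw [hKidx] at e1
      have hpos : N'.relIndex K ≠ 0 := Subgroup.index_ne_zero_of_finite
      rcases hrange with h | h <;> rw [h] at e1 <;> rcases hgk.index_mem with i | i | i | i | i <;>
        rw [i] at e1 <;> omega
    obtain ⟨x, hxK, hxN⟩ : ∃ x ∈ K, x ∉ N' := by
      by_contra hno
      push Not at hno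
      exact hne (relIndex_eq_one.2 hno)
    refine hxN (hgk.center hr2.2 x fun g => ?_)
    have hgx : g * x * g⁻¹ ∈ K := (MonoidHom.normal_ker D.act).conj_mem x hxK g
    refine (Subgroup.mul_mem_iff_of_index_two (H := N'.subgroupOf K) hr2.1
      (a := ⟨_, hgx⟩) (b := ⟨x⁻¹, inv_mem hxK⟩)).2 ⟨fun h' => ?_, fun h' => absurd (inv_mem_iff.1 h') hxN⟩
    exact absurd (hN'n.conj_mem _ h' g⁻¹) (by simpa [mul_assoc] using hxN)

theorem sixTypes_unique (h : FPFGroup G) : ∃! N : Subgroup G, SixTypes N := by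
  by_cases hZ : IsZGroup G
  · refine ⟨⊤, ⟨inferInstance, isZGroup_top_iff.2 hZ, Or.inl rfl⟩, fun N hN => ?_⟩
    obtain ⟨rfl, -⟩ | hgk := hN.cases
    · rfl
    · exact absurd hZ hgk.notZ
  by_cases hs : Group.IsSolvable G
  · exact sixTypes_solvable h hZ
  · exact sixTypes_nonsolvable h hs

end Cfsg.Agent.Lib.ZassSL25
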